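import Cfsg.Agent.Lib.Goldschmidt53.RankTwoMin.Case1Local
import Mathlib.GroupTheory.Transfer
import Cfsg.Agent.Lib.PGroups.Omega

/-!
# Rank two, all involutions central: `5` does not divide the order of `O(C(a))`

A Sylow 5-subgroup of `C(a)` is one of `G`, and the transfer to `C(a) / O(C(a)) S` sends `f` to
`|G : C(a)|` times its image, although `G` is simple.
-/

set_option autoImplicit false
set_option linter.style.haveILetI false
set_option linter.unusedSectionVars false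

universe u

namespace Cfsg.Agent.Lib.Goldschmidt53.RankTwoMin

open Subgroup MulAction
open Cfsg.Agent.Lib.Walter (core coreC)
open Cfsg.Agent.Lib.PiHomog3258

attribute [local instance] Classical.propDecidable

variable {G : Type u} [Group G] [Finite G]

namespace Data

variable {S : Sylow 2 G} {A : Subgroup G} {a x₀ : ↥(S : Subgroup G)} {f g : G}
variable (D : Data S A a x₀ f g) (H : Separated S A)
include D H

/-- `|G : C(a)|` is prime to 5. -/
theorem not_dvd_index (h5 : 5 ∣ Nat.card ↥(core (a : G))) :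
    ¬ 5 ∣ (centralizer ({(a : G)} : Set G)).index := by
  haveI : Fact (Nat.Prime 5) := ⟨by norm_num⟩
  intro hdvd
  set C := centralizer ({(a : G)} : Set G)
  set K := core (a : G)
  let L : Subgroup G :=
    { carrier := {k | k ∈ K ∧ ∃ j : ℕ, k ^ 5 ^ j = 1}
      one_mem' := ⟨one_mem _, 0, one_pow _⟩
      mul_mem' := fun {k l} hk hl => by
        obtain ⟨hk, i, hi⟩ := hk
        obtain ⟨hl, j, hj⟩ := hl
        refine ⟨mul_mem hk hl, i + j, ?_⟩
        rw [(show Commute k l from D.core_comm H D.a_mem D.a_ne k hk l hl).mul_pow, pow_add,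
          pow_mul, hi, one_pow, one_mul, mul_comm, pow_mul, hj, one_pow]
      inv_mem' := fun {k} hk => by
        obtain ⟨hk, i, hi⟩ := hk
        exact ⟨inv_mem hk, i, by rw [inv_pow, hi, inv_one]⟩ }
  have hLK : L ≤ K := fun k hk => hk.1
  have hLC : L ≤ C := hLK.trans (Walter.core_le (a : G))
  have hCL : C ≤ normalizer (L : Set G) := fun c hc => by
    have hkey : ∀ c ∈ C, ∀ k ∈ L, c * k * c⁻¹ ∈ L := fun c hc k hk => by
      refine ⟨(mem_normalizer_iff.1 (Walter.centralizer_le_normalizer_core (a : G) hc) k).1 hk.1,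
        hk.2.choose, ?_⟩
      rw [conj_pow, hk.2.choose_spec, mul_one, mul_inv_cancel]
    refine mem_normalizer_iff.2 fun k => ⟨hkey c hc k, fun h => ?_⟩
    have := hkey c⁻¹ (inv_mem hc) _ h
    simpa [mul_assoc] using this
  obtain ⟨l, hl5⟩ := exists_prime_orderOf_dvd_card' 5 h5
  have hl : (l : G) ∈ L := ⟨l.2, 1, by
    rw [pow_one, ← SubmonoidClass.coe_pow, ← hl5, pow_orderOf_eq_one, OneMemClass.coe_one]⟩
  have hl1 : (l : G) ≠ 1 := fun e => by
    rw [← Subgroup.orderOf_coe, e, orderOf_one] at hl5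
    omega
  have hL5 : IsPGroup 5 ↥(L.subgroupOf C) := fun k => by
    obtain ⟨j, hj⟩ := (mem_subgroupOf.1 k.2).2
    exact ⟨j, Subtype.ext (Subtype.ext (by push_cast; exact hj))⟩
  haveI : (L.subgroupOf C).Normal := normal_subgroupOf_of_le_normalizer hCL
  obtain ⟨P⟩ : Nonempty (Sylow 5 ↥C) := inferInstance
  have hLP : L.subgroupOf C ≤ (P : Subgroup ↥C) := by
    obtain ⟨Q, hQ⟩ := hL5.exists_le_sylow
    obtain ⟨c, rfl⟩ := MulAction.exists_smul_eq ↥C Q P
    intro x hx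
    rw [Sylow.coe_subgroup_smul, mem_pointwise_smul_iff_inv_smul_mem]
    refine hQ ?_
    rw [← map_inv]
    exact Subgroup.Normal.conj_mem inferInstance x hx c⁻¹
  set P₀ := (P : Subgroup ↥C).map C.subtype
  set e := (Nat.card ↥C).factorization 5
  have hP₀ : Nat.card ↥P₀ = 5 ^ e := by
    rw [card_map_of_injective (subtype_injective _)]
    exact P.card_eq_multiplicity
  have hpow : 5 ^ (e + 1) ∣ Nat.card G := by
    rw [← C.card_mul_index, pow_succ]
    exact Nat.mul_dvd_mul (Nat.ordProj_dvd _ _) hdvd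
  obtain ⟨Q, hQ, hPQ⟩ := Sylow.exists_subgroup_card_pow_succ hpow hP₀
  haveI hnorm : (P₀.subgroupOf Q).Normal := by
    refine Subgroup.normal_of_index_eq_minFac_card ?_
    rw [hQ, Nat.Prime.pow_minFac (by norm_num) e.succ_ne_zero]
    have h := (P₀.subgroupOf Q).card_mul_index
    rw [Nat.card_congr (subgroupOfEquivOfLe hPQ).toEquiv, hP₀, hQ, pow_succ] at h
    exact Nat.eq_of_mul_eq_mul_left (pow_pos (by norm_num) e) h
  -- `N(P₀) ≤ C(a)`
  have hQC : Q ≤ C := by
    intro n hn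
    have hn' : n ∈ normalizer (P₀ : Set G) :=
      le_normalizer_of_normal_subgroupOf hPQ hn
    have ha2 : (a : G) * a = 1 := congrArg Subtype.val (D.cfg.center_sq a D.cfg.a_mem)
    have haP : ∀ p ∈ P₀, p * (a : G) = a * p := by
      rintro _ ⟨p, -, rfl⟩
      exact mem_centralizer_singleton_iff.1 p.2
    have htL : n * (a : G) * n⁻¹ ∈ centralizer (L : Set G) := by
      refine mem_centralizer_iff.2 fun m hm => ?_
      have hmP : m ∈ P₀ := ⟨⟨m, hLC hm⟩, hLP (mem_subgroupOf.2 hm), rfl⟩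
      have h := haP _ ((mem_normalizer_iff''.1 hn' m).1 hmP)
      calc m * (n * (a : G) * n⁻¹) = n * (n⁻¹ * m * n * a) * n⁻¹ := by group
        _ = n * (a * (n⁻¹ * m * n)) * n⁻¹ := by rw [h]
        _ = _ := by group
    have hS : (S : Subgroup G) ≤ normalizer (L : Set G) := (D.sylow_le D.a_mem).trans hCL
    have hta := D.centralizer_le H D.a_mem D.a_ne hLK
      (fun h => hl1 (Subgroup.mem_bot.1 (h ▸ hl))) hS htL
    have ht : n * (a : G) * n⁻¹ = a := D.involution_eq H D.a_mem D.a_ne l.2 hl1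
      (by rw [show n * (a : G) * n⁻¹ * (n * a * n⁻¹) = n * ((a : G) * a) * n⁻¹ by group, ha2,
        mul_one, mul_inv_cancel])
      (fun h => D.a_ne (conj_eq_one_iff.1 h))
      (mem_centralizer_singleton_iff.1 hta)
      (mem_centralizer_iff.1 htL l hl).symm
    exact mem_centralizer_singleton_iff.2 (mul_inv_eq_iff_eq_mul.1 ht)
  have h := card_dvd_of_le hQC
  rw [hQ] at h
  have := (Nat.Prime.pow_dvd_iff_le_factorization (by norm_num) Nat.card_pos.ne').1 h
  omega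

/-- A 2-subgroup of `C(f)` containing `A` is `A`. -/
theorem two_eq_A {P : Subgroup G} (hP : IsPGroup 2 ↥P) (hPf : ∀ p ∈ P, p * f = f * p)
    (hAP : A ≤ P) : P ≤ A := by
  haveI : Fact (Nat.Prime 2) := ⟨Nat.prime_two⟩
  by_contra hne
  haveI : Group.IsNilpotent ↥P := hP.isNilpotent
  have hlt : A.subgroupOf P < normalizer ((A.subgroupOf P : Subgroup ↥P) : Set ↥P) :=
    Group.normalizerCondition_of_isNilpotent _ (lt_top_iff_ne_top.2 fun h =>
      hne (subgroupOf_eq_top.1 h))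
  obtain ⟨y, hyN, hyA⟩ := SetLike.exists_of_lt hlt
  have hy : ∀ z ∈ A, (y : G) * z * (y : G)⁻¹ ∈ A := fun z hz =>
    mem_subgroupOf.1 ((mem_normalizer_iff.1 hyN ⟨z, hAP hz⟩).1 (mem_subgroupOf.2 hz))
  -- `y` fixes an involution of `A`
  obtain ⟨v, hvA, hv1, hvy⟩ : ∃ v ∈ A, v ≠ 1 ∧ (y : G) * v = v * y := by
    set Q := A ⊔ zpowers (y : G)
    have hQP : Q ≤ P := sup_le hAP (zpowers_le.2 y.2)
    have hQ : IsPGroup 2 ↥Q := hP.to_le hQP
    have hQA : Q ≤ normalizer (A : Set G) := by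
      refine sup_le le_normalizer (zpowers_le.2 (mem_normalizer_iff.2 fun z => ⟨hy z, fun h => ?_⟩))
      obtain ⟨j, hj⟩ := hP y
      have hpow : ∀ (i : ℕ) (w : G), w ∈ A → (y : G) ^ i * w * ((y : G) ^ i)⁻¹ ∈ A := by
        intro i
        induction i with
        | zero => intro w hw; simpa using hw
        | succ i ih =>
          intro w hw
          rw [pow_succ, show (y : G) ^ i * y * w * ((y : G) ^ i * y)⁻¹ =
            (y : G) ^ i * ((y : G) * w * (y : G)⁻¹) * ((y : G) ^ i)⁻¹ by group]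
          exact ih _ (hy w hw)
      obtain ⟨t, ht⟩ : ∃ t, 2 ^ j = t + 1 := ⟨2 ^ j - 1, (Nat.sub_add_cancel Nat.one_le_two_pow).symm⟩
      have hyt : (y : G) ^ (t + 1) = 1 := by rw [← ht]; exact congrArg Subtype.val hj
      have h' := hpow t _ h
      rwa [show (y : G) ^ t * ((y : G) * z * (y : G)⁻¹) * ((y : G) ^ t)⁻¹ =
        (y : G) ^ (t + 1) * z * ((y : G) ^ (t + 1))⁻¹ by rw [pow_succ]; group, hyt, one_mul,
        inv_one, mul_one] at h'
    haveI : (A.subgroupOf Q).Normal := normal_subgroupOf_of_le_normalizer hQA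
    have hne' : A.subgroupOf Q ≠ ⊥ := fun h => D.hyp.ne (by
      rw [← inf_eq_left.2 (le_sup_left : A ≤ Q), ← disjoint_iff]
      exact subgroupOf_eq_bot.1 h)
    obtain ⟨⟨v, hvQ⟩, hvc, hv⟩ := ((A.subgroupOf Q ⊓ center ↥Q).bot_or_exists_ne_one).resolve_left
      (PGroups.normal_inf_center_ne_bot hQ _ hne')
    refine ⟨v, mem_subgroupOf.1 hvc.1, fun h => hv (Subtype.ext h), ?_⟩
    exact congrArg Subtype.val (mem_center_iff.1 hvc.2 ⟨y, mem_sup_right (mem_zpowers _)⟩)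
  obtain ⟨k, hk, s, i, hksi⟩ := D.split v hvA hv1 y (mem_centralizer_singleton_iff.2 hvy)
  have hsf : (s : G) * f ^ (i : ℕ) ∈ centralizer (A : Set G) := by
    refine mul_mem (mem_centralizer_iff.2 fun z hz => (D.comm hz s.2).symm)
      (pow_mem (mem_centralizer_iff.2 fun z hz => ?_) _)
    exact (mem_centralizer_singleton_iff.1 (D.f_mem hz)).symm
  have hkA : k ∈ centralizer (A : Set G) := by
    refine mem_centralizer_iff.2 fun z hz => ?_
    have hzk : k * z * k⁻¹ = (y : G) * z * (y : G)⁻¹ := by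
      rw [hksi, show k * (s : G) * f ^ (i : ℕ) * z * (k * (s : G) * f ^ (i : ℕ))⁻¹ =
        k * ((s : G) * f ^ (i : ℕ) * z * ((s : G) * f ^ (i : ℕ))⁻¹) * k⁻¹ by group,
        ← mem_centralizer_iff.1 hsf z hz, mul_inv_cancel_right]
    have hA' : k * z * k⁻¹ * z⁻¹ ∈ A := mul_mem (hzk ▸ hy z hz) (inv_mem hz)
    have hK' : k * z * k⁻¹ * z⁻¹ ∈ core v := by
      rw [show k * z * k⁻¹ * z⁻¹ = k * (z * k⁻¹ * z⁻¹) by group]
      refine mul_mem hk ((mem_normalizer_iff.1 (Walter.centralizer_le_normalizer_core v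
        (mem_centralizer_singleton_iff.2 ?_)) _).1 (inv_mem hk))
      exact D.comm hvA (by obtain ⟨z', -, rfl⟩ := D.mem_center hz; exact z'.2)
    have h1 : k * z * k⁻¹ * z⁻¹ = 1 := by
      by_contra h4
      have h5 := Subgroup.orderOf_dvd_natCard _ hK'
      rw [D.orderOf_eq hA' h4] at h5
      exact Nat.not_odd_iff_even.2 (even_iff_two_dvd.2 h5) (Walter.odd_core v)
    exact (mul_inv_eq_iff_eq_mul.1 (mul_inv_eq_one.1 h1)).symm
  have hyc : (y : G) ∈ centralizer (A : Set G) := by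
    rw [hksi, mul_assoc]; exact mul_mem hkA hsf
  obtain ⟨s', j, hsj⟩ := D.exists_of_centA H hyc
  have hyf := hPf y y.2
  have hsf' : f * (s' : G) = s' * f := by
    rw [hsj] at hyf
    refine mul_right_cancel (b := f ^ (j : ℕ)) ?_
    calc f * (s' : G) * f ^ (j : ℕ) = f * ((s' : G) * f ^ (j : ℕ)) := mul_assoc _ _ _
      _ = (s' : G) * f ^ (j : ℕ) * f := hyf.symm
      _ = (s' : G) * f * f ^ (j : ℕ) := by group
  have hsA := D.mem_A (D.cfg.f_fix s' hsf')
  have hfj : f ^ (j : ℕ) = 1 := by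
    have hfP : f ^ (j : ℕ) ∈ P := by
      rw [show f ^ (j : ℕ) = (s' : G)⁻¹ * (y : G) by rw [hsj]; group]
      exact mul_mem (inv_mem (hAP hsA)) y.2
    obtain ⟨r, hr⟩ := IsPGroup.iff_orderOf.1 hP ⟨_, hfP⟩
    rw [Subgroup.orderOf_mk] at hr
    refine orderOf_eq_one_iff.1 (Nat.eq_one_of_dvd_coprimes
      ((Nat.coprime_primes Nat.prime_two (by norm_num : Nat.Prime 5)).2 (by norm_num) |>.pow_left r)
      hr.dvd (orderOf_dvd_of_pow_eq_one ?_))
    rw [← pow_mul, mul_comm, pow_mul, D.f_pow_five H, one_pow]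
  rw [hfj, mul_one] at hsj
  exact hyA (mem_subgroupOf.2 (hsj ▸ hsA))

/-- An element conjugating `f` into `C(a)` can be replaced by one of `C(a)`. -/
theorem exists_conj_f_centralizer {x : G}
    (hx : x⁻¹ * f * x ∈ centralizer ({(a : G)} : Set G)) :
    ∃ y ∈ centralizer ({(a : G)} : Set G), x⁻¹ * f * x = y * f * y⁻¹ := by
  haveI : Fact (Nat.Prime 2) := ⟨Nat.prime_two⟩
  set Cf := centralizer ({f} : Set G)
  have ha2 : (a : G) * a = 1 := congrArg Subtype.val (D.cfg.center_sq a D.cfg.a_mem)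
  have hAf : A ≤ Cf := fun z hz =>
    mem_centralizer_singleton_iff.2 (mem_centralizer_singleton_iff.1 (D.f_mem hz)).symm
  set t := x * (a : G) * x⁻¹
  have htf : t ∈ Cf := by
    refine mem_centralizer_singleton_iff.2 ?_
    calc t * f = x * ((a : G) * (x⁻¹ * f * x)) * x⁻¹ := by simp only [t]; group
      _ = x * (x⁻¹ * f * x * a) * x⁻¹ := by rw [mem_centralizer_singleton_iff.1 hx]
      _ = f * t := by simp only [t]; group
  have hA2 : IsPGroup 2 ↥(A.subgroupOf Cf) := fun z => ⟨1, Subtype.ext (Subtype.ext (by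
    push_cast; exact D.hyp.elem.2 _ (mem_subgroupOf.1 z.2)))⟩
  obtain ⟨P, hP⟩ := hA2.exists_le_sylow
  have ht2 : IsPGroup 2 ↥(zpowers (⟨t, htf⟩ : ↥Cf)) := by
    refine IsPGroup.of_card (n := 1) ?_
    rw [Nat.card_zpowers, Subgroup.orderOf_mk, show orderOf t = orderOf (a : G) from
      MulEquiv.orderOf_eq (MulAut.conj x) (a : G), D.orderOf_eq D.a_mem D.a_ne, pow_one]
  obtain ⟨Q, hQ⟩ := ht2.exists_le_sylow
  obtain ⟨c, hc⟩ := MulAction.exists_smul_eq ↥Cf Q P
  have hctP : c * ⟨t, htf⟩ * c⁻¹ ∈ (P : Subgroup ↥Cf) := by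
    rw [← hc, Sylow.coe_subgroup_smul]
    exact ⟨⟨t, htf⟩, hQ (mem_zpowers _), rfl⟩
  have hPA : (P : Subgroup ↥Cf).map Cf.subtype ≤ A :=
    D.two_eq_A H (P.isPGroup'.map _)
      (by rintro _ ⟨p, -, rfl⟩; exact mem_centralizer_singleton_iff.1 p.2)
      fun z hz => ⟨⟨z, hAf hz⟩, hP (mem_subgroupOf.2 hz), rfl⟩
  have hctA : (c : G) * t * (c : G)⁻¹ ∈ A := hPA ⟨_, hctP, rfl⟩
  have hct1 : (c : G) * t * (c : G)⁻¹ ≠ 1 := fun h =>
    D.a_ne (conj_eq_one_iff.1 (conj_eq_one_iff.1 h))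
  obtain ⟨n, -, hnf, hna⟩ := D.exists_move H hctA hct1
  refine ⟨x⁻¹ * (c : G)⁻¹ * n, mem_centralizer_singleton_iff.2 ?_, ?_⟩
  · calc x⁻¹ * (c : G)⁻¹ * n * (a : G)
        = x⁻¹ * (c : G)⁻¹ * (n * (a : G) * n⁻¹) * n := by group
      _ = (a : G) * (x⁻¹ * (c : G)⁻¹ * n) := by rw [hna]; simp only [t]; group
  · have hcf : (c : G)⁻¹ * f * c = f := by
      rw [mul_assoc, ← mem_centralizer_singleton_iff.1 c.2, inv_mul_cancel_left]
    calc x⁻¹ * f * x = x⁻¹ * ((c : G)⁻¹ * f * c) * x := by rw [hcf]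
      _ = x⁻¹ * (c : G)⁻¹ * (f * n) * n⁻¹ * c * x := by group
      _ = x⁻¹ * (c : G)⁻¹ * (n * f) * n⁻¹ * c * x := by rw [hnf]
      _ = _ := by group

/-- **`5` does not divide `|O(C(a))|`.** -/
theorem false_of_five (h5 : 5 ∣ Nat.card ↥(core (a : G))) : False := by
  haveI := D.hyp.simple
  haveI : Fact (Nat.Prime 2) := ⟨Nat.prime_two⟩
  set C := centralizer ({(a : G)} : Set G)
  set KS := core (a : G) ⊔ (S : Subgroup G)
  have hSn : (S : Subgroup G) ≤ normalizer (core (a : G) : Set G) :=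
    (D.sylow_le D.a_mem).trans (Walter.centralizer_le_normalizer_core _)
  have hKS : ∀ y ∈ KS, ∃ k ∈ core (a : G), ∃ s : ↥(S : Subgroup G), y = k * (s : G) := by
    intro y hy
    rw [← SetLike.mem_coe, coe_mul_of_right_le_normalizer_left _ _ hSn] at hy
    obtain ⟨k, hk, s, hs, rfl⟩ := hy
    exact ⟨k, hk, ⟨s, hs⟩, rfl⟩
  have hfKS : f ∈ normalizer (KS : Set G) :=
    normalizer_inf_normalizer_le_normalizer_sup _ _ (Subgroup.mem_inf.2
      ⟨Walter.centralizer_le_normalizer_core _ (D.f_mem D.a_mem), D.cfg.f_norm⟩)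
  have hCKS : C ≤ normalizer (KS : Set G) := by
    intro c hc
    obtain ⟨k, hk, s, i, rfl⟩ := D.split a D.a_mem D.a_ne c hc
    exact mul_mem (mul_mem (le_normalizer (mem_sup_left hk)) (le_normalizer (mem_sup_right s.2)))
      (pow_mem hfKS _)
  haveI : (KS.subgroupOf C).Normal := normal_subgroupOf_of_le_normalizer hCKS
  set fC : ↥C := ⟨f, D.f_mem D.a_mem⟩
  let π := QuotientGroup.mk' (KS.subgroupOf C)
  have hgen : ∀ z, ∃ i : ℕ, z = π fC ^ i := by
    intro z
    obtain ⟨⟨c, hc⟩, rfl⟩ := QuotientGroup.mk'_surjective _ z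
    obtain ⟨k, hk, s, i, rfl⟩ := D.split a D.a_mem D.a_ne c hc
    refine ⟨i, ?_⟩
    rw [← map_pow]
    refine (QuotientGroup.eq.2 (mem_subgroupOf.2 ?_)).symm
    show (f ^ (i : ℕ))⁻¹ * (k * (s : G) * f ^ (i : ℕ)) ∈ KS
    have := (mem_normalizer_iff''.1 (pow_mem hfKS (i : ℕ)) (k * (s : G))).1
      (mul_mem (mem_sup_left hk) (mem_sup_right s.2))
    simpa [mul_assoc] using this
  letI : CommGroup (↥C ⧸ KS.subgroupOf C) :=
    { (inferInstance : Group (↥C ⧸ KS.subgroupOf C)) with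
      mul_comm := fun y z => by
        obtain ⟨i, rfl⟩ := hgen y
        obtain ⟨j, rfl⟩ := hgen z
        rw [← pow_add, ← pow_add, add_comm] }
  let φ : ↥C →* ↥C ⧸ KS.subgroupOf C := π
  have hφ5 : φ fC ^ 5 = 1 := by
    rw [← map_pow, show fC ^ 5 = 1 from Subtype.ext (D.f_pow_five H), map_one]
  have hφ1 : φ fC ≠ 1 := fun h => by
    obtain ⟨k, hk, s, hks⟩ := hKS f (mem_subgroupOf.1 ((QuotientGroup.eq_one_iff fC).1 h))
    obtain ⟨t, ht⟩ := D.cfg.exists_not_center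
    exact absurd (D.cfg.dvd_of_inner (m := 1) hk ht (by rw [pow_one]; exact hks)) (by norm_num)
  have hord : orderOf (φ fC) = 5 := by
    haveI : Fact (Nat.Prime 5) := ⟨by norm_num⟩
    exact orderOf_eq_prime hφ5 hφ1
  -- the transfer is trivial
  have htr : MonoidHom.transfer φ f = 1 := by
    set τ := MonoidHom.transfer φ
    rcases (inferInstance : τ.ker.Normal).eq_bot_or_eq_top with h | h
    · refine absurd ⟨⟨fun y z => ?_⟩⟩ D.hyp.nonabelian
      exact (MonoidHom.ker_eq_bot_iff τ).1 h (by rw [map_mul, map_mul, mul_comm])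
    · exact (h ▸ mem_top f : f ∈ τ.ker)
  letI := C.fintypeQuotientOfFiniteIndex
  rw [MonoidHom.transfer_eq_prod_quotient_orbitRel_zpowers_quot] at htr
  have hterm : ∀ (x : G) (k : ℕ) (hk : x⁻¹ * f ^ k * x ∈ C),
      φ ⟨x⁻¹ * f ^ k * x, hk⟩ = φ fC ^ k := by
    intro x k hk
    by_cases h5k : 5 ∣ k
    · obtain ⟨j, rfl⟩ := h5k
      rw [pow_mul (φ fC), hφ5, one_pow]
      rw [show (⟨x⁻¹ * f ^ (5 * j) * x, hk⟩ : ↥C) = 1 from Subtype.ext (by
        show x⁻¹ * f ^ (5 * j) * x = 1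
        rw [pow_mul, D.f_pow_five H, one_pow, mul_one, inv_mul_cancel]), map_one]
    obtain ⟨m, hm⟩ := exists_pow_eq_self_of_coprime (x := f) (n := k) (by
      rw [D.orderOf_f H]
      exact ((Nat.Prime.coprime_iff_not_dvd (by norm_num)).2 h5k).symm)
    have hxf : x⁻¹ * f * x ∈ C := by
      have := pow_mem hk m
      rwa [show (x⁻¹ * f ^ k * x) ^ m = x⁻¹ * (f ^ k) ^ m * x by
        simpa using conj_pow (a := x⁻¹) (b := f ^ k) (i := m), hm] at this
    obtain ⟨y, hy, he⟩ := D.exists_conj_f_centralizer H hxf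
    rw [show (⟨x⁻¹ * f ^ k * x, hk⟩ : ↥C) = (⟨y, hy⟩ * fC * ⟨y, hy⟩⁻¹) ^ k from Subtype.ext (by
      push_cast
      rw [← he]
      simpa using (conj_pow (a := x⁻¹) (b := f) (i := k)).symm), map_pow, map_mul, map_mul,
      map_inv, mul_inv_cancel_comm]
  rw [Finset.prod_congr rfl fun q _ => hterm _ _ _, Finset.prod_pow_eq_pow_sum,
    ← index_eq_sum_minimalPeriod C f] at htr
  exact D.not_dvd_index H h5 (hord ▸ orderOf_dvd_of_pow_eq_one htr)

end Data

end Cfsg.Agent.Lib.Goldschmidt53.RankTwoMin
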