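import Cfsg.Agent.Lib.Goldschmidt53.RankTwoMin.Case1Local
import Cfsg.Agent.Lib.Goldschmidt53.RankTwoMin.Case1Five

/-!
# Rank two, all involutions central: the odd core of `C(f)`

helper59 (after helper34's note, B5).  `O(C(f))` has only one `A`-invariant Sylow `q`-subgroup `Q`,
so `C(f) ∩ N(S)` normalises it; then some element of `Z(Q)#` is centralised by `a`, and no
non-trivial element of `Q` is centralised by another involution of `A`.  Hence no `q`-element of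
`O(C(a))#` lies in `O(C(f))`.
-/

set_option autoImplicit false
set_option linter.style.haveILetI false
set_option linter.unusedSectionVars false

universe u

namespace Cfsg.Agent.Lib.Goldschmidt53.RankTwoMin

open Subgroup
open scoped Pointwise
open Cfsg.Agent.Lib.Walter (core coreC)
open Cfsg.Agent.Lib.PiHomog3258

attribute [local instance] Classical.propDecidable

variable {G : Type u} [Group G] [Finite G]

namespace Data

variable {S : Sylow 2 G} {A : Subgroup G} {a x₀ : ↥(S : Subgroup G)} {f g : G}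
variable (D : Data S A a x₀ f g)
include D

/-- `N(S)` normalises `A`. -/
theorem conj_mem_A {n : G} (hn : n ∈ normalizer ((S : Subgroup G) : Set G)) {z : G} (hz : z ∈ A) :
    n * z * n⁻¹ ∈ A := by
  obtain ⟨z', hz', rfl⟩ := D.mem_center hz
  refine D.mem_A (z := ⟨_, (mem_normalizer_iff.1 hn _).1 z'.2⟩) (mem_center_iff.2 fun s => ?_)
  have hs := congrArg Subtype.val (mem_center_iff.1 hz'
    ⟨_, (mem_normalizer_iff''.1 hn _).1 s.2⟩)
  simp only [Subgroup.coe_mul] at hs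
  refine Subtype.ext ?_
  show (s : G) * (n * (z' : G) * n⁻¹) = n * (z' : G) * n⁻¹ * s
  calc (s : G) * (n * (z' : G) * n⁻¹) = n * (n⁻¹ * s * n * z') * n⁻¹ := by group
    _ = n * (z' * (n⁻¹ * s * n)) * n⁻¹ := by rw [hs]
    _ = _ := by group

variable (H : Separated S A)
include H

/-- The elements of `C(a)` of `q`-power order lie in `O(C(a))`. -/
theorem mem_core_of_pow {q : ℕ} (hq : q.Prime) (hq2 : q ≠ 2) (hq5 : q ≠ 5) {z : G}
    (hz : z ∈ centralizer ({(a : G)} : Set G)) {j : ℕ} (hzq : z ^ q ^ j = 1) : z ∈ core (a : G) := by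
  set C := centralizer ({(a : G)} : Set G)
  let π := QuotientGroup.mk' (Cfsg.oddCore ↥C)
  obtain ⟨k, hk, s, i, rfl⟩ := D.split a D.a_mem D.a_ne z hz
  have hsC := D.sylow_le D.a_mem s.2
  have hfC := pow_mem (D.f_mem D.a_mem) (i : ℕ)
  have hkC : k ∈ C := Walter.core_le (a : G) hk
  have hπk : π ⟨k, hkC⟩ = 1 := by
    obtain ⟨k₀, hk₀, e⟩ := hk
    exact (QuotientGroup.eq_one_iff _).2 ((Subtype.ext e : k₀ = ⟨k, hkC⟩) ▸ hk₀)
  have hpow : ∀ e : ℕ, ∃ t : ↥(S : Subgroup G),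
      ((s : G) * f ^ (i : ℕ)) ^ e = (t : G) * f ^ ((i : ℕ) * e) := by
    intro e
    induction e with
    | zero => exact ⟨1, by simp⟩
    | succ e ih =>
      obtain ⟨t, ht⟩ := ih
      obtain ⟨u, hu⟩ := D.cfg.exists_conj_f ((i : ℕ) * e) s
      refine ⟨t * u, ?_⟩
      rw [pow_succ, ht, coe_mul, hu, Nat.mul_succ, pow_add]
      group
  obtain ⟨t, ht⟩ := hpow 5
  have h5 : ((s : G) * f ^ (i : ℕ)) ^ (5 * 64) = 1 := by
    rw [pow_mul, ht, mul_comm (i : ℕ) 5, pow_mul, D.f_pow_five H, one_pow, mul_one, ← D.cfg.card,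
      ← SubmonoidClass.coe_pow, pow_card_eq_one', OneMemClass.coe_one]
  have hm : k * (s : G) * f ^ (i : ℕ) ∈ C := hz
  have hπ : π ⟨_, hm⟩ = π ⟨(s : G) * f ^ (i : ℕ), mul_mem hsC hfC⟩ := by
    rw [show (⟨_, hm⟩ : ↥C) = ⟨k, hkC⟩ * ⟨(s : G) * f ^ (i : ℕ), mul_mem hsC hfC⟩ from
      Subtype.ext (mul_assoc _ _ _), map_mul, hπk, one_mul]
  have h1 : π ⟨_, hm⟩ ^ (q ^ j) = 1 := by
    rw [← map_pow, show (⟨_, hm⟩ : ↥C) ^ q ^ j = 1 from Subtype.ext (by push_cast; exact hzq),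
      map_one]
  have h2 : π ⟨_, hm⟩ ^ (5 * 64) = 1 := by
    rw [hπ, ← map_pow, show (⟨(s : G) * f ^ (i : ℕ), mul_mem hsC hfC⟩ : ↥C) ^ (5 * 64) = 1 from
      Subtype.ext (by push_cast; exact h5), map_one]
  have hcop : Nat.Coprime (q ^ j) (5 * 64) := Nat.Coprime.pow_left j
    (Nat.Coprime.mul_right ((Nat.coprime_primes hq (by norm_num)).2 hq5)
      (show Nat.Coprime q (2 ^ 6) from
        Nat.Coprime.pow_right 6 ((Nat.coprime_primes hq Nat.prime_two).2 hq2)))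
  have h3 : π ⟨_, hm⟩ = 1 := orderOf_eq_one_iff.1
    (Nat.eq_one_of_dvd_coprimes hcop (orderOf_dvd_of_pow_eq_one h1) (orderOf_dvd_of_pow_eq_one h2))
  exact ⟨_, (QuotientGroup.eq_one_iff _).1 h3, rfl⟩

/-- A non-trivial element of `O(C(a))` of `q`-power order does not lie in `O(C(f))`. -/
theorem false_of_mem_oddCore {q : ℕ} (hq : q.Prime) (hq2 : q ≠ 2) (hq5 : q ≠ 5) {x : G}
    (hx : x ∈ (Cfsg.oddCore ↥(centralizer ({f} : Set G))).map (centralizer ({f} : Set G)).subtype)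
    (hxa : x ∈ core (a : G)) (hx1 : x ≠ 1) {j : ℕ} (hxq : x ^ q ^ j = 1) : False := by
  classical
  haveI : Fact (Nat.Prime 2) := ⟨Nat.prime_two⟩
  haveI : Fact q.Prime := ⟨hq⟩
  set Cf := centralizer ({f} : Set G) with hCf
  set O := (Cfsg.oddCore ↥Cf).map Cf.subtype with hO
  have hOf : O ≤ Cf := map_subtype_le _
  have hOo : Odd (Nat.card ↥O) := by
    rw [hO, card_map_of_injective (subtype_injective _)]
    exact ZStar.Elements.oddCore_odd
  have hCfO : Cf ≤ normalizer (O : Set G) := by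
    haveI : (Cfsg.oddCore ↥Cf).Normal := by unfold Cfsg.oddCore; infer_instance
    have hkey : ∀ c ∈ Cf, ∀ y ∈ O, c * y * c⁻¹ ∈ O := by
      rintro c hc _ ⟨y, hy, rfl⟩
      exact ⟨⟨c, hc⟩ * y * ⟨c, hc⟩⁻¹, Subgroup.Normal.conj_mem inferInstance y hy _, rfl⟩
    intro c hc
    refine mem_normalizer_iff.2 fun y => ⟨hkey c hc y, fun h => ?_⟩
    have := hkey c⁻¹ (inv_mem hc) _ h
    simpa [mul_assoc] using this
  have hAf : A ≤ Cf := fun z hz =>
    mem_centralizer_singleton_iff.2 (mem_centralizer_singleton_iff.1 (D.f_mem hz)).symm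
  have hAO : A ≤ normalizer (O : Set G) := hAf.trans hCfO
  have hA4 := D.card_A
  have hcop : (Nat.card ↥A).Coprime (Nat.card ↥O) := by
    rw [hA4]
    exact (show Nat.Coprime (2 ^ 2) _ from Nat.Coprime.pow_left 2 (Nat.coprime_two_left.2 hOo))
  haveI : IsMulCommutative ↥A := D.hyp.elem.1
  have hsolv : Group.IsSolvable ↥A ∨ Group.IsSolvable ↥O :=
    Or.inl (Coprime.isSolvable_of_isMulCommutative A)
  have hxA : ∀ z ∈ A, z * x * z⁻¹ = x ∨ z * x * z⁻¹ = x⁻¹ := by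
    intro z hz
    by_cases hz1 : z = 1
    · simp [hz1]
    by_cases hza : z = a
    · subst hza
      exact Or.inl (mul_inv_eq_iff_eq_mul.2
        (mem_centralizer_singleton_iff.1 (Walter.core_le (a : G) hxa)).symm)
    · exact Or.inr (D.inverted H D.a_mem D.a_ne hz hz1 hza x hxa)
  have hUA : A ≤ normalizer ((zpowers x : Subgroup G) : Set G) := by
    intro z hz
    refine Coprime.mem_normalizer_of_conj_smul_eq ?_
    rw [Coprime.conj_smul_eq_map, MonoidHom.map_zpowers]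
    show zpowers (z * x * z⁻¹) = _
    rcases hxA z hz with h | h <;> rw [h]
    rw [zpowers_inv]
  have hU : IsPGroup q ↥(zpowers x) := by
    rintro ⟨y, l, rfl⟩
    refine ⟨j, Subtype.ext ?_⟩
    show (x ^ l) ^ q ^ j = 1
    rw [← zpow_natCast, ← zpow_mul, mul_comm, zpow_mul, zpow_natCast, hxq, one_zpow]
  obtain ⟨Q, hxQ, hQA⟩ :=
    Coprime.exists_invariant_sylow_ge hAO hcop hsolv q (zpowers x) (zpowers_le.2 hx) hU hUA
  set Qg := (Q : Subgroup ↥O).map O.subtype with hQg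
  have hQf : Qg ≤ Cf := (map_subtype_le _).trans hOf
  -- `Q` is the only invariant Sylow subgroup
  have huniq : ∀ R : Sylow q ↥O,
      A ≤ normalizer (((R : Subgroup ↥O).map O.subtype : Subgroup G) : Set G) →
      (R : Subgroup ↥O).map O.subtype = Qg := by
    intro R hR
    obtain ⟨c, hc, hcQ⟩ := Coprime.exists_conj_invariant_sylow hAO hcop hsolv Q R hQA hR
    rw [← hcQ]
    refine Coprime.conj_smul_eq_self_of_mem_normalizer ?_
    obtain ⟨s, i, hsi⟩ := D.exists_of_centA H hc.2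
    have hcf : c * f = f * c := mem_centralizer_singleton_iff.1 (hOf hc.1)
    have hsf : f * (s : G) = s * f := by
      rw [hsi] at hcf
      refine mul_right_cancel (b := f ^ (i : ℕ)) ?_
      calc f * (s : G) * f ^ (i : ℕ) = f * ((s : G) * f ^ (i : ℕ)) := mul_assoc _ _ _
        _ = (s : G) * f ^ (i : ℕ) * f := hcf.symm
        _ = (s : G) * f * f ^ (i : ℕ) := by group
    rw [hsi]
    refine mul_mem (hQA (D.mem_A (D.cfg.f_fix s hsf))) (pow_mem ?_ _)
    refine mem_normalizer_iff.2 fun y => ?_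
    constructor
    · intro hy
      rwa [← mem_centralizer_singleton_iff.1 (hQf hy), mul_inv_cancel_right]
    · intro hy
      have h := mem_centralizer_singleton_iff.1 (hQf hy)
      rw [inv_mul_cancel_right] at h
      have h' : f * (f * y * f⁻¹) = f * y := h.symm
      rw [← mul_left_cancel h']
      exact hy
  -- so it is invariant under `C(f) ∩ N(S)`
  have hn : ∀ n ∈ normalizer ((S : Subgroup G) : Set G), n * f = f * n →
      ∀ y ∈ Qg, n * y * n⁻¹ ∈ Qg := by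
    intro n hnS hnf y hy
    set Q' := Qg.map (MulAut.conj n).toMonoidHom with hQ'
    have hnO : n ∈ normalizer (O : Set G) := hCfO (mem_centralizer_singleton_iff.2 hnf)
    have hQ'O : Q' ≤ O := by
      rintro _ ⟨w, hw, rfl⟩
      exact (mem_normalizer_iff.1 hnO w).1 (map_subtype_le _ hw)
    have hQ'A : A ≤ normalizer (Q' : Set G) := by
      intro z hz
      have hz' : n⁻¹ * z * n ∈ A := by simpa using D.conj_mem_A (inv_mem hnS) hz
      refine mem_normalizer_iff.2 fun w => ?_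
      have key : ∀ (z' : G), z' ∈ A → ∀ w ∈ Qg, z' * w * z'⁻¹ ∈ Qg := fun z' hz' w hw =>
        (mem_normalizer_iff.1 (hQA hz') w).1 hw
      constructor
      · rintro ⟨v, hv, rfl⟩
        refine ⟨_, key _ hz' v hv, ?_⟩
        show n * (n⁻¹ * z * n * v * (n⁻¹ * z * n)⁻¹) * n⁻¹ = z * (n * v * n⁻¹) * z⁻¹
        group
      · rintro ⟨v, hv, hvw⟩
        refine ⟨_, key _ (inv_mem hz') v hv, ?_⟩
        change n * v * n⁻¹ = z * w * z⁻¹ at hvw
        show n * ((n⁻¹ * z * n)⁻¹ * v * (n⁻¹ * z * n)⁻¹⁻¹) * n⁻¹ = w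
        calc n * ((n⁻¹ * z * n)⁻¹ * v * (n⁻¹ * z * n)⁻¹⁻¹) * n⁻¹
            = z⁻¹ * (n * v * n⁻¹) * z := by group
          _ = w := by rw [hvw]; group
    obtain ⟨R, hQR, hRA⟩ := Coprime.exists_invariant_sylow_ge hAO hcop hsolv q Q' hQ'O
      ((Q.isPGroup'.map _).map _) hQ'A
    rw [huniq R hRA] at hQR
    exact hQR ⟨y, hy, rfl⟩
  -- an element of `Z(Q)` centralised by `a`
  have hQ2 : IsPGroup q ↥Qg := Q.isPGroup'.map _
  have hxQg : x ∈ Qg := hxQ (mem_zpowers x)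
  have hsq : ∀ v ∈ A, v * v = 1 := fun v hv => by simpa [pow_two] using D.hyp.elem.2 v hv
  have hconjA : ∀ v ∈ A, ∀ y ∈ Qg, v * y * v⁻¹ ∈ Qg := fun v hv y hy =>
    (mem_normalizer_iff.1 (hQA hv) y).1 hy
  obtain ⟨z, hzQ, hzc, hz1, v, hv, hv1, hzv⟩ : ∃ z ∈ Qg, (∀ y ∈ Qg, y * z = z * y) ∧ z ≠ 1 ∧
      ∃ v ∈ A, v ≠ 1 ∧ v * z = z * v := by
    haveI : Nontrivial ↥Qg := ⟨⟨x, hxQg⟩, 1, fun e => hx1 (congrArg Subtype.val e)⟩
    haveI := hQ2.center_nontrivial
    obtain ⟨⟨⟨z₀, hz₀⟩, hz₀c⟩, hz₀1⟩ := exists_ne (1 : ↥(center ↥Qg))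
    have hc₀ : ∀ y ∈ Qg, y * z₀ = z₀ * y := fun y hy =>
      congrArg Subtype.val (mem_center_iff.1 hz₀c ⟨y, hy⟩)
    have hz₀1' : z₀ ≠ 1 := fun e => hz₀1 (Subtype.ext (Subtype.ext e))
    have hcv : ∀ v ∈ A, ∀ y ∈ Qg, y * (v * z₀ * v⁻¹) = v * z₀ * v⁻¹ * y := by
      intro v hv y hy
      have h := hc₀ _ (hconjA v⁻¹ (inv_mem hv) y hy)
      rw [inv_inv] at h
      calc y * (v * z₀ * v⁻¹) = v * (v⁻¹ * y * v * z₀) * v⁻¹ := by group
        _ = v * (z₀ * (v⁻¹ * y * v)) * v⁻¹ := by rw [h]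
        _ = _ := by group
    have hfix : ∀ v ∈ A, z₀ * (v * z₀ * v⁻¹) ≠ 1 → v ≠ 1 →
        ∃ z ∈ Qg, (∀ y ∈ Qg, y * z = z * y) ∧ z ≠ 1 ∧ ∃ v ∈ A, v ≠ 1 ∧ v * z = z * v := by
      intro v hv hne hv1
      refine ⟨_, mul_mem hz₀ (hconjA v hv _ hz₀), fun y hy => ?_, hne, v, hv, hv1, ?_⟩
      · rw [← mul_assoc, hc₀ y hy, mul_assoc, hcv v hv y hy, ← mul_assoc]
      · refine mul_inv_eq_iff_eq_mul.1 ?_
        rw [show v * (z₀ * (v * z₀ * v⁻¹)) * v⁻¹ =
          (v * z₀ * v⁻¹) * ((v * v) * z₀ * (v * v)⁻¹) by group, hsq v hv]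
        rw [one_mul, inv_one, mul_one, hcv v hv z₀ hz₀]
    obtain ⟨b, hb, hb1, hba⟩ := D.exists_other (u := (a : G)) D.a_mem
    by_cases h1 : z₀ * ((a : G) * z₀ * (a : G)⁻¹) ≠ 1
    · exact hfix _ D.a_mem h1 D.a_ne
    by_cases h2 : z₀ * (b * z₀ * b⁻¹) ≠ 1
    · exact hfix b hb h2 hb1
    push Not at h1 h2
    refine ⟨z₀, hz₀, hc₀, hz₀1', (a : G) * b, mul_mem D.a_mem hb,
      fun e => hba (mul_left_cancel ((hsq _ D.a_mem).trans e.symm)).symm,
      mul_inv_eq_iff_eq_mul.1 ?_⟩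
    have e1 : (a : G) * z₀ * (a : G)⁻¹ = z₀⁻¹ := eq_inv_of_mul_eq_one_right h1
    have e2 : b * z₀ * b⁻¹ = z₀⁻¹ := eq_inv_of_mul_eq_one_right h2
    rw [show (a : G) * b * z₀ * ((a : G) * b)⁻¹ = (a : G) * (b * z₀ * b⁻¹) * (a : G)⁻¹ by group, e2,
      show (a : G) * z₀⁻¹ * (a : G)⁻¹ = ((a : G) * z₀ * (a : G)⁻¹)⁻¹ by group, e1, inv_inv]
  obtain ⟨n, hnS, hnf, hna⟩ := D.exists_move H hv hv1
  have hnf' : n⁻¹ * f = f * n⁻¹ := ((show Commute n f from hnf).inv_left).eq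
  set z' := n⁻¹ * z * n with hz'
  have hz'Q : z' ∈ Qg := by simpa [hz'] using hn n⁻¹ (inv_mem hnS) hnf' z hzQ
  have hz'c : ∀ y ∈ Qg, y * z' = z' * y := fun y hy => by
    have h := hzc _ (hn n hnS hnf y hy)
    rw [hz']
    calc y * (n⁻¹ * z * n) = n⁻¹ * (n * y * n⁻¹ * z) * n := by group
      _ = n⁻¹ * (z * (n * y * n⁻¹)) * n := by rw [h]
      _ = _ := by group
  have hz'a : z' ∈ centralizer ({(a : G)} : Set G) := by
    refine mem_centralizer_singleton_iff.2 ?_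
    rw [hz', show (a : G) = n⁻¹ * v * n by rw [← hna]; group]
    calc n⁻¹ * z * n * (n⁻¹ * v * n) = n⁻¹ * (z * v) * n := by group
      _ = n⁻¹ * (v * z) * n := by rw [hzv]
      _ = _ := by group
  -- an element of `Q` inverted by `a`
  obtain ⟨b, hb, hb1, hba⟩ := D.exists_other (u := (a : G)) D.a_mem
  obtain ⟨m, hmS, hmf, hma⟩ := D.exists_move H hb hb1
  set w := m⁻¹ * (a : G) * m with hw
  have hwA : w ∈ A := by simpa [hw] using D.conj_mem_A (inv_mem hmS) D.a_mem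
  have hwa : w ≠ a := fun e => hba (by
    rw [← hma]
    have h := congrArg (fun y => m * y * m⁻¹) e
    simp only [hw] at h
    rw [← h]; group)
  have hinv : (a : G) * (m * x * m⁻¹) * (a : G)⁻¹ = (m * x * m⁻¹)⁻¹ := by
    have h := D.inverted H D.a_mem D.a_ne hwA (fun e => D.a_ne (by
      rw [show (a : G) = m * w * m⁻¹ by rw [hw]; group, e]; group)) hwa x hxa
    rw [hw] at h
    calc (a : G) * (m * x * m⁻¹) * (a : G)⁻¹
        = m * (m⁻¹ * a * m * x * (m⁻¹ * a * m)⁻¹) * m⁻¹ := by group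
      _ = _ := by rw [h]; group
  -- the `q`-part of `O(C(a))`
  let L : Subgroup G :=
    { carrier := {k | k ∈ core (a : G) ∧ ∃ e : ℕ, k ^ q ^ e = 1}
      one_mem' := ⟨one_mem _, 0, one_pow _⟩
      mul_mem' := fun {k l} hk hl => by
        obtain ⟨hk, e, he⟩ := hk
        obtain ⟨hl, e', he'⟩ := hl
        refine ⟨mul_mem hk hl, e + e', ?_⟩
        rw [(show Commute k l from D.core_comm H D.a_mem D.a_ne k hk l hl).mul_pow, pow_add,
          pow_mul, he, one_pow, one_mul, mul_comm, pow_mul, he', one_pow]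
      inv_mem' := fun {k} hk => by
        obtain ⟨hk, e, he⟩ := hk
        exact ⟨inv_mem hk, e, by rw [inv_pow, he, inv_one]⟩ }
  have hLS : (S : Subgroup G) ≤ normalizer (L : Set G) := fun s hs => by
    have hkey : ∀ c ∈ (S : Subgroup G), ∀ k ∈ L, c * k * c⁻¹ ∈ L := fun c hc k hk => by
      refine ⟨(mem_normalizer_iff.1 (Walter.centralizer_le_normalizer_core (a : G)
        (D.sylow_le D.a_mem hc)) k).1 hk.1, hk.2.choose, ?_⟩
      rw [conj_pow, hk.2.choose_spec, mul_one, mul_inv_cancel]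
    refine mem_normalizer_iff.2 fun k => ⟨hkey s hs k, fun h => ?_⟩
    have := hkey s⁻¹ (inv_mem hs) _ h
    simpa [mul_assoc] using this
  have hLq : IsPGroup q ↥L := fun k => k.2.2.imp fun e he => Subtype.ext he
  obtain ⟨e, he⟩ := hQ2 ⟨z', hz'Q⟩
  have hz'q : z' ^ q ^ e = 1 := congrArg Subtype.val he
  have hz'L : z' ∈ L := ⟨D.mem_core_of_pow H hq hq2 hq5 hz'a hz'q, e, hz'q⟩
  have hz'1 : z' ≠ 1 := fun h => hz1 (by
    rw [show z = n * z' * n⁻¹ by rw [hz']; group, h]; group)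
  have hLK : L ≤ core (a : G) := fun k hk => hk.1
  have hy : m * x * m⁻¹ = 1 := D.eq_one_of_inverted H D.a_mem D.a_ne hq2 hLK hLq hLS
    hz'L hz'1 (hQ2.to_le (zpowers_le.2 (hn m hmS hmf x hxQg)))
    (hz'c _ (hn m hmS hmf x hxQg)).symm hinv
  exact hx1 (conj_eq_one_iff.1 hy)

end Data

end Cfsg.Agent.Lib.Goldschmidt53.RankTwoMin
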