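import Cfsg.Agent.Lib.Goldschmidt53.Local
import Cfsg.Agent.Lib.Goldschmidt53.Facts
import Cfsg.Agent.Lib.Goldschmidt53.RankTwoBadKnown
import Cfsg.Agent.Lib.Walter.NoField.Local.TorusCyclic
import Cfsg.Agent.Lib.Cores.Pi

/-!
# Rank two, all involutions central: a four-group Sylow 2-subgroup

helper72.  If the Sylow 2-subgroup `{1, a, b, ab}` of `X` is a four-group, a non-cyclic `q`-group
centralised by `a` and inverted by `b` meets `O(X)`: modulo the core either the four-group is normal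
or it lies in a component `PSL(2, r)`, where such a group is cyclic.
-/

set_option autoImplicit false
set_option linter.style.haveILetI false
set_option linter.unusedSectionVars false
set_option linter.unusedVariables false

universe u

namespace Cfsg.Agent.Lib.Goldschmidt53.RankTwoMin

open Subgroup

/-- A power of an odd prime. -/
theorem mem_of_mul_self_mem {Q : Type*} [Group Q] [Finite Q] {H : Subgroup Q} {y : Q}
    (hy : Odd (orderOf y)) (h : y * y ∈ H) : y ∈ H := by
  obtain ⟨k, hk⟩ := hy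
  have h1 : y = (y * y) ^ (k + 1) := by
    rw [← pow_two, ← pow_mul, show 2 * (k + 1) = orderOf y + 1 by omega, pow_succ,
      pow_orderOf_eq_one, one_mul]
  rw [h1]
  exact pow_mem h _

/-- In a group without odd core a subgroup `Y` of odd order, centralised by `a` and inverted by `b`,
is cyclic. -/
theorem isCyclic_of_inverted {Q : Type u} [Group Q] [Finite Q] {m : ℕ} (hB : Below.{u} m)
    (hQ : Nat.card Q < m) (hO : Cfsg.oddCore Q = ⊥) (T : Sylow 2 Q)
    (hT : Nat.card ↥(T : Subgroup Q) = 4) (hel : Cfsg.IsElementaryAbelian 2 (T : Subgroup Q))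
    {a b : Q} (ha : a ∈ (T : Subgroup Q)) (ha1 : a ≠ 1) (hb : b ∈ (T : Subgroup Q))
    {Y : Subgroup Q} (hYodd : Odd (Nat.card ↥Y))
    (hYa : ∀ y ∈ Y, y * a = a * y) (hYb : ∀ y ∈ Y, b * y * b⁻¹ = y⁻¹) : IsCyclic ↥Y := by
  classical
  haveI : Fact (Nat.Prime 2) := ⟨Nat.prime_two⟩
  have hcl : Cfsg.IsStronglyClosed (T : Subgroup Q) (T : Subgroup Q) :=
    ⟨le_rfl, fun _ _ _ h => h⟩
  have hd := local_ facts Q m hO hQ hB T (T : Subgroup Q) hel hcl
  have hL : LocalSetting T (T : Subgroup Q) m := ⟨hO, hQ, hB, hel, hcl⟩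
  have hord : ∀ y ∈ Y, Odd (orderOf y) := fun y hy =>
    hYodd.of_dvd_nat (Subgroup.orderOf_dvd_natCard Y hy)
  have hyb : ∀ y ∈ Y, y * b * y⁻¹ * b⁻¹ = y * y := fun y hy => by
    rw [show y * b * y⁻¹ * b⁻¹ = y * (b * y⁻¹ * b⁻¹) by group,
      show b * y⁻¹ * b⁻¹ = (b * y * b⁻¹)⁻¹ by group, hYb y hy, inv_inv]
  by_cases hcase : ∃ K : Subgroup Q, Cfsg.IsComponent K ∧
      ¬ (T : Subgroup Q) ≤ centralizer (K : Set Q)
  · obtain ⟨K, hK, hnc⟩ := hcase
    obtain ⟨hkn, P, hP⟩ := (hd.cases K hK).resolve_left hnc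
    set π := QuotientGroup.mk' (Subgroup.center ↥K)
    have h4 : 4 ≤ Nat.card ↥(((T : Subgroup Q).subgroupOf K).map π) := by
      rw [hP]; exact (facts _ hkn).four_le P
    have hc1 : Nat.card ↥((T : Subgroup Q).subgroupOf K) =
        Nat.card ↥((T : Subgroup Q) ⊓ K : Subgroup Q) := by
      rw [← card_map_of_injective (f := K.subtype) K.subtype_injective, subgroupOf_map_subtype]
    have hc2 : Nat.card ↥((T : Subgroup Q) ⊓ K : Subgroup Q) ≤ 4 :=
      hT ▸ Subgroup.card_le_of_le inf_le_left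
    have hc3 := Nat.le_of_dvd Nat.card_pos
      (Subgroup.card_map_dvd ((T : Subgroup Q).subgroupOf K) π)
    have hTK : (T : Subgroup Q) ≤ K := by
      rw [← Subgroup.eq_of_le_of_card_ge (inf_le_left : (T : Subgroup Q) ⊓ K ≤ _) (by omega)]
      exact inf_le_right
    have hinj : Set.InjOn π ((T : Subgroup Q).subgroupOf K : Set ↥K) := by
      refine Set.injOn_of_ncard_image_eq ?_
      refine le_antisymm Set.ncard_image_le ?_
      rw [← Subgroup.coe_map, ← Nat.card_coe_set_eq, ← Nat.card_coe_set_eq]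
      show Nat.card ↥((T : Subgroup Q).subgroupOf K) ≤
        Nat.card ↥(((T : Subgroup Q).subgroupOf K).map π)
      omega
    have hZ : Subgroup.center ↥K = ⊥ := by
      refine eq_bot_iff.2 fun z hz => Subgroup.mem_bot.2 ?_
      refine hinj (mem_subgroupOf.2 (hL.center_mem_sylow hK hz)) (one_mem _) ?_
      rw [map_one]
      exact (QuotientGroup.eq_one_iff z).2 hz
    obtain ⟨hk, -⟩ := hd.simple K hK hnc hZ
    obtain ⟨R⟩ : Nonempty (Sylow 2 ↥K) := inferInstance
    obtain ⟨U, hU⟩ := (R.2.map K.subtype).exists_le_sylow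
    have hR4 : Nat.card ↥(R : Subgroup ↥K) ≤ 4 := by
      rw [← card_map_of_injective (f := K.subtype) K.subtype_injective]
      refine (Subgroup.card_le_of_le hU).trans ?_
      rw [Sylow.card_eq_multiplicity, ← hT, Sylow.card_eq_multiplicity]
    obtain ⟨F, iF, jF, h1, h2, ⟨e⟩⟩ := RankTwoBad.odd_of_small hk R (by omega)
    -- `Y` normalises `K`
    have hnorm : ∀ y ∈ Y, ∀ k ∈ K, y * k * y⁻¹ ∈ K := by
      intro y hy k hk'
      by_contra hcon
      have hne : K ≠ K.map (MulAut.conj y).toMonoidHom := fun e' =>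
        hcon (e' ▸ mem_map_of_mem (MulAut.conj y).toMonoidHom hk')
      have hcomm := Components.Component.le_centralizer_of_ne
        (Components.Component.conj hK y) hK hne.symm
      have haK' : a ∈ K.map (MulAut.conj y).toMonoidHom := ⟨a, hTK ha, by
        show y * a * y⁻¹ = a
        rw [hYa y hy, mul_inv_cancel_right]⟩
      have haZ : (⟨a, hTK ha⟩ : ↥K) ∈ Subgroup.center ↥K := mem_center_iff.2 fun z =>
        Subtype.ext (mem_centralizer_iff.1 (hcomm haK') z z.2)
      rw [hZ, Subgroup.mem_bot] at haZ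
      exact ha1 (congrArg Subtype.val haZ)
    have hYK : Y ≤ K := fun y hy => mem_of_mul_self_mem (hord y hy) (by
      rw [← hyb y hy]
      exact mul_mem (hnorm y hy b (hTK hb)) (inv_mem (hTK hb)))
    set w := e ⟨a, hTK ha⟩ with hw
    have hw2 : w * w = 1 := by
      rw [hw, ← map_mul, show (⟨a, hTK ha⟩ : ↥K) * ⟨a, hTK ha⟩ = 1 from Subtype.ext (by
        show a * a = 1
        rw [← pow_two]; exact hel.2 a ha), map_one]
    have hw1 : w ≠ 1 := fun h => ha1 (congrArg Subtype.val
      (show (⟨a, hTK ha⟩ : ↥K) = 1 from e.injective (h.trans (map_one e).symm)))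
    have hchar : (2 : F) ≠ 0 := by
      intro h0
      obtain ⟨p, hp⟩ := CharP.exists F
      haveI := hp
      obtain ⟨k, hpp, hk2⟩ := FiniteField.card F p
      have h3 : p ∣ 2 := by
        rw [← CharP.cast_eq_zero_iff F p]
        exact_mod_cast h0
      rw [(Nat.prime_dvd_prime_iff_eq hpp Nat.prime_two).1 h3] at hk2
      have h5 : 2 ∣ Fintype.card F := hk2 ▸ dvd_pow_self 2 k.pos.ne'
      omega
    set H := (Y.subgroupOf K).map e.toMonoidHom with hH
    have hHc : Nat.card ↥H = Nat.card ↥Y := by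
      rw [hH, card_map_of_injective e.injective]
      exact Nat.card_congr (subgroupOfEquivOfLe hYK).toEquiv
    have hcyc := (Walter.NoField.cyclic_of_odd_centralizes hchar hw2 hw1 (H := H)
      (by rw [hHc]; exact hYodd) (by
        rintro _ ⟨y, hy, rfl⟩
        show w * e y = e y * w
        rw [hw, ← map_mul, ← map_mul]
        exact congrArg e (Subtype.ext (hYa y (mem_subgroupOf.1 hy)).symm))).1
    haveI := hcyc
    let ι : ↥Y →* ↥H :=
      (e.toMonoidHom.subgroupMap (Y.subgroupOf K)).comp (subgroupOfEquivOfLe hYK).symm.toMonoidHom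
    refine isCyclic_of_injective ι fun x y hxy => ?_
    have h' := e.injective (congrArg Subtype.val hxy)
    exact Subtype.ext (congrArg (fun z : ↥K => (z : Q)) h')
  · push Not at hcase
    -- the four-group is normal
    have hTO : (T : Subgroup Q) ≤ Cfsg.pCore 2 Q := by
      refine hd.split.trans (sup_le inf_le_right (iSup_le fun K z hz => ?_))
      exact hL.center_mem K.2 (z := ⟨z, hz.2⟩)
        (mem_center_iff.2 fun k => Subtype.ext (mem_centralizer_iff.1 (hcase K.1 K.2 hz.1) k k.2))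
    haveI := pCore_normal Q
    have hTn : ∀ y : Q, y * b * y⁻¹ ∈ (T : Subgroup Q) := fun y =>
      Cores.pCore_le_sylow T (Subgroup.Normal.conj_mem inferInstance b (hTO hb) y)
    suffices h1 : Y = ⊥ by
      haveI : Subsingleton ↥Y := h1 ▸ inferInstance
      infer_instance
    refine eq_bot_iff.2 fun y hy => Subgroup.mem_bot.2 ?_
    have h2 : y * y ∈ (T : Subgroup Q) := by
      rw [← hyb y hy]
      exact mul_mem (hTn y) (inv_mem hb)
    have h3 := mem_of_mul_self_mem (hord y hy) h2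
    have h4 : orderOf y ∣ 4 := hT ▸ Subgroup.orderOf_dvd_natCard _ h3
    refine orderOf_eq_one_iff.1 (Nat.eq_one_of_dvd_coprimes ?_ dvd_rfl h4)
    exact (Nat.coprime_two_right.2 (hord y hy)).pow_right 2

/-- A non-cyclic `q`-group centralised by `a` and inverted by `b` meets the odd core, the four-group
`{1, a, b, ab}` being a Sylow 2-subgroup. -/
theorem exists_mem_oddCore {X : Type u} [Group X] [Finite X] {m : ℕ} (hB : Below.{u} m)
    (hX : Nat.card X < m) (T : Sylow 2 X) (hT : Nat.card ↥(T : Subgroup X) = 4)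
    (hel : Cfsg.IsElementaryAbelian 2 (T : Subgroup X)) {a b : X} (ha : a ∈ (T : Subgroup X))
    (ha1 : a ≠ 1) (hb : b ∈ (T : Subgroup X)) (hb1 : b ≠ 1) (hab : a ≠ b) {q : ℕ} (hq : q.Prime)
    (hq2 : q ≠ 2) {Y : Subgroup X} (hYq : IsPGroup q ↥Y) (hnc : ¬ IsCyclic ↥Y)
    (hYa : ∀ y ∈ Y, y * a = a * y) (hYb : ∀ y ∈ Y, b * y * b⁻¹ = y⁻¹) :
    Y ⊓ Cfsg.oddCore X ≠ ⊥ := by
  haveI : Fact (Nat.Prime 2) := ⟨Nat.prime_two⟩
  haveI : Fact q.Prime := ⟨hq⟩
  intro hbot
  set N := Cfsg.oddCore X with hN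
  set π := QuotientGroup.mk' N with hπ
  have hinj : Function.Injective (π.subgroupMap Y) := by
    rw [injective_iff_map_eq_one]
    intro y hy
    have h1 : (y : X) ∈ Y ⊓ N :=
      ⟨y.2, (QuotientGroup.eq_one_iff _).1 (congrArg Subtype.val hy)⟩
    rw [hbot, Subgroup.mem_bot] at h1
    exact Subtype.ext h1
  have hTinj : ∀ t ∈ (T : Subgroup X), π t = 1 → t = 1 := by
    intro t ht h1
    have h2 : orderOf t ∣ 4 := hT ▸ Subgroup.orderOf_dvd_natCard _ ht
    refine orderOf_eq_one_iff.1 (Nat.eq_one_of_dvd_coprimes ?_ dvd_rfl h2)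
    exact (Nat.coprime_two_right.2 (Cores.oddCore_odd.of_dvd_nat
      (Subgroup.orderOf_dvd_natCard N ((QuotientGroup.eq_one_iff t).1 h1)))).pow_right 2
  set Tb := T.mapSurjective (QuotientGroup.mk'_surjective N) with hTb
  have hTbc : (Tb : Subgroup (X ⧸ N)) = (T : Subgroup X).map π := Sylow.coe_mapSurjective ..
  have hTb4 : Nat.card ↥(Tb : Subgroup (X ⧸ N)) = 4 := by
    rw [hTbc, ← hT]
    exact (Nat.card_congr (Equiv.ofBijective _
      ⟨(injective_iff_map_eq_one (π.subgroupMap (T : Subgroup X))).2 fun t ht =>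
        Subtype.ext (hTinj t t.2 (congrArg Subtype.val ht)),
        π.subgroupMap_surjective (T : Subgroup X)⟩)).symm
  have hTbel : Cfsg.IsElementaryAbelian 2 (Tb : Subgroup (X ⧸ N)) := by
    rw [hTbc]; exact PGroups.elemAb_map _ hel
  have hcard : Nat.card (X ⧸ N) < m :=
    lt_of_le_of_lt (Nat.card_le_card_of_surjective _ (QuotientGroup.mk'_surjective N)) hX
  obtain ⟨k, hk⟩ := hYq.exists_card_eq
  have hodd : Odd (Nat.card ↥(Y.map π)) := by
    rw [← Nat.card_congr (Equiv.ofBijective _ ⟨hinj, π.subgroupMap_surjective Y⟩), hk]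
    exact (hq.odd_of_ne_two hq2).pow
  haveI := isCyclic_of_inverted hB hcard (Cores.pPrimeCore_quotient_pPrimeCore 2) Tb hTb4 hTbel
    (a := π a) (b := π b) (by rw [hTbc]; exact mem_map_of_mem π ha) (fun h => ha1 (hTinj a ha h))
    (by rw [hTbc]; exact mem_map_of_mem π hb) hodd
    (by
      rintro _ ⟨y, hy, rfl⟩
      rw [← map_mul, ← map_mul, hYa y hy])
    (by
      rintro _ ⟨y, hy, rfl⟩
      rw [← map_inv, ← map_mul, ← map_mul, hYb y hy, map_inv])
  exact hnc (isCyclic_of_injective _ hinj)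

end Cfsg.Agent.Lib.Goldschmidt53.RankTwoMin
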