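import Cfsg.Agent.Lib.Goldschmidt53.RankTwoMin.Degree
import Cfsg.Agent.Lib.PiHomog3258.Five.Chars
import Cfsg.Agent.Lib.BC78.PowChar

/-!
# Rank two, all involutions central: a Galois automorphism permutes the rows

`ψ(x) = χ(x^k)` with `k ≡ 2` on the 5-part and `k ≡ 1` on the rest of the order of `G`.
-/

set_option autoImplicit false
set_option linter.style.haveILetI false
set_option linter.unusedSectionVars false

universe u

namespace Cfsg.Agent.Lib.Goldschmidt53.RankTwoMin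

open Subgroup Cfsg.Agent.Lib.Characters.Basic
open Cfsg.Agent.Lib.PiHomog3258
open Cfsg.Agent.Lib.U34Type98
open scoped ComplexConjugate

attribute [local instance] Classical.propDecidable

variable {G : Type u} [Group G] [Finite G]

theorem exists_coprime_power (h5 : 5 ∣ Nat.card G) (h64 : 64 ∣ Nat.card G) :
    ∃ k : ℕ, k.Coprime (Nat.card G) ∧ k % 5 = 2 ∧ k ≡ 1 [MOD 64] := by
  haveI : Fact (Nat.Prime 5) := ⟨by norm_num⟩
  set N := Nat.card G
  have hN : N ≠ 0 := Nat.card_pos.ne'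
  set r := N.factorization 5 with hr
  set m := N / 5 ^ r
  have hmul : 5 ^ r * m = N := Nat.ordProj_mul_ordCompl_eq_self N 5
  have hcm : Nat.Coprime 5 m := Nat.coprime_ordCompl (by norm_num) hN
  obtain ⟨k, hk1, hk2⟩ := Nat.chineseRemainder (hcm.pow_left r) 2 1
  have hr0 : r ≠ 0 := (Nat.Prime.factorization_pos_of_dvd (by norm_num) hN h5).ne'
  have h64m : 64 ∣ m := (Nat.Coprime.pow_right r (by norm_num : Nat.Coprime 64 5)).dvd_of_dvd_mul_left
    (by rw [hmul]; exact h64)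
  refine ⟨k, ?_, ?_, hk2.of_dvd h64m⟩
  · rw [← hmul]
    refine Nat.Coprime.mul_right ?_ ?_
    · show Nat.gcd k (5 ^ r) = 1
      rw [hk1.gcd_eq]
      exact Nat.Coprime.pow_right r (by norm_num)
    · show Nat.gcd k m = 1
      rw [hk2.gcd_eq, Nat.gcd_one_left]
  · exact hk1.of_dvd (dvd_pow_self 5 hr0)

namespace Data

variable {S : Sylow 2 G} {A : Subgroup G} {a x₀ : ↥(S : Subgroup G)} {f g : G}
variable (D : Data S A a x₀ f g) {M : Ideal Cfsg.AlgInt} (hM : Cfsg.IsPModular 2 M)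
include D

include hM in
/-- The Galois map on rows. -/
theorem exists_gal {χ : Cfsg.IrrCharacter G} (hχ : χ ∈ (Section.blk G M).erase (oneChar G)) :
    ∃ ψ ∈ (Section.blk G M).erase (oneChar G), (ψ : G → ℂ) x₀ = (χ : G → ℂ) x₀ ∧
      (ψ : G → ℂ) a = (χ : G → ℂ) a ∧ ∀ j : Fin 5,
        Five.Config.coef (ψ : G → ℂ) a f j = Five.Config.coef (χ : G → ℂ) a f (3 * j) := by
  haveI : Fact (Nat.Prime 2) := ⟨Nat.prime_two⟩
  obtain ⟨hχ1, hχB⟩ := Finset.mem_erase.1 hχ
  by_cases hrow : (χ : G → ℂ) x₀ = 0 ∧ ∀ i : Fin 5, (χ : G → ℂ) ((a : G) * f ^ (i : ℕ)) = 0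
  · exact ⟨χ, hχ, rfl, rfl, fun j => by simp [Five.Config.coef, hrow.2]⟩
  have h5 : 5 ∣ Nat.card G := by
    obtain ⟨r, hr⟩ := D.cfg.f_ord
    exact ((dvd_pow_self 5 r.succ_ne_zero).trans hr.symm.dvd).trans (_root_.orderOf_dvd_natCard f)
  have h64 : 64 ∣ Nat.card G := D.cfg.card ▸ card_subgroup_dvd_card _
  obtain ⟨k, hcop, hk5, hk64⟩ := exists_coprime_power h5 h64
  let ψ : Cfsg.IrrCharacter G := ⟨fun x => (χ : G → ℂ) (x ^ k),
    @BC78.PowChar.isIrrCharacter_pow G _ (Fintype.ofFinite G) _ χ.2 k hcop⟩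
  have hS : ∀ s : ↥(S : Subgroup G), (s : G) ^ k = s := fun s => by
    obtain ⟨i, hi⟩ : ∃ i, i = orderOf (s : G) := ⟨_, rfl⟩
    have hd : i ∣ 64 := by
      rw [hi, ← D.cfg.card]; exact Subgroup.orderOf_dvd_natCard _ s.2
    rw [pow_eq_pow_iff_modEq.2 (hi ▸ hk64.of_dvd hd : k ≡ 1 [MOD orderOf (s : G)]), pow_one]
  have ha : ∀ κ ∈ Five.Config.core (a : G), ∀ i : ℕ,
      (χ : G → ℂ) (((a : G) * f ^ i * κ) ^ k) = (χ : G → ℂ) ((a : G) * f ^ (2 * i % 5)) := by
    intro κ hκ i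
    have key : ∀ j : ℕ, ∃ κ' ∈ Five.Config.core (a : G), (f ^ i * κ) ^ j = f ^ (i * j) * κ' := by
      intro j
      induction j with
      | zero => exact ⟨1, one_mem _, by simp⟩
      | succ j ih =>
        obtain ⟨κ', hκ', he⟩ := ih
        refine ⟨(f ^ i)⁻¹ * κ' * f ^ i * κ, mul_mem ?_ hκ, ?_⟩
        · simpa using D.cfg.core_conj (inv_mem (pow_mem D.cfg.f_mem i)) hκ'
        · rw [pow_succ, he, Nat.mul_succ, pow_add]
          group
    obtain ⟨κ', hκ', he⟩ := key k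
    have hc : Commute (a : G) (f ^ i * κ) :=
      (mem_centralizer_singleton_iff.1 (mul_mem (pow_mem D.cfg.f_mem i) (D.cfg.core_le hκ))).symm
    rw [mul_assoc, hc.mul_pow, hS, he, ← mul_assoc, D.cfg.apply_core hM hκ' _ hχB,
      D.cfg.apply_mod hM _ hχB]
    rw [show i * k % 5 = 2 * i % 5 by rw [Nat.mul_mod, hk5]; omega]
  have hψa : ∀ i : ℕ, (ψ : G → ℂ) ((a : G) * f ^ i) = (χ : G → ℂ) ((a : G) * f ^ (2 * i % 5)) :=
    fun i => by simpa [ψ] using ha 1 (one_mem _) i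
  have hψx : (ψ : G → ℂ) x₀ = (χ : G → ℂ) x₀ := congrArg (χ : G → ℂ) (hS x₀)
  have hψB : ψ ∈ Section.blk G M := by
    rw [Section.mem_blk]
    by_contra hnot
    refine hrow ⟨?_, fun i => ?_⟩
    · letI := Fintype.ofFinite ↥(Walter.core (x₀ : G))
      obtain ⟨j, hj⟩ := IsPGroup.iff_orderOf.1 S.isPGroup' x₀
      rw [← Subgroup.orderOf_coe] at hj
      have hx1 : x₀ ≠ 1 := fun h => D.cfg.x₀_not_center (h ▸ one_mem _)
      have hcov := D.cover_at hM hx1
      have h := hcov.sum_apply hM (g := (x₀ : G))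
        ⟨1, mul_one _, Commute.one_right _, ⟨j, hj⟩, by simp⟩ ψ
      rw [if_neg hnot, Finset.sum_congr rfl (g := fun _ => (χ : G → ℂ) x₀) fun κ _ => by
        show (χ : G → ℂ) (((x₀ : G) * κ) ^ k) = _
        rw [(show Commute (x₀ : G) κ from
          (mem_centralizer_singleton_iff.1 (hcov.2.1 κ.2)).symm).mul_pow, hS]
        exact D.apply_core hM hx1 (pow_mem κ.2 k) hχB, Finset.sum_const, nsmul_eq_mul,
        Finset.card_univ] at h
      exact (mul_eq_zero.1 h).resolve_left (Nat.cast_ne_zero.2 Fintype.card_ne_zero)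
    · letI := Fintype.ofFinite ↥(Five.Config.core (a : G))
      have h := (D.cfg.cover hM).sum_apply hM (g := (a : G) * f ^ (3 * (i : ℕ)))
        (by simpa using D.cfg.isPPart (one_mem (Five.Config.core (a : G))) (3 * (i : ℕ))) ψ
      rw [if_neg hnot, Finset.sum_congr rfl
        (g := fun _ => (χ : G → ℂ) ((a : G) * f ^ (i : ℕ))) fun κ _ => by
        show (χ : G → ℂ) (((a : G) * f ^ (3 * (i : ℕ)) * κ) ^ k) = _
        rw [ha _ κ.2, show 2 * (3 * (i : ℕ)) % 5 = i by omega], Finset.sum_const, nsmul_eq_mul,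
        Finset.card_univ] at h
      exact (mul_eq_zero.1 h).resolve_left (Nat.cast_ne_zero.2 Fintype.card_ne_zero)
  have hψ1 : ψ ≠ oneChar G := fun h => hχ1 (Subtype.ext (funext fun x => by
    obtain ⟨y, hy⟩ := (powCoprime (G := G) hcop.symm).surjective x
    have h1 : (ψ : G → ℂ) y = 1 := by rw [h, oneChar_apply]
    rw [oneChar_apply, ← hy]
    exact h1))
  refine ⟨ψ, Finset.mem_erase.2 ⟨hψ1, hψB⟩, hψx, ?_, fun j => ?_⟩
  · have := hψa 0
    simpa using this
  have hconj : ∀ n : ℕ, conj (Five.Config.omega ^ n) = conj (Five.Config.omega ^ (n % 5)) :=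
    fun n => congrArg conj (Five.Config.omega_pow_eq n)
  simp only [Five.Config.coef, hψa, hconj (_ * _)]
  fin_cases j <;> simp [Fin.sum_univ_five] <;> ring

end Data

end Cfsg.Agent.Lib.Goldschmidt53.RankTwoMin
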