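import Cfsg.Agent.Lib.Goldschmidt53.RankTwoMin.Degree
import Cfsg.Agent.Lib.Goldschmidt53.RankTwoMin.Galois
import Cfsg.Agent.Lib.PiHomog3258.Five.Degree

/-!
# Rank two, all involutions central: an elementary abelian `q`-part of `O(C(a))`, `q ≡ 1 (mod 5)`

A Galois automorphism acting only on `q`-th roots of unity, of order 5 there, fixes the rows.  A
character with fewer than five images is fixed, and then five `S`-orbits of weights of `W` have the
same multiplicity: the degree is at least 320.  So `Five.Config.false_of_large` applies.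
-/

set_option autoImplicit false
set_option linter.style.haveILetI false
set_option linter.unusedSectionVars false

universe u

namespace Cfsg.Agent.Lib.Goldschmidt53.RankTwoMin

open Subgroup Cfsg.Agent.Lib.Characters.Basic
open Cfsg.Agent.Lib.Walter (core)
open Cfsg.Agent.Lib.PiHomog3258
open Cfsg.Agent.Lib.PiHomog3258.Five.Degree (LinL conjL conjL_injective mult mult_spec mult_conj)
open Cfsg.Agent.Lib.U34Type98
open scoped ComplexConjugate

attribute [local instance] Classical.propDecidable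

variable {G : Type u} [Group G] [Finite G]

/-- An exponent of multiplicative order 5 modulo `q` that is 1 modulo the part of `|G|` prime to
`q`. -/
theorem exists_coprime_order_five {q : ℕ} (hq : q.Prime) (hq1 : q % 5 = 1) :
    ∃ k : ℕ, k.Coprime (Nat.card G) ∧ orderOf (k : ZMod q) = 5 ∧
      ∀ m : ℕ, m ∣ Nat.card G → m.Coprime q → k ≡ 1 [MOD m] := by
  haveI : Fact q.Prime := ⟨hq⟩
  obtain ⟨u, hu⟩ : ∃ u : (ZMod q)ˣ, orderOf u = 5 := by
    haveI : Fact (Nat.Prime 5) := ⟨by norm_num⟩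
    refine exists_prime_orderOf_dvd_card' 5 ?_
    rw [Nat.card_eq_fintype_card, ZMod.card_units]
    omega
  have hG : Nat.card G ≠ 0 := Nat.card_pos.ne'
  set r := (Nat.card G).factorization q
  set m := Nat.card G / q ^ r
  have hmul : q ^ r * m = Nat.card G := Nat.ordProj_mul_ordCompl_eq_self _ q
  have hcm : Nat.Coprime q m := Nat.coprime_ordCompl hq hG
  obtain ⟨k, hk1, hk2⟩ := Nat.chineseRemainder (hcm.pow_left (r + 1)) (u : ZMod q).val 1
  have hku : (k : ZMod q) = u := by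
    rw [(ZMod.natCast_eq_natCast_iff k _ q).2 (hk1.of_dvd (dvd_pow_self q r.succ_ne_zero)),
      ZMod.natCast_zmod_val]
  refine ⟨k, ?_, by rw [hku, orderOf_units, hu], fun d hd hdq => hk2.of_dvd ?_⟩
  · rw [← hmul]
    refine Nat.Coprime.mul_right (Nat.Coprime.pow_right r ?_) ?_
    · refine Nat.Coprime.symm ((hq.coprime_iff_not_dvd).2 fun h => ?_)
      exact u.ne_zero (hku ▸ (ZMod.natCast_eq_zero_iff k q).2 h)
    · show Nat.gcd k m = 1
      rw [hk2.gcd_eq, Nat.gcd_one_left]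
  · exact (hdq.pow_right r).dvd_of_dvd_mul_left (hmul.symm ▸ hd)

namespace Data

variable {S : Sylow 2 G} {A : Subgroup G} {a x₀ : ↥(S : Subgroup G)} {f g : G}
variable (D : Data S A a x₀ f g) {M : Ideal Cfsg.AlgInt} (hM : Cfsg.IsPModular 2 M)
include D

include hM in
/-- A power map fixing the values on `S` and on the powers of `f` fixes the row. -/
theorem exists_twist {χ : Cfsg.IrrCharacter G} (hχ : χ ∈ (Section.blk G M).erase (oneChar G))
    {i : Fin 5} (hi : (χ : G → ℂ) ((a : G) * f ^ (i : ℕ)) ≠ 0) {k : ℕ}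
    (hk : k.Coprime (Nat.card G)) (hS : k ≡ 1 [MOD 64]) (hf : k ≡ 1 [MOD orderOf f]) :
    ∃ ψ ∈ (Section.blk G M).erase (oneChar G), (∀ x : G, (ψ : G → ℂ) x = (χ : G → ℂ) (x ^ k)) ∧
      (ψ : G → ℂ) x₀ = (χ : G → ℂ) x₀ ∧ ∀ l : Fin 5,
        (ψ : G → ℂ) ((a : G) * f ^ (l : ℕ)) = (χ : G → ℂ) ((a : G) * f ^ (l : ℕ)) := by
  haveI : Fact (Nat.Prime 2) := ⟨Nat.prime_two⟩
  obtain ⟨hχ1, hχB⟩ := Finset.mem_erase.1 hχ
  let ψ : Cfsg.IrrCharacter G := ⟨fun x => (χ : G → ℂ) (x ^ k),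
    @BC78.PowChar.isIrrCharacter_pow G _ (Fintype.ofFinite G) _ χ.2 k hk⟩
  have hpS : ∀ s : ↥(S : Subgroup G), (s : G) ^ k = s := fun s => by
    have hd : orderOf (s : G) ∣ 64 := by
      rw [← D.cfg.card]; exact Subgroup.orderOf_dvd_natCard _ s.2
    rw [pow_eq_pow_iff_modEq.2 (hS.of_dvd hd), pow_one]
  have hpf : ∀ l : ℕ, (f ^ l) ^ k = f ^ l := fun l => by
    rw [← pow_mul, mul_comm, pow_mul, pow_eq_pow_iff_modEq.2 hf, pow_one]
  have ha : ∀ κ ∈ Five.Config.core (a : G), ∀ l : ℕ,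
      (χ : G → ℂ) (((a : G) * f ^ l * κ) ^ k) = (χ : G → ℂ) ((a : G) * f ^ l) := by
    intro κ hκ l
    have key : ∀ j : ℕ, ∃ κ' ∈ Five.Config.core (a : G), (f ^ l * κ) ^ j = f ^ (l * j) * κ' := by
      intro j
      induction j with
      | zero => exact ⟨1, one_mem _, by simp⟩
      | succ j ih =>
        obtain ⟨κ', hκ', he⟩ := ih
        refine ⟨(f ^ l)⁻¹ * κ' * f ^ l * κ, mul_mem ?_ hκ, ?_⟩
        · simpa using D.cfg.core_conj (inv_mem (pow_mem D.cfg.f_mem l)) hκ'
        · rw [pow_succ, he, Nat.mul_succ, pow_add]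
          group
    obtain ⟨κ', hκ', he⟩ := key k
    have hc : Commute (a : G) (f ^ l * κ) :=
      (mem_centralizer_singleton_iff.1 (mul_mem (pow_mem D.cfg.f_mem l) (D.cfg.core_le hκ))).symm
    rw [mul_assoc, hc.mul_pow, hpS, he, pow_mul, hpf, ← mul_assoc, D.cfg.apply_core hM hκ' _ hχB]
  have hψa : ∀ l : Fin 5, (ψ : G → ℂ) ((a : G) * f ^ (l : ℕ)) =
      (χ : G → ℂ) ((a : G) * f ^ (l : ℕ)) := fun l => by
    simpa [ψ] using ha 1 (one_mem _) (l : ℕ)
  have hψB : ψ ∈ Section.blk G M := by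
    rw [Section.mem_blk]
    by_contra hnot
    letI := Fintype.ofFinite ↥(Five.Config.core (a : G))
    have h := (D.cfg.cover hM).sum_apply hM (g := (a : G) * f ^ (i : ℕ))
      (by simpa using D.cfg.isPPart (one_mem (Five.Config.core (a : G))) (i : ℕ)) ψ
    rw [if_neg hnot, Finset.sum_congr rfl
      (g := fun _ => (χ : G → ℂ) ((a : G) * f ^ (i : ℕ))) fun κ _ => ha _ κ.2 _,
      Finset.sum_const, nsmul_eq_mul, Finset.card_univ] at h
    exact hi ((mul_eq_zero.1 h).resolve_left (Nat.cast_ne_zero.2 Fintype.card_ne_zero))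
  have hψ1 : ψ ≠ oneChar G := fun h => hχ1 (Subtype.ext (funext fun x => by
    obtain ⟨y, hy⟩ := (powCoprime (G := G) hk.symm).surjective x
    have h1 : (ψ : G → ℂ) y = 1 := by rw [h, oneChar_apply]
    rw [oneChar_apply, ← hy]
    exact h1))
  exact ⟨ψ, Finset.mem_erase.2 ⟨hψ1, hψB⟩, fun _ => rfl, congrArg (χ : G → ℂ) (hpS x₀), hψa⟩

variable {W : Subgroup G}

omit D in
/-- The action of `S` on the weights. -/
theorem conj_mem_of_le (hS : (S : Subgroup G) ≤ normalizer (W : Set G)) (s : ↥(S : Subgroup G)) :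
    ∀ l ∈ W, (s : G) * l * (s : G)⁻¹ ∈ W :=
  fun l hl => (mem_normalizer_iff.1 (hS s.2) l).1 hl

/-- The stabiliser of a weight. -/
def stabW (hS : (S : Subgroup G) ≤ normalizer (W : Set G)) (μ : LinL W) :
    Subgroup ↥(S : Subgroup G) where
  carrier := {s | ∀ l : ↥W, μ (conjL (conj_mem_of_le hS s) l) = μ l}
  one_mem' l := congrArg μ (Subtype.ext (by simp [conjL]))
  mul_mem' {s t} hs ht l := by
    rw [show conjL (conj_mem_of_le hS (s * t)) l =
      conjL (conj_mem_of_le hS s) (conjL (conj_mem_of_le hS t) l) from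
      Subtype.ext (by simp [conjL, mul_assoc]), hs, ht]
  inv_mem' {s} hs l := by
    rw [← hs (conjL (conj_mem_of_le hS s⁻¹) l)]
    exact congrArg μ (Subtype.ext (by simp [conjL, mul_assoc]))

include hM in
/-- The multiplicity of a weight is a multiple of the order of its stabiliser. -/
theorem dvd_multW [Fintype ↥W] (hS : (S : Subgroup G) ≤ normalizer (W : Set G))
    (hodd : Odd (Nat.card ↥W)) {μ : LinL W} (hμ : μ ≠ 1) {χ : Cfsg.IrrCharacter G}
    (hχ : χ ∈ Section.blk G M) : Nat.card ↥(stabW hS μ) ∣ mult χ μ := by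
  set T := stabW hS μ
  letI := Fintype.ofFinite ↥T
  let act : ↥T →* MulAut ↥W :=
    (W.normalizerMonoidHom).comp ((Subgroup.inclusion hS).comp T.subtype)
  let e := SemidirectProduct.equivProd (φ := act)
  letI : Fintype (↥W ⋊[act] ↥T) := Fintype.ofEquiv _ e.symm
  let ι : (↥W ⋊[act] ↥T) →* G :=
    SemidirectProduct.lift W.subtype ((S : Subgroup G).subtype.comp T.subtype)
      fun t => MonoidHom.ext fun l => rfl
  let Λ : (↥W ⋊[act] ↥T) →* ℂˣ :=
    SemidirectProduct.lift μ 1 fun t => MonoidHom.ext fun l => by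
      show μ (conjL (conj_mem_of_le hS t.1) l) = 1 * μ l * 1⁻¹
      rw [t.2 l]; simp
  obtain ⟨n, hn⟩ := exists_classInner_nat (isCharacter_comp ι (isCharacter_irr χ))
    (Induced.Character.isCharacter_hom Λ)
  rw [Cfsg.classInner, inv_mul_eq_iff_eq_mul₀ (Nat.cast_ne_zero.2 Nat.card_pos.ne')] at hn
  have hcard : Nat.card (↥W ⋊[act] ↥T) = Nat.card W * Nat.card T := by
    rw [Nat.card_congr e, Nat.card_prod]
  have hsum : ∀ g : ↥W ⋊[act] ↥T, ((χ : G → ℂ) ∘ ι) g * conj (Λ g : ℂ) =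
      (χ : G → ℂ) ((g.left : G) * ((g.right : ↥(S : Subgroup G)) : G)) * conj (μ g.left : ℂ) := by
    intro g
    simp [ι, Λ, SemidirectProduct.lift]
  rw [Finset.sum_congr rfl fun g _ => hsum g,
    Fintype.sum_equiv e (fun g : ↥W ⋊[act] ↥T =>
      (χ : G → ℂ) ((g.left : G) * ((g.right : ↥(S : Subgroup G)) : G)) * conj (μ g.left : ℂ))
      (fun p : ↥W × ↥T =>
      (χ : G → ℂ) ((p.1 : G) * ((p.2 : ↥(S : Subgroup G)) : G)) * conj (μ p.1 : ℂ)) fun g => rfl,
    Fintype.sum_prod_type_right, Finset.sum_eq_single (1 : ↥T)] at hn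
  · simp only [OneMemClass.coe_one, mul_one] at hn
    rw [mult_spec, hcard] at hn
    push_cast at hn
    rw [mul_assoc] at hn
    exact ⟨n, by exact_mod_cast mul_left_cancel₀ (Nat.cast_ne_zero.2 Nat.card_pos.ne') hn⟩
  · intro t _ ht
    have hts : (t : ↥(S : Subgroup G)) ≠ 1 := fun h => ht (Subtype.ext h)
    rw [Finset.sum_congr rfl fun k _ => by
      rw [show (k : G) * ((t : ↥(S : Subgroup G)) : G) = ((t : ↥(S : Subgroup G)) : G) *
          (((t : ↥(S : Subgroup G)) : G)⁻¹ * k * ((t : ↥(S : Subgroup G)) : G)) by group,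
        D.apply_coset hM hodd hS hts
          ((mem_normalizer_iff''.1 (hS (t : ↥(S : Subgroup G)).2) _).1 k.2) hχ],
      ← Finset.mul_sum]
    refine mul_eq_zero_of_right _ ?_
    obtain ⟨l, hl⟩ : ∃ l, μ l ≠ 1 := by
      by_contra h
      push Not at h
      exact hμ (MonoidHom.ext h)
    have hs : (μ l : ℂ) * ∑ k : ↥W, (μ k : ℂ) = ∑ k : ↥W, (μ k : ℂ) := by
      rw [Finset.mul_sum]
      exact Fintype.sum_equiv (Equiv.mulLeft l) _ _ fun k => by simp
    rw [← map_sum, show ∑ k : ↥W, (μ k : ℂ) = 0 from by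
      by_contra h
      exact hl (Units.ext (mul_left_eq_self₀.1 hs |>.resolve_right h)), map_zero]
  · exact fun h => absurd (Finset.mem_univ _) h

include hM in
/-- A character fixed by a power map of order 5 on `q`-th roots of unity has degree at least
320. -/
theorem le_degree_of_fixed [Fintype ↥W] {q : ℕ} (hq : q.Prime) (hW1 : W ≠ ⊥)
    (hodd : Odd (Nat.card ↥W)) (hcomm : ∀ l ∈ W, ∀ m ∈ W, l * m = m * l)
    (hexp : ∀ l ∈ W, l ^ q = 1) (hS : (S : Subgroup G) ≤ normalizer (W : Set G))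
    {χ : Cfsg.IrrCharacter G} (hχ : χ ∈ (Section.blk G M).erase (oneChar G)) {k : ℕ}
    (hk : orderOf (k : ZMod q) = 5) (hkG : k.Coprime (Nat.card G))
    (hfix : ∀ x : G, (χ : G → ℂ) (x ^ k) = (χ : G → ℂ) x) {n : ℕ} (hn : (χ : G → ℂ) 1 = n) :
    320 ≤ n := by
  haveI : Fact q.Prime := ⟨hq⟩
  haveI := D.hyp.simple
  obtain ⟨hχ1, hχB⟩ := Finset.mem_erase.1 hχ
  haveI := Five.Degree.finite_lin hcomm
  letI := Fintype.ofFinite (LinL W)
  letI := Fintype.ofFinite ↥(S : Subgroup G)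
  have hdeg : n = ∑ μ : LinL W, mult χ μ := by
    have h := Five.Degree.apply_eq_sum hcomm χ (1 : ↥W)
    simp only [OneMemClass.coe_one, map_one, Units.val_one, mul_one, hn] at h
    exact_mod_cast h
  obtain ⟨μ, hμ, hm⟩ : ∃ μ : LinL W, μ ≠ 1 ∧ mult χ μ ≠ 0 := by
    by_contra hall
    push Not at hall
    obtain ⟨d, hd⟩ := exists_sum_eq W.subtype χ
    simp only [Subgroup.coe_subtype] at hd
    refine (lt_degree hχ1 hW1 hn hd).ne ?_
    have hone : ∀ x : ↥W, (χ : G → ℂ) x = (n : ℂ) := fun x => by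
      rw [Five.Degree.apply_eq_sum hcomm χ x, Finset.sum_eq_single (1 : LinL W), hdeg,
        Finset.sum_eq_single (1 : LinL W)]
      · simp
      · exact fun ν _ hν => hall ν hν
      · exact fun h => absurd (Finset.mem_univ _) h
      · intro ν _ hν; simp [hall ν hν]
      · exact fun h => absurd (Finset.mem_univ _) h
    simp only [hone, Finset.sum_const, Finset.card_univ, ← Nat.card_eq_fintype_card,
      nsmul_eq_mul] at hd
    exact_mod_cast (mul_left_cancel₀ (Nat.cast_ne_zero.2 Nat.card_pos.ne') hd).symm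
  have hμq : ∀ x : ↥W, μ x ^ q = 1 := fun x => by
    rw [← map_pow, show x ^ q = 1 from Subtype.ext (by push_cast; exact hexp x x.2), map_one]
  have hmod : ∀ {x : ↥W} {i j : ℕ}, (i : ZMod q) = j → μ x ^ i = μ x ^ j := fun {x i j} h =>
    pow_eq_pow_iff_modEq.2 (((ZMod.natCast_eq_natCast_iff i j q).1 h).of_dvd
      (orderOf_dvd_of_pow_eq_one (hμq x)))
  -- powers of a weight have the same multiplicity
  have hpow : ∀ (e : ℕ) (ν : LinL W), mult χ (ν ^ (k ^ e)) = mult χ ν := by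
    intro e
    induction e with
    | zero => intro ν; rw [show ν ^ (k ^ 0) = ν from MonoidHom.ext fun x => by
        rw [MonoidHom.pow_apply, pow_zero, pow_one]]
    | succ e ih =>
      intro ν
      rw [show ν ^ (k ^ (e + 1)) = (ν ^ (k ^ e)) ^ k from MonoidHom.ext fun x => by
        rw [MonoidHom.pow_apply, MonoidHom.pow_apply, MonoidHom.pow_apply, pow_succ, pow_mul],
        ← ih ν]
      set ν' := ν ^ (k ^ e)
      have hcW : k.Coprime (Nat.card ↥W) :=
        Nat.Coprime.coprime_dvd_right (card_subgroup_dvd_card W) hkG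
      have h : ∑ x : ↥W, (χ : G → ℂ) x * conj ((ν' ^ k) x : ℂ) =
          ∑ x : ↥W, (χ : G → ℂ) x * conj (ν' x : ℂ) :=
        Fintype.sum_equiv (powCoprime hcW.symm) _ _ fun x => by
          show (χ : G → ℂ) x * conj ((ν' ^ k) x : ℂ) =
            (χ : G → ℂ) ((x ^ k : ↥W) : G) * conj (ν' (x ^ k) : ℂ)
          rw [SubmonoidClass.coe_pow, hfix, MonoidHom.pow_apply, map_pow]
      rw [mult_spec, mult_spec] at h
      exact_mod_cast mul_left_cancel₀ (Nat.cast_ne_zero.2 Nat.card_pos.ne') h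
  let Φ : ↥(S : Subgroup G) × Fin 5 → LinL W := fun p =>
    (μ.comp (conjL (conj_mem_of_le hS p.1))) ^ (k ^ (p.2 : ℕ))
  have hk5 : (k : ZMod q) ^ 5 = 1 := hk ▸ pow_orderOf_eq_one _
  have hfib : ∀ p p' : ↥(S : Subgroup G) × Fin 5, Φ p' = Φ p →
      p'.2 = p.2 ∧ p'.1 * p.1⁻¹ ∈ stabW hS μ := by
    rintro ⟨s, i⟩ ⟨s', i'⟩ he
    set e := (i : ℕ) + (5 - (i' : ℕ)) with hedef
    have ht : ∀ x : ↥W, μ (conjL (conj_mem_of_le hS (s' * s⁻¹)) x) = μ x ^ (k ^ e) := by
      intro x
      obtain ⟨y, rfl⟩ := Finite.injective_iff_surjective.1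
        (conjL_injective (conj_mem_of_le hS s)) x
      have h1 : μ (conjL (conj_mem_of_le hS s') y) ^ (k ^ (i' : ℕ)) =
          μ (conjL (conj_mem_of_le hS s) y) ^ (k ^ (i : ℕ)) := DFunLike.congr_fun he y
      have h2 := congrArg (· ^ (k ^ (5 - (i' : ℕ)))) h1
      simp only [← pow_mul, ← pow_add] at h2
      rw [show conjL (conj_mem_of_le hS (s' * s⁻¹)) (conjL (conj_mem_of_le hS s) y) =
        conjL (conj_mem_of_le hS s') y from Subtype.ext (by simp [conjL, mul_assoc]), hedef, ← h2,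
        show (i' : ℕ) + (5 - (i' : ℕ)) = 5 by omega]
      conv_lhs => rw [← pow_one (μ _)]
      exact hmod (by push_cast; rw [hk5])
    set t := s' * s⁻¹
    have hiter : ∀ (j : ℕ) (x : ↥W),
        μ (conjL (conj_mem_of_le hS (t ^ j)) x) = μ x ^ (k ^ (e * j)) := by
      intro j
      induction j with
      | zero =>
        intro x
        rw [mul_zero, pow_zero, pow_zero, pow_one]
        exact congrArg μ (Subtype.ext (by simp [conjL]))
      | succ j ih =>
        intro x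
        rw [show conjL (conj_mem_of_le hS (t ^ (j + 1))) x =
          conjL (conj_mem_of_le hS (t ^ j)) (conjL (conj_mem_of_le hS t) x) from
          Subtype.ext (by simp [conjL, pow_succ, mul_assoc]), ih, ht, ← pow_mul, ← pow_add,
          Nat.mul_succ, add_comm]
    obtain ⟨x, hx⟩ : ∃ x, μ x ≠ 1 := by
      by_contra h
      push Not at h
      exact hμ (MonoidHom.ext h)
    have h64 := hiter 64 x
    rw [show t ^ 64 = 1 by rw [← D.cfg.card]; exact pow_card_eq_one',
      show conjL (conj_mem_of_le hS 1) x = x from Subtype.ext (by simp [conjL])] at h64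
    have hord : orderOf (μ x) = q := orderOf_eq_prime (hμq x) hx
    have h1 : ((k : ZMod q)) ^ (e * 64) = 1 := by
      have h2 := pow_eq_pow_iff_modEq.1 (((pow_one _).trans h64).symm)
      rw [hord] at h2
      have h3 := (ZMod.natCast_eq_natCast_iff _ _ q).2 h2
      push_cast at h3
      exact h3
    have h5 : 5 ∣ e * 64 := hk ▸ orderOf_dvd_of_pow_eq_one h1
    have h5e : 5 ∣ e := (Nat.Coprime.dvd_mul_right (by norm_num)).1 h5
    have hii : i' = i := by
      apply Fin.ext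
      have := i.2; have := i'.2
      omega
    refine ⟨hii, fun y => ?_⟩
    rw [ht y]
    conv_rhs => rw [← pow_one (μ y)]
    refine hmod ?_
    obtain ⟨j, hj⟩ := h5e
    rw [hj]
    push_cast
    rw [pow_mul, hk5, one_pow]
  letI := Fintype.ofFinite ↥(stabW hS μ)
  have hcount : (Finset.univ : Finset (↥(S : Subgroup G) × Fin 5)).card ≤
      Nat.card ↥(stabW hS μ) * (Finset.univ.image Φ).card := by
    refine Finset.card_le_mul_card_image _ _ fun ν hν => ?_
    obtain ⟨p, -, hp⟩ := Finset.mem_image.1 hν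
    rw [Nat.card_eq_fintype_card, ← Finset.card_univ]
    refine Finset.card_le_card_of_injOn (fun p' => if h : p'.1 * p.1⁻¹ ∈ stabW hS μ then
      (⟨_, h⟩ : ↥(stabW hS μ)) else 1) (fun _ _ => Finset.mem_coe.2 (Finset.mem_univ _)) ?_
    intro p' hp' p'' hp'' he
    obtain ⟨h2, h3⟩ := hfib p p' ((Finset.mem_filter.1 hp').2.trans hp.symm)
    obtain ⟨h2', h3'⟩ := hfib p p'' ((Finset.mem_filter.1 hp'').2.trans hp.symm)
    simp only [dif_pos h3, dif_pos h3', Subtype.mk.injEq, mul_left_inj] at he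
    exact Prod.ext he (h2.trans h2'.symm)
  rw [Finset.card_univ, Fintype.card_prod, ← Nat.card_eq_fintype_card, D.cfg.card,
    Fintype.card_fin] at hcount
  have hT : Nat.card ↥(stabW hS μ) ≤ mult χ μ :=
    Nat.le_of_dvd (Nat.pos_of_ne_zero hm) (D.dvd_multW hM hS hodd hμ hχB)
  calc 320 ≤ Nat.card ↥(stabW hS μ) * (Finset.univ.image Φ).card := hcount
    _ ≤ mult χ μ * (Finset.univ.image Φ).card := Nat.mul_le_mul_right _ hT
    _ = ∑ ν ∈ Finset.univ.image Φ, mult χ ν := by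
      rw [Finset.sum_const_nat (m := mult χ μ), mul_comm]
      intro ν hν
      obtain ⟨p, -, rfl⟩ := Finset.mem_image.1 hν
      exact (hpow _ _).trans (mult_conj χ μ _)
    _ ≤ n := by
      rw [hdeg]
      exact Finset.sum_le_univ_sum_of_nonneg fun _ => Nat.zero_le _

include hM in
/-- **An elementary abelian `q`-subgroup of `O(C(a))` normalised by `S`, `q ≡ 1 (mod 5)`, is
impossible.** -/
theorem large_of_elem {q : ℕ} (hq : q.Prime) (hq1 : q % 5 = 1) {W : Subgroup G} (hW1 : W ≠ ⊥)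
    (hWa : W ≤ core (a : G)) (hcomm : ∀ l ∈ W, ∀ m ∈ W, l * m = m * l)
    (hexp : ∀ l ∈ W, l ^ q = 1) (hS : (S : Subgroup G) ≤ normalizer (W : Set G)) : False := by
  haveI : Fact (Nat.Prime 2) := ⟨Nat.prime_two⟩
  letI := Fintype.ofFinite ↥W
  have hodd : Odd (Nat.card ↥W) := (Walter.odd_core (a : G)).of_dvd_nat (card_dvd_of_le hWa)
  obtain ⟨k, hkG, hk5, hk1⟩ := exists_coprime_order_five (G := G) hq hq1
  have hq2 : q ≠ 2 := by omega
  have hq5 : q ≠ 5 := by omega
  have h64 : k ≡ 1 [MOD 64] := hk1 64 (D.cfg.card ▸ card_subgroup_dvd_card _)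
    (Nat.Coprime.pow_left 6 ((Nat.coprime_primes Nat.prime_two hq).2 hq2.symm) : (2 ^ 6).Coprime q)
  have hf : k ≡ 1 [MOD orderOf f] := hk1 _ (_root_.orderOf_dvd_natCard f) (by
    obtain ⟨r, hr⟩ := D.cfg.f_ord
    rw [hr]
    exact Nat.Coprime.pow_left _ ((Nat.coprime_primes (by norm_num) hq).2 hq5.symm))
  refine D.cfg.false_of_large hM fun χ hχ i _ hi n hn => ?_
  have htw : ∀ e : Fin 5, ∃ ψ ∈ (Section.blk G M).erase (oneChar G),
      (∀ x : G, (ψ : G → ℂ) x = (χ : G → ℂ) (x ^ (k ^ (e : ℕ)))) ∧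
      (ψ : G → ℂ) x₀ = (χ : G → ℂ) x₀ ∧ ∀ l : Fin 5,
        (ψ : G → ℂ) ((a : G) * f ^ (l : ℕ)) = (χ : G → ℂ) ((a : G) * f ^ (l : ℕ)) := fun e =>
    D.exists_twist hM hχ hi (hkG.pow_left _) (by simpa using h64.pow (e : ℕ))
      (by simpa using hf.pow (e : ℕ))
  choose ψ hψ hψx hψW hψa using htw
  by_cases hinj : Function.Injective ψ
  · refine Or.inr ?_
    refine le_trans ?_ (Finset.card_le_card (s := Finset.univ.image ψ) fun φ hφ => ?_)
    · rw [Finset.card_image_of_injective _ hinj, Finset.card_univ, Fintype.card_fin]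
    · obtain ⟨e, -, rfl⟩ := Finset.mem_image.1 hφ
      exact Finset.mem_filter.2 ⟨hψ e, hψW e, hψa e⟩
  · refine Or.inl ?_
    obtain ⟨e, e', he, hne⟩ : ∃ e e' : Fin 5, ψ e = ψ e' ∧ (e : ℕ) < (e' : ℕ) := by
      simp only [Function.Injective, not_forall] at hinj
      obtain ⟨e, e', he, hne⟩ := hinj
      rcases lt_or_gt_of_ne (Fin.val_ne_of_ne hne) with h | h
      · exact ⟨e, e', he, h⟩
      · exact ⟨e', e, he.symm, h⟩
    set d := (e' : ℕ) - (e : ℕ)
    refine D.le_degree_of_fixed hM hq hW1 hodd hcomm hexp hS hχ (k := k ^ d) ?_ (hkG.pow_left d)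
      (fun x => ?_) hn
    · rw [Nat.cast_pow]
      have hcop : (orderOf (k : ZMod q)).Coprime d := by
        rw [hk5]
        refine (Nat.Prime.coprime_iff_not_dvd (by norm_num)).2 fun h => ?_
        have := e'.2
        have := Nat.le_of_dvd (by omega) h
        omega
      rw [hcop.orderOf_pow, hk5]
    · obtain ⟨y, hy⟩ := (powCoprime (G := G) (hkG.pow_left (e : ℕ)).symm).surjective x
      rw [← hy]
      show (χ : G → ℂ) ((y ^ (k ^ (e : ℕ))) ^ (k ^ d)) = (χ : G → ℂ) (y ^ (k ^ (e : ℕ)))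
      rw [← pow_mul, ← pow_add, show (e : ℕ) + d = (e' : ℕ) by omega, ← hψx, ← hψx, he]

end Data

end Cfsg.Agent.Lib.Goldschmidt53.RankTwoMin
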