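import Cfsg.Agent.Lib.Goldschmidt53.RankTwoMin.Case1Local
import Mathlib.GroupTheory.SpecificGroups.Cyclic

/-!
# Rank two, all involutions central: the fixed points of `f` on an elementary subgroup of `O(C(a))`

helper59.  `x₀` acts on `W` as an involution whose two eigenspaces are exchanged by `S`, so `|W|`
is a square; `|C_W(f)| ≡ |W|` mod 5, hence `C_W(f)` is not cyclic unless it is trivial or
`q ≡ 1` mod 5.
-/

set_option autoImplicit false
set_option linter.style.haveILetI false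
set_option linter.unusedSectionVars false

universe u

namespace Cfsg.Agent.Lib.Goldschmidt53.RankTwoMin

open Subgroup
open Cfsg.Agent.Lib.Walter (core coreC)
open Cfsg.Agent.Lib.PiHomog3258

attribute [local instance] Classical.propDecidable

variable {G : Type u} [Group G] [Finite G]

namespace Data

variable {S : Sylow 2 G} {A : Subgroup G} {a x₀ : ↥(S : Subgroup G)} {f g : G}
variable (D : Data S A a x₀ f g)
include D

/-- Some element of `S` multiplies `x₀` by an involution of `A` other than `a`. -/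
theorem exists_swap : ∃ t v : G, t ∈ (S : Subgroup G) ∧ v ∈ A ∧ v ≠ 1 ∧ v ≠ (a : G) ∧
    t * (x₀ : G) * t⁻¹ = (x₀ : G) * v := by
  by_contra hno
  push Not at hno
  set Z := center ↥(S : Subgroup G)
  let w : ↥(S : Subgroup G) → ↥(S : Subgroup G) := fun t => x₀⁻¹ * (t * x₀ * t⁻¹)
  have hw : ∀ t, w t ∈ Z := fun t => by
    show x₀⁻¹ * (t * x₀ * t⁻¹) ∈ Z
    rw [show x₀⁻¹ * (t * x₀ * t⁻¹) = x₀⁻¹ * x₀⁻¹ * ((x₀ * t) * (x₀ * t)) * (t⁻¹ * t⁻¹) by group]
    refine mul_mem (mul_mem ?_ (D.cfg.sq _)) ?_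
    · rw [← mul_inv_rev]; exact inv_mem (D.cfg.sq x₀)
    · rw [← mul_inv_rev]; exact inv_mem (D.cfg.sq t)
  let φ : ↥(S : Subgroup G) →* ↥Z := MonoidHom.mk' (fun t => ⟨w t, hw t⟩) fun t s => Subtype.ext (by
    show x₀⁻¹ * (t * s * x₀ * (t * s)⁻¹) = w t * w s
    have h := mem_center_iff.1 (hw s) t
    calc x₀⁻¹ * (t * s * x₀ * (t * s)⁻¹) = x₀⁻¹ * (t * x₀) * (w s * t⁻¹) := by
          show _ = x₀⁻¹ * (t * x₀) * (x₀⁻¹ * (s * x₀ * s⁻¹) * t⁻¹)
          group
      _ = x₀⁻¹ * (t * x₀) * (t⁻¹ * w s) := by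
          have h' : w s * t⁻¹ = t⁻¹ * w s := by
            calc w s * t⁻¹ = t⁻¹ * (t * w s) * t⁻¹ := by group
              _ = t⁻¹ * (w s * t) * t⁻¹ := by rw [h]
              _ = _ := by group
          rw [h']
      _ = w t * w s := by
          show _ = x₀⁻¹ * (t * x₀ * t⁻¹) * _
          group)
  have hsub : φ.range ≤ Subgroup.zpowers (⟨a, D.cfg.a_mem⟩ : ↥Z) := by
    rintro z ⟨t, rfl⟩
    by_cases h1 : ((w t : ↥(S : Subgroup G)) : G) = 1
    · rw [show φ t = 1 from Subtype.ext (Subtype.ext h1)]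
      exact one_mem _
    by_cases h2 : ((w t : ↥(S : Subgroup G)) : G) = a
    · rw [show φ t = ⟨a, D.cfg.a_mem⟩ from Subtype.ext (Subtype.ext h2)]
      exact mem_zpowers _
    exact absurd (by push_cast [w]; group)
      (hno (t : G) _ t.2 (D.mem_A (hw t)) h1 h2)
  have hker : Nat.card ↥φ.ker = 16 := by
    rw [← D.cfg.card_cent x₀ D.cfg.x₀_not_center]
    refine Nat.card_congr (Equiv.subtypeEquivRight fun t => ?_)
    rw [MonoidHom.mem_ker]
    constructor
    · intro h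
      have h' : x₀⁻¹ * (t * x₀ * t⁻¹) = 1 := congrArg Subtype.val h
      exact (mul_inv_eq_iff_eq_mul.1 (inv_mul_eq_one.1 h').symm)
    · intro h
      refine Subtype.ext ?_
      show x₀⁻¹ * (t * x₀ * t⁻¹) = 1
      rw [h]; group
  have h := φ.ker.card_mul_index
  rw [hker, Subgroup.index_ker, D.cfg.card] at h
  have h2 : Nat.card ↥φ.range ≤ 2 := by
    refine (Nat.le_of_dvd Nat.card_pos (card_dvd_of_le hsub)).trans (le_of_eq ?_)
    rw [Nat.card_zpowers, Subgroup.orderOf_mk, ← Subgroup.orderOf_coe,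
      D.orderOf_eq D.a_mem D.a_ne]
  omega

/-- `|W|` is a square, `W` an abelian subgroup of `O(C(a))` normalised by `S`. -/
theorem exists_card_sq (H : Separated S A) {W : Subgroup G} (hWa : W ≤ core (a : G))
    (hS : (S : Subgroup G) ≤ normalizer (W : Set G)) :
    ∃ e : ℕ, Nat.card ↥W = e * e ∧ e ∣ Nat.card ↥W := by
  obtain ⟨t, v, ht, hv, hv1, hva, htx⟩ := D.exists_swap
  set x : G := (x₀ : G)
  have hxW : ∀ l ∈ W, x * l * x⁻¹ ∈ W := fun l hl => (mem_normalizer_iff.1 (hS x₀.2) l).1 hl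
  have htW : ∀ c ∈ (S : Subgroup G), ∀ l ∈ W, c * l * c⁻¹ ∈ W := fun c hc l hl =>
    (mem_normalizer_iff.1 (hS hc) l).1 hl
  have hxx : x * x = a := congrArg Subtype.val D.cfg.x₀_sq
  have hxx' : ∀ l ∈ W, x * (x * l * x⁻¹) * x⁻¹ = l := fun l hl => by
    rw [show x * (x * l * x⁻¹) * x⁻¹ = (x * x) * l * (x * x)⁻¹ by group, hxx]
    exact mul_inv_eq_iff_eq_mul.2 (mem_centralizer_singleton_iff.1
      (Walter.core_le (a : G) (hWa hl))).symm
  have hcomm : ∀ l ∈ W, ∀ m ∈ W, l * m = m * l := fun l hl m hm =>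
    D.core_comm H D.a_mem D.a_ne l (hWa hl) m (hWa hm)
  let P : Subgroup G :=
    { carrier := {l | l ∈ W ∧ x * l * x⁻¹ = l}
      one_mem' := ⟨one_mem _, by group⟩
      mul_mem' := fun {l m} hl hm => ⟨mul_mem hl.1 hm.1, by
        rw [show x * (l * m) * x⁻¹ = (x * l * x⁻¹) * (x * m * x⁻¹) by group, hl.2, hm.2]⟩
      inv_mem' := fun {l} hl => ⟨inv_mem hl.1, by
        rw [show x * l⁻¹ * x⁻¹ = (x * l * x⁻¹)⁻¹ by group, hl.2]⟩ }
  let M : Subgroup G :=
    { carrier := {l | l ∈ W ∧ x * l * x⁻¹ = l⁻¹}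
      one_mem' := ⟨one_mem _, by group⟩
      mul_mem' := fun {l m} hl hm => ⟨mul_mem hl.1 hm.1, by
        rw [show x * (l * m) * x⁻¹ = (x * l * x⁻¹) * (x * m * x⁻¹) by group, hl.2, hm.2,
          ← mul_inv_rev, hcomm m hm.1 l hl.1]⟩
      inv_mem' := fun {l} hl => ⟨inv_mem hl.1, by
        rw [show x * l⁻¹ * x⁻¹ = (x * l * x⁻¹)⁻¹ by group, hl.2]⟩ }
  -- `t` exchanges them
  have hinv : ∀ l ∈ W, v * l * v⁻¹ = l⁻¹ := fun l hl =>
    D.inverted H D.a_mem D.a_ne hv hv1 hva l (hWa hl)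
  have hswap : ∀ l ∈ W, x * (t * l * t⁻¹) * x⁻¹ = t * (x * l * x⁻¹)⁻¹ * t⁻¹ := by
    intro l hl
    have hvt : v * t = t * v := (D.comm hv ht).symm
    have hv' : v⁻¹ = v := inv_eq_of_mul_eq_one_right (by simpa [pow_two] using D.hyp.elem.2 v hv)
    have e : x * t = t * (x * v) := by
      calc x * t = (x * v) * v⁻¹ * t := by group
        _ = (t * x * t⁻¹) * (v * t) := by rw [htx, hv']; group
        _ = _ := by rw [hvt]; group
    calc x * (t * l * t⁻¹) * x⁻¹ = (x * t) * l * (x * t)⁻¹ := by group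
      _ = t * (x * (v * l * v⁻¹) * x⁻¹) * t⁻¹ := by rw [e]; group
      _ = _ := by rw [hinv l hl]; group
  have hPM : Nat.card ↥P = Nat.card ↥M := by
    refine le_antisymm ?_ ?_
    · refine Nat.card_le_card_of_injective (fun p : ↥P => (⟨t * p * t⁻¹, htW t ht _ p.2.1, by
        rw [hswap _ p.2.1, p.2.2]; group⟩ : ↥M)) fun p p' e => Subtype.ext ?_
      have e' : t * (p : G) * t⁻¹ = t * (p' : G) * t⁻¹ := congrArg Subtype.val e
      simpa using e'
    · refine Nat.card_le_card_of_injective (fun p : ↥M => (⟨t * p * t⁻¹, htW t ht _ p.2.1, by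
        rw [hswap _ p.2.1, p.2.2, inv_inv]⟩ : ↥P)) fun p p' e => Subtype.ext ?_
      have e' : t * (p : G) * t⁻¹ = t * (p' : G) * t⁻¹ := congrArg Subtype.val e
      simpa using e'
  have hodd : ∀ l ∈ W, Odd (orderOf l) := fun l hl =>
    (Walter.odd_core (a : G)).of_dvd_nat (Subgroup.orderOf_dvd_natCard _ (hWa hl))
  let Ψ : ↥P × ↥M → ↥W := fun p => ⟨(p.1 : G) * p.2, mul_mem p.1.2.1 p.2.2.1⟩
  have hΨ : Function.Bijective Ψ := by
    constructor
    · rintro ⟨⟨p, hp⟩, ⟨m, hm⟩⟩ ⟨⟨p', hp'⟩, ⟨m', hm'⟩⟩ e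
      have e' : p * m = p' * m' := congrArg Subtype.val e
      have hd : p'⁻¹ * p = m' * m⁻¹ := by
        calc p'⁻¹ * p = p'⁻¹ * (p * m) * m⁻¹ := by group
          _ = _ := by rw [e']; group
      set d := p'⁻¹ * p with hd'
      have h1 : x * d * x⁻¹ = d := (P.mul_mem (P.inv_mem hp') hp).2
      have h2 : x * d * x⁻¹ = d⁻¹ := hd ▸ (M.mul_mem hm' (M.inv_mem hm)).2
      have h3 : d = 1 := by
        rw [← orderOf_eq_one_iff]
        have h4 : d ^ 2 = 1 := by rw [pow_two]; nth_rw 1 [h1.symm.trans h2]; exact inv_mul_cancel d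
        have h5 := hodd d (mul_mem (inv_mem hp'.1) hp.1)
        rcases (Nat.dvd_prime Nat.prime_two).1 (orderOf_dvd_of_pow_eq_one h4) with h6 | h6
        · exact h6
        · rw [h6] at h5; exact absurd h5 (by decide)
      obtain rfl : p' = p := inv_mul_eq_one.1 h3
      obtain rfl : m' = m := mul_left_cancel e'.symm
      rfl
    · rintro ⟨y, hy⟩
      obtain ⟨j, hj⟩ := hodd y hy
      set k := y ^ (j + 1) with hk
      have hkW : k ∈ W := pow_mem hy _
      have hkk : k * k = y := by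
        rw [hk, ← pow_add, show j + 1 + (j + 1) = orderOf y + 1 by omega, pow_succ,
          pow_orderOf_eq_one, one_mul]
      set k' := x * k * x⁻¹ with hk'
      have hk'W : k' ∈ W := hxW k hkW
      have hkc : k * k' = k' * k := hcomm k hkW k' hk'W
      have hxk' : x * k' * x⁻¹ = k := hxx' k hkW
      refine ⟨(⟨k * k', mul_mem hkW hk'W, ?_⟩, ⟨k * k'⁻¹, mul_mem hkW (inv_mem hk'W), ?_⟩),
        Subtype.ext ?_⟩
      · rw [show x * (k * k') * x⁻¹ = (x * k * x⁻¹) * (x * k' * x⁻¹) by group, hxk', ← hk', hkc]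
      · rw [show x * (k * k'⁻¹) * x⁻¹ = (x * k * x⁻¹) * (x * k' * x⁻¹)⁻¹ by group, hxk', ← hk',
          mul_inv_rev, inv_inv]
      · show k * k' * (k * k'⁻¹) = y
        rw [hkc, ← mul_assoc, mul_assoc k' k k, hcomm k' hk'W (k * k) (mul_mem hkW hkW),
          mul_inv_cancel_right, hkk]
  refine ⟨Nat.card ↥P, ?_, card_dvd_of_le fun l hl => hl.1⟩
  rw [← Nat.card_eq_of_bijective Ψ hΨ, Nat.card_prod, hPM]

/-- If `q ≢ 1` mod 5, a non-trivial `C_W(f)` is not cyclic. -/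
theorem not_isCyclic (H : Separated S A) {q : ℕ} (hq : q.Prime) (hq5 : q ≠ 5) (hq1 : q % 5 ≠ 1)
    {W : Subgroup G} (hWa : W ≤ core (a : G)) (hexp : ∀ l ∈ W, l ^ q = 1)
    (hS : (S : Subgroup G) ≤ normalizer (W : Set G)) (hf : f ∈ normalizer (W : Set G))
    (hY : W ⊓ centralizer ({f} : Set G) ≠ ⊥) :
    ¬ IsCyclic ↥(W ⊓ centralizer ({f} : Set G) : Subgroup G) := by
  intro hcyc
  haveI : Fact q.Prime := ⟨hq⟩
  haveI : Fact (Nat.Prime 5) := ⟨by norm_num⟩
  set Y := W ⊓ centralizer ({f} : Set G) with hYdef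
  have hYq : Nat.card ↥Y = q := by
    obtain ⟨⟨y, hy⟩, hgen⟩ := hcyc.exists_generator
    have hcard := orderOf_eq_card_of_forall_mem_zpowers hgen
    rw [← hcard, Subgroup.orderOf_mk]
    refine orderOf_eq_prime (hexp y hy.1) fun h => hY ((Subgroup.eq_bot_iff_forall _).2 fun z hz => ?_)
    obtain ⟨l, hl⟩ := mem_zpowers_iff.1 (hgen ⟨z, hz⟩)
    have := congrArg Subtype.val hl
    push_cast at this
    rw [← this, h, one_zpow]
  obtain ⟨e, hsq, hed⟩ := D.exists_card_sq H hWa hS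
  have hWq : IsPGroup q ↥W := fun w => ⟨1, Subtype.ext (by push_cast; rw [pow_one]; exact hexp _ w.2)⟩
  obtain ⟨d, hd⟩ := IsPGroup.iff_card.1 hWq
  obtain ⟨c, -, rfl⟩ := (Nat.dvd_prime_pow hq).1 (hd ▸ hed)
  -- the fixed points of `f` on `W`
  let θ : ↥(zpowers f) →* MulAut ↥W :=
    W.normalizerMonoidHom.comp (Subgroup.inclusion (zpowers_le.2 hf))
  letI : MulAction ↥(zpowers f) ↥W := MulAction.compHom _ θ
  have hsmul : ∀ (u : ↥(zpowers f)) (w : ↥W), ((u • w : ↥W) : G) = u * w * (u : G)⁻¹ :=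
    fun u w => rfl
  have hfix : Nat.card (MulAction.fixedPoints ↥(zpowers f) ↥W) = Nat.card ↥Y := by
    refine Nat.card_congr
      { toFun := fun w => ⟨(w.1 : G), w.1.2, mem_centralizer_singleton_iff.2 ?_⟩
        invFun := fun y => ⟨⟨(y : G), y.2.1⟩, fun u => Subtype.ext ?_⟩
        left_inv := fun w => Subtype.ext (Subtype.ext rfl)
        right_inv := fun y => Subtype.ext rfl }
    · have h := congrArg Subtype.val (w.2 ⟨f, mem_zpowers f⟩)
      rw [hsmul] at h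
      exact (mul_inv_eq_iff_eq_mul.1 h).symm
    · rw [hsmul]
      obtain ⟨l, hl⟩ := mem_zpowers_iff.1 u.2
      rw [← hl]
      exact mul_inv_eq_iff_eq_mul.2 ((show Commute f (y : G) from
        (mem_centralizer_singleton_iff.1 y.2.2).symm).zpow_left l).eq
  have hmod := (IsPGroup.of_card (n := 1) (by
    rw [Nat.card_zpowers, D.orderOf_f H, pow_one]) :
    IsPGroup 5 ↥(zpowers f)).card_modEq_card_fixedPoints ↥W
  rw [hfix, hYq, hsq] at hmod
  have h5 : q % 5 ≠ 0 := fun h => hq5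
    (((Nat.prime_dvd_prime_iff_eq (by norm_num) hq).1 (Nat.dvd_of_mod_eq_zero h)).symm)
  have h2 : ∀ c : ℕ, (q ^ c * q ^ c) % 5 = 1 ∨ (q ^ c * q ^ c) % 5 = (q * q) % 5 := by
    intro c
    induction c with
    | zero => left; simp
    | succ c ih =>
      rw [show q ^ (c + 1) * q ^ (c + 1) = (q ^ c * q ^ c) * (q * q) by ring, Nat.mul_mod]
      rcases ih with h | h <;> rw [h]
      · right; simp
      · have hlt : q % 5 < 5 := Nat.mod_lt _ (by norm_num)
        rw [Nat.mul_mod q q]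
        interval_cases q % 5 <;> simp_all
  have hlt : q % 5 < 5 := Nat.mod_lt _ (by norm_num)
  have hm : (q ^ c * q ^ c) % 5 = q % 5 := hmod
  rcases h2 c with h | h <;> rw [h] at hm
  · exact hq1 hm.symm
  · rw [Nat.mul_mod] at hm
    interval_cases q % 5 <;> simp_all

end Data

end Cfsg.Agent.Lib.Goldschmidt53.RankTwoMin
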