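import Cfsg.Agent.Lib.Goldschmidt53.RankTwoMin.Case1Basic
import Cfsg.Agent.Lib.Goldschmidt53.RankTwoMin.Case1Galois
import Cfsg.Agent.Lib.Goldschmidt53.RankTwoMin.Case1Five
import Cfsg.Agent.Lib.Goldschmidt53.RankTwoMin.Case1Centre
import Cfsg.Agent.Lib.Goldschmidt53.RankTwoMin.Case1Comp
import Cfsg.Agent.Lib.Goldschmidt53.RankTwoMin.Case1Parity
import Cfsg.Agent.Lib.PiHomog3258.Five.Degree
import Cfsg.Agent.Lib.FTClassSize.Basic

/-!
# Rank two, all involutions central: no small degree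

`theorem propCase1 : PropCase1`.  helper59 (route and local lemmas: helper34).

Let `q ∣ |O(C(a))|` and `W` the elements of order dividing `q`.  `q = 5` is impossible by transfer,
`q ≡ 1` mod 5 by Galois twisting.  Otherwise `C_W(f)` is trivial, so all degrees are at least 320,
or not cyclic, so it meets `O(C(f))`.
-/

set_option autoImplicit false
set_option linter.style.haveILetI false
set_option linter.unusedSectionVars false

universe u

namespace Cfsg.Agent.Lib.Goldschmidt53.RankTwoMin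

open Subgroup Cfsg.Agent.Lib.Characters.Basic
open Cfsg.Agent.Lib.Walter (core coreC)
open Cfsg.Agent.Lib.PiHomog3258
open Cfsg.Agent.Lib.U34Type98

attribute [local instance] Classical.propDecidable

variable {G : Type u} [Group G] [Finite G]

namespace Data

variable {S : Sylow 2 G} {A : Subgroup G} {a x₀ : ↥(S : Subgroup G)} {f g : G}
variable (D : Data S A a x₀ f g)
include D

theorem core_a_ne : core (a : G) ≠ ⊥ := fun h => by
  obtain ⟨v, hv, hv1, hne⟩ := D.exists_core_ne
  obtain ⟨i, rfl⟩ := D.cycle v hv hv1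
  exact hne (by rw [Walter.core_conj, h, Subgroup.map_bot])

/-- The cores are not separated. -/
theorem false_of_separated (H : Separated S A) {M : Ideal Cfsg.AlgInt} (hM : Cfsg.IsPModular 2 M) :
    False := by
  haveI : Fact (Nat.Prime 2) := ⟨Nat.prime_two⟩
  haveI := D.hyp.simple
  set q := (Nat.card ↥(core (a : G))).minFac
  have hne1 : Nat.card ↥(core (a : G)) ≠ 1 := fun h => D.core_a_ne (Subgroup.card_eq_one.1 h)
  have hq : q.Prime := Nat.minFac_prime hne1
  have hdvd : q ∣ Nat.card ↥(core (a : G)) := Nat.minFac_dvd _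
  have hq2 : q ≠ 2 := fun h => (Walter.odd_core (a : G)).not_two_dvd_nat (by rwa [h] at hdvd)
  by_cases hq5 : q = 5
  · exact D.false_of_five H (by rwa [hq5] at hdvd)
  haveI : Fact q.Prime := ⟨hq⟩
  let W : Subgroup G :=
    { carrier := {k | k ∈ core (a : G) ∧ k ^ q = 1}
      one_mem' := ⟨one_mem _, one_pow _⟩
      mul_mem' := fun {k l} hk hl => ⟨mul_mem hk.1 hl.1, by
        rw [(show Commute k l from D.core_comm H D.a_mem D.a_ne k hk.1 l hl.1).mul_pow, hk.2, hl.2,
          one_mul]⟩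
      inv_mem' := fun {k} hk => ⟨inv_mem hk.1, by rw [inv_pow, hk.2, inv_one]⟩ }
  have hWa : W ≤ core (a : G) := fun k hk => hk.1
  have hexp : ∀ l ∈ W, l ^ q = 1 := fun l hl => hl.2
  have hW1 : W ≠ ⊥ := fun h => by
    obtain ⟨l, hl⟩ := exists_prime_orderOf_dvd_card' q hdvd
    have hlW : (l : G) ∈ W := ⟨l.2, by rw [← SubmonoidClass.coe_pow, ← hl, pow_orderOf_eq_one,
      OneMemClass.coe_one]⟩
    rw [h, Subgroup.mem_bot] at hlW
    rw [← Subgroup.orderOf_coe, hlW, orderOf_one] at hl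
    exact hq.ne_one hl.symm
  have hcomm : ∀ l ∈ W, ∀ m ∈ W, l * m = m * l := fun l hl m hm =>
    D.core_comm H D.a_mem D.a_ne l hl.1 m hm.1
  have hkey : ∀ c ∈ centralizer ({(a : G)} : Set G), ∀ k ∈ W, c * k * c⁻¹ ∈ W := fun c hc k hk =>
    ⟨(mem_normalizer_iff.1 (Walter.centralizer_le_normalizer_core (a : G) hc) k).1 hk.1, by
      rw [conj_pow, hk.2, mul_one, mul_inv_cancel]⟩
  have hCW : centralizer ({(a : G)} : Set G) ≤ normalizer (W : Set G) := fun c hc => by
    refine mem_normalizer_iff.2 fun k => ⟨hkey c hc k, fun h => ?_⟩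
    have := hkey c⁻¹ (inv_mem hc) _ h
    simpa [mul_assoc] using this
  have hS : (S : Subgroup G) ≤ normalizer (W : Set G) := (D.sylow_le D.a_mem).trans hCW
  by_cases hq1 : q % 5 = 1
  · exact D.large_of_elem hM hq hq1 hW1 hWa hcomm hexp hS
  set Y := W ⊓ centralizer ({f} : Set G) with hY
  by_cases hY1 : Y = ⊥
  · have hA : Five.Acts S a f W :=
      { le_core := hWa
        ne_bot := hW1
        comm := hcomm
        conj_mem := fun s hs l hl => (mem_normalizer_iff.1 (hS hs) l).1 hl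
        conj_f := fun l hl => hkey f (D.f_mem D.a_mem) l hl
        inverted := fun z hz hz1 hza l hl => D.inverted H D.a_mem D.a_ne (D.mem_A hz)
          (fun e => hz1 (Subtype.ext e)) (fun e => hza (Subtype.ext e)) l (hWa hl)
        fix := fun l hl hlf => by
          have : l ∈ Y := ⟨hl, mem_centralizer_singleton_iff.2 hlf.symm⟩
          rwa [hY1, Subgroup.mem_bot] at this }
    exact D.cfg.false_of_large hM fun χ hχ i _ _ n hn => Or.inl
      (Five.Degree.le_degree D.cfg hA hM (Finset.mem_erase.1 hχ).2 (Finset.mem_erase.1 hχ).1 hn)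
  have hnc := D.not_isCyclic H hq hq5 hq1 hWa hexp hS (hCW (D.f_mem D.a_mem)) hY1
  -- the component argument in `C(f)`
  set Cf := centralizer ({f} : Set G) with hCf
  have hAf : A ≤ Cf := fun z hz =>
    mem_centralizer_singleton_iff.2 (mem_centralizer_singleton_iff.1 (D.f_mem hz)).symm
  have hA2 : IsPGroup 2 ↥(A.subgroupOf Cf) := fun z => ⟨1, Subtype.ext (Subtype.ext (by
    push_cast; exact D.hyp.elem.2 _ (mem_subgroupOf.1 z.2)))⟩
  obtain ⟨T, hT⟩ := hA2.exists_le_sylow
  have hTA : (T : Subgroup ↥Cf) = A.subgroupOf Cf := by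
    refine le_antisymm (fun z hz => mem_subgroupOf.2 ?_) hT
    exact D.two_eq_A H (T.isPGroup'.map Cf.subtype)
      (by rintro _ ⟨p, -, rfl⟩; exact mem_centralizer_singleton_iff.1 p.2)
      (fun z hz => ⟨⟨z, hAf hz⟩, hT (mem_subgroupOf.2 hz), rfl⟩) ⟨z, hz, rfl⟩
  have hlt : Nat.card ↥Cf < Nat.card G := by
    refine lt_of_le_of_ne (Subgroup.card_le_card_group Cf) fun h => ?_
    have htop : Cf = ⊤ := (card_eq_iff_eq_top Cf).1 h
    have hfc : f ∈ center G := mem_center_iff.2 fun c =>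
      mem_centralizer_singleton_iff.1 (show c ∈ Cf from htop ▸ mem_top c)
    rw [FTClassSize.center_eq_bot_of_simple D.hyp.nonabelian, Subgroup.mem_bot] at hfc
    have := D.orderOf_f H
    rw [hfc, orderOf_one] at this
    omega
  obtain ⟨b, hb, hb1, hba⟩ := D.exists_other (u := (a : G)) D.a_mem
  have hqY : IsPGroup q ↥(Y.subgroupOf Cf) := fun y => ⟨1, Subtype.ext (Subtype.ext (by
    push_cast; rw [pow_one]; exact hexp _ (mem_subgroupOf.1 y.2).1))⟩
  have hncY : ¬ IsCyclic ↥(Y.subgroupOf Cf) := fun h =>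
    hnc ((subgroupOfEquivOfLe (inf_le_right : Y ≤ Cf)).isCyclic.1 h)
  have hne := exists_mem_oddCore (X := ↥Cf) D.hyp.below hlt T
    (by rw [hTA, Nat.card_congr (subgroupOfEquivOfLe hAf).toEquiv, D.card_A])
    (by rw [hTA]
        exact ⟨⟨⟨fun y z => Subtype.ext (Subtype.ext (by
          haveI := D.hyp.elem.1
          exact setLike_mul_comm (s := A) (mem_subgroupOf.1 y.2) (mem_subgroupOf.1 z.2)))⟩⟩,
          fun y hy => Subtype.ext (D.hyp.elem.2 _ (mem_subgroupOf.1 hy))⟩)
    (a := ⟨a, hAf D.a_mem⟩) (b := ⟨b, hAf hb⟩)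
    (by rw [hTA]; exact mem_subgroupOf.2 D.a_mem) (fun e => D.a_ne (congrArg Subtype.val e))
    (by rw [hTA]; exact mem_subgroupOf.2 hb) (fun e => hb1 (congrArg Subtype.val e))
    (fun e => hba (congrArg Subtype.val e).symm) hq hq2 hqY hncY
    (fun y hy => Subtype.ext (mem_centralizer_singleton_iff.1
      (Walter.core_le (a : G) (hWa (mem_subgroupOf.1 hy).1))))
    (fun y hy => Subtype.ext
      (D.inverted H D.a_mem D.a_ne hb hb1 hba _ (hWa (mem_subgroupOf.1 hy).1)))
  obtain ⟨y, hy, hy1⟩ := ((Y.subgroupOf Cf ⊓ Cfsg.oddCore ↥Cf).bot_or_exists_ne_one).resolve_left hne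
  exact D.false_of_mem_oddCore H hq hq2 hq5 (x := (y : G)) (mem_map_of_mem _ hy.2)
    (hWa (mem_subgroupOf.1 hy.1).1) (fun e => hy1 (Subtype.ext e)) (j := 1)
    (by rw [pow_one]; exact hexp _ (mem_subgroupOf.1 hy.1).1)

end Data

/-- **A character with `χ(a) ≠ 0` has large degree.** -/
theorem propCase1 : PropCase1.{u} := by
  intro G _ _ S A a x₀ f g D M hM χ hχ VA VW n hA hA0 hW hn
  by_contra hlt
  exact D.false_of_separated (D.separated hM hχ hA hA0 hW hn (not_le.1 hlt)) hM

end Cfsg.Agent.Lib.Goldschmidt53.RankTwoMin
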