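import Cfsg.Agent.Lib.Goldschmidt53.RankTwoMin.Degree
import Cfsg.Agent.Lib.PiHomog3258.Five.Chars

/-!
# Rank two, all involutions central: one more class equation

No element of `x₀ O(C(x₀))` is a product of two conjugates of `a`: an involution inverting it lies
in `C(a)` and would invert `x₀` inside `S` modulo the core.
-/

set_option autoImplicit false
set_option linter.style.haveILetI false
set_option linter.unusedSectionVars false

universe u

namespace Cfsg.Agent.Lib.Goldschmidt53.RankTwoMin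

open Subgroup Cfsg.Agent.Lib.Characters.Basic
open Cfsg.Agent.Lib.Walter (core)
open Cfsg.Agent.Lib.PiHomog3258
open Cfsg.Agent.Lib.U34Type98

attribute [local instance] Classical.propDecidable

variable {G : Type u} [Group G] [Finite G]

namespace Data

variable {S : Sylow 2 G} {A : Subgroup G} {a x₀ : ↥(S : Subgroup G)} {f g : G}
variable (D : Data S A a x₀ f g) {M : Ideal Cfsg.AlgInt} (hM : Cfsg.IsPModular 2 M)
include D

theorem not_two_root {k : G} (hk : k ∈ core (x₀ : G)) (c d : G) :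
    (x₀ : G) * k * (c * (a : G) * c⁻¹) * (d * (a : G) * d⁻¹) ≠ 1 := by
  haveI : Fact (Nat.Prime 2) := ⟨Nat.prime_two⟩
  intro hw
  set r := c * (a : G) * c⁻¹
  set r' := d * (a : G) * d⁻¹
  have ha : (a : G) * a = 1 := congrArg Subtype.val (D.cfg.center_sq a D.cfg.a_mem)
  have hr : r * r = 1 := by
    rw [show r * r = c * ((a : G) * a) * c⁻¹ by simp only [r]; group, ha]; group
  have hr' : r' * r' = 1 := by
    rw [show r' * r' = d * ((a : G) * a) * d⁻¹ by simp only [r']; group, ha]; group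
  set w := (x₀ : G) * k
  have hrr : r⁻¹ = r := inv_eq_of_mul_eq_one_right hr
  have hwe : w = r' * r := by
    rw [mul_eq_one_iff_eq_inv.1 (show w * (r * r') = 1 by rw [← mul_assoc]; exact hw),
      mul_inv_rev, hrr, inv_eq_of_mul_eq_one_right hr']
  have hinv : MulAut.conj r w = w⁻¹ := by
    rw [hwe, mul_inv_rev, hrr, inv_eq_of_mul_eq_one_right hr', MulAut.conj_apply, hrr,
      mul_assoc, mul_assoc r', hr, mul_one]
  obtain ⟨j, hj⟩ := IsPGroup.iff_orderOf.1 S.isPGroup' x₀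
  rw [← Subgroup.orderOf_coe] at hj
  obtain ⟨n, hn⟩ := mem_zpowers_iff.1
    (BrauerMap.PrincipalSection.isPPart_mem_zpowers Nat.prime_two
      (show Cfsg.IsPPart 2 w (x₀ : G) from ⟨k, rfl,
        (mem_centralizer_singleton_iff.1 (map_subtype_le _ hk)).symm, ⟨j, hj⟩,
        fun h => Nat.not_odd_iff_even.2 (even_iff_two_dvd.2 h)
          ((Walter.odd_core (x₀ : G)).of_dvd_nat (Subgroup.orderOf_dvd_natCard _ hk))⟩))
  have hrx : r * (x₀ : G) * r⁻¹ = (x₀ : G)⁻¹ := by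
    calc r * (x₀ : G) * r⁻¹ = MulAut.conj r (w ^ n) := by rw [hn]; rfl
      _ = (x₀ : G)⁻¹ := by rw [map_zpow, hinv, inv_zpow, hn]
  have hxa : (x₀ : G) * x₀ = a := congrArg Subtype.val D.cfg.x₀_sq
  have hra : r * (a : G) * r⁻¹ = a := by
    rw [← hxa, show r * ((x₀ : G) * x₀) * r⁻¹ = r * x₀ * r⁻¹ * (r * x₀ * r⁻¹) by group, hrx,
      ← mul_inv_rev, hxa, inv_eq_of_mul_eq_one_right ha]
  obtain ⟨k₁, hk₁, s, i, hrd⟩ :=
    D.cfg.split r (mem_centralizer_singleton_iff.2 (mul_inv_eq_iff_eq_mul.1 hra))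
  obtain ⟨t, ht⟩ := D.cfg.exists_conj_f i x₀
  have h1 : k₁ * ((s * t * s⁻¹ : ↥(S : Subgroup G)) : G) * k₁⁻¹ =
      ((x₀⁻¹ : ↥(S : Subgroup G)) : G) := by
    push_cast
    rw [ht, ← hrx, hrd]
    group
  have h2 : s * t * s⁻¹ = x₀⁻¹ := (D.cfg.core_fix hk₁ h1).1
  have hz : x₀⁻¹ * t ∈ center ↥(S : Subgroup G) := by
    rw [show x₀⁻¹ * t = (x₀⁻¹ * s⁻¹) * (x₀⁻¹ * s⁻¹) * (s * s) by
      rw [show t = s⁻¹ * x₀⁻¹ * s by rw [← h2]; group]; group]
    exact mul_mem (D.cfg.sq _) (D.cfg.sq _)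
  have hd := D.cfg.dvd_of_coset (m := (i : ℕ)) D.cfg.x₀_not_center hz (by rw [← ht]; simp)
  have hi : (i : ℕ) = 0 := by have := i.2; omega
  rw [hi, pow_zero, mul_one] at hrd
  have hss : s * s = 1 := Subtype.ext (D.cfg.core_inf (by
    have hmem : ((s : G) * k₁ * (s : G)⁻¹)⁻¹ * k₁⁻¹ ∈ Five.Config.core (a : G) :=
      mul_mem (inv_mem (D.cfg.core_conj (D.cfg.mem_cent s) hk₁)) (inv_mem hk₁)
    rwa [show ((s : G) * k₁ * (s : G)⁻¹)⁻¹ * k₁⁻¹ = ((s * s : ↥(S : Subgroup G)) : G) by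
      rw [hrd] at hr
      push_cast
      calc ((s : G) * k₁ * (s : G)⁻¹)⁻¹ * k₁⁻¹
          = ((s : G) * k₁ * (s : G)⁻¹)⁻¹ * k₁⁻¹ * (k₁ * s * (k₁ * s)) := by rw [hr, mul_one]
        _ = (s : G) * s := by group] at hmem) (SetLike.coe_mem _))
  have ht' : t = x₀ := Subtype.ext (by rw [ht, hi]; simp)
  rw [ht', mem_center_iff.1 (D.cfg.invol s hss) x₀ |>.symm, mul_inv_cancel_right] at h2
  refine D.cfg.a_ne ?_
  rw [← D.cfg.x₀_sq]
  nth_rw 1 [h2]
  rw [inv_mul_cancel]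

include hM in
/-- The class equation at `x₀`. -/
theorem sum_count_root :
    ∑ χ ∈ Section.blk G M, (χ : G → ℂ) x₀ * (χ : G → ℂ) a ^ 2 / (χ : G → ℂ) 1 = 0 := by
  haveI : Fact (Nat.Prime 2) := ⟨Nat.prime_two⟩
  have hx1 : x₀ ≠ 1 := fun h => D.cfg.x₀_not_center (h ▸ one_mem _)
  obtain ⟨j, hj⟩ := IsPGroup.iff_orderOf.1 S.isPGroup' x₀
  rw [← Subgroup.orderOf_coe] at hj
  exact (D.cover_at hM hx1).sum_count hM (g := (x₀ : G)) (v := (a : G))
    ⟨1, mul_one _, Commute.one_right _, ⟨j, hj⟩, by simp⟩ fun k hk c d => D.not_two_root hk c d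

end Data

end Cfsg.Agent.Lib.Goldschmidt53.RankTwoMin
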