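import Cfsg.Agent.Lib.Goldschmidt53.RankTwoMin.Galois
import Cfsg.Agent.Lib.Goldschmidt53.RankTwoMin.Relation

/-!
# Rank two, all involutions of `S` in `A`

If some `O(C(v))` is non-trivial, the rows of the principal block contradict
`Arith.not_possible`; otherwise every `C(v)` normalises `S`.
-/

set_option autoImplicit false
set_option linter.style.haveILetI false
set_option linter.unusedSectionVars false

universe u

namespace Cfsg.Agent.Lib.Goldschmidt53.RankTwoMin

open Subgroup Cfsg.Agent.Lib.Characters.Basic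
open Cfsg.Agent.Lib.Walter (core)
open Cfsg.Agent.Lib.PiHomog3258
open Cfsg.Agent.Lib.U34Type98
open scoped ComplexConjugate

attribute [local instance] Classical.propDecidable

/-- A degree below `128 + dmin` does not occur with a non-zero value at `a`. -/
def PropCase1.{w} : Prop :=
  ∀ (G : Type w) [Group G] [Finite G] (S : Sylow 2 G) (A : Subgroup G) (a x₀ : ↥(S : Subgroup G))
    (f g : G), Data S A a x₀ f g → ∀ (M : Ideal Cfsg.AlgInt), Cfsg.IsPModular 2 M →
    ∀ χ ∈ (Section.blk G M).erase (oneChar G), ∀ (VA VW : ℤ) (n : ℕ), (χ : G → ℂ) a = VA →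
      VA ≠ 0 → (χ : G → ℂ) x₀ = VW → (χ : G → ℂ) 1 = n →
      128 + Arith.dmin (-60 * VW - 3 * VA) ≤ n

variable {G : Type u} [Group G] [Finite G]

namespace Data

variable {S : Sylow 2 G} {A : Subgroup G} {a x₀ : ↥(S : Subgroup G)} {f g : G}
variable (D : Data S A a x₀ f g)
include D

/-- Some `O(C(v))` is non-trivial. -/
theorem exists_core_ne : ∃ v ∈ A, v ≠ 1 ∧ core v ≠ ⊥ := by
  by_contra hall
  push Not at hall
  haveI := D.hyp.simple
  have hN : ∀ c : G, c ∈ normalizer ((S : Subgroup G) : Set G) := by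
    intro c
    have hc : c ∈ centSpan A := D.span ▸ mem_top c
    refine (iSup_le fun t => ?_ : centSpan A ≤ normalizer ((S : Subgroup G) : Set G)) hc
    obtain ⟨t, htA, ht⟩ := t
    intro x hx
    have ht1 : t ≠ 1 := fun h => by simp [h] at ht
    obtain ⟨k, hk, s, i, rfl⟩ := D.split t htA ht1 x hx
    rw [hall t htA ht1, Subgroup.mem_bot] at hk
    rw [hk, one_mul]
    exact mul_mem (le_normalizer s.2) (pow_mem D.cfg.f_norm _)
  haveI : (S : Subgroup G).Normal := normalizer_eq_top_iff.1 (eq_top_iff.2 fun c _ => hN c)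
  rcases ‹(S : Subgroup G).Normal›.eq_bot_or_eq_top with h | h
  · have := D.cfg.card
    rw [h, Subgroup.card_bot] at this
    omega
  · have hcen : A ≤ center G := fun x hx => mem_center_iff.2 fun c => D.comm hx (by
      rw [h]; exact mem_top c)
    rcases (inferInstance : (center G).Normal).eq_bot_or_eq_top with hZ | hZ
    · exact D.hyp.ne (le_bot_iff.1 (hZ ▸ hcen))
    · exact D.hyp.nonabelian ⟨⟨fun x y => (mem_center_iff.1 (hZ ▸ mem_top y) x)⟩⟩

/-- **The contradiction.** -/
theorem false_of_case1 (hcase : PropCase1.{u}) : False := by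
  haveI : Fact (Nat.Prime 2) := ⟨Nat.prime_two⟩
  obtain ⟨M, hM⟩ := Blocks.exists_isPModular 2 Nat.prime_two
  choose VA W hA hW hAW using fun χ : Cfsg.IrrCharacter G =>
    D.cfg.exists_int_values (isCharacter_irr χ)
  choose q hq using hAW
  choose n hn hn1 using fun χ : Cfsg.IrrCharacter G => exists_degree_pos χ
  have hc' : ∀ (j : Fin 5) (χ : Cfsg.IrrCharacter G), ∃ c : ℤ,
      χ ∈ Section.blk G M → Five.Config.coef (χ : G → ℂ) a f j = c := fun j χ => by
    by_cases h : χ ∈ Section.blk G M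
    · obtain ⟨c, hc⟩ := D.cfg.exists_int_coef hM h j
      exact ⟨c, fun _ => hc⟩
    · exact ⟨0, fun h' => absurd h' h⟩
  choose c hc using hc'
  haveI := hM.2.1
  set B := Section.blk G M with hB
  have hone : oneChar G ∈ B := (Section.mem_blk M).2 Blocks.oneChar_mem_principalBlock
  -- the sums over the block
  have hcc : ∀ j k, ∑ χ ∈ B, c j χ * c k χ = 12 + if j = k then 4 else 0 := fun j k => by
    refine Int.cast_injective (α := ℂ) ?_
    rw [Int.cast_sum, show (((12 : ℤ) + if j = k then 4 else 0 : ℤ) : ℂ) =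
      12 + if j = k then 4 else 0 by split_ifs <;> norm_num, ← D.cfg.sum_coef_mul hM j k]
    push_cast
    exact Finset.sum_congr rfl fun χ hχ => by rw [hc j χ hχ, hc k χ hχ, map_intCast]
  have hWW : ∑ χ ∈ B, W χ * W χ = 16 := by
    refine Int.cast_injective (α := ℂ) ?_
    push_cast [Int.cast_sum]
    rw [← D.cfg.sum_root_root hM]
    exact Finset.sum_congr rfl fun χ _ => by rw [hW, map_intCast]
  have hWc : ∀ j, ∑ χ ∈ B, W χ * c j χ = 0 := fun j => by
    refine Int.cast_injective (α := ℂ) ?_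
    push_cast [Int.cast_sum]
    rw [← D.cfg.sum_root_coef hM j]
    exact Finset.sum_congr rfl fun χ hχ => by rw [hW, hc j χ hχ, map_intCast]
  have hsum : ∀ χ ∈ B, VA χ = ∑ j, c j χ := fun χ hχ => by
    refine Int.cast_injective (α := ℂ) ?_
    rw [Int.cast_sum, ← hA, ← Five.Config.sum_coef (χ : G → ℂ) a f]
    exact Finset.sum_congr rfl fun j _ => hc j χ hχ
  have hAc : ∀ j, ∑ χ ∈ B, VA χ * c j χ = 64 := fun j => by
    rw [Finset.sum_congr rfl fun χ hχ => by rw [hsum χ hχ, Finset.sum_mul], Finset.sum_comm,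
      Finset.sum_congr rfl fun k _ => hcc k j]
    simp [Finset.sum_add_distrib]
  have hAA : ∑ χ ∈ B, VA χ * VA χ = 320 := by
    rw [Finset.sum_congr rfl fun χ hχ => by
      show VA χ * VA χ = ∑ j, VA χ * c j χ
      rw [← Finset.mul_sum, ← hsum χ hχ], Finset.sum_comm,
      Finset.sum_congr rfl fun k _ => hAc k]
    simp
  have hWA : ∑ χ ∈ B, W χ * VA χ = 0 := by
    rw [Finset.sum_congr rfl fun χ hχ => by rw [hsum χ hχ, Finset.mul_sum], Finset.sum_comm]
    exact Finset.sum_eq_zero fun k _ => hWc k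
  have hqc : ∀ j, ∑ χ ∈ B, q χ * c j χ = 16 := fun j => by
    have h : ∑ χ ∈ B, VA χ * c j χ - ∑ χ ∈ B, W χ * c j χ = 4 * ∑ χ ∈ B, q χ * c j χ := by
      rw [← Finset.sum_sub_distrib, Finset.mul_sum]
      exact Finset.sum_congr rfl fun χ _ => by rw [← sub_mul, hq χ]; ring
    rw [hAc, hWc] at h
    omega
  have hWq : ∑ χ ∈ B, W χ * q χ = -4 := by
    have h : ∑ χ ∈ B, W χ * VA χ - ∑ χ ∈ B, W χ * W χ = 4 * ∑ χ ∈ B, W χ * q χ := by
      rw [← Finset.sum_sub_distrib, Finset.mul_sum]
      exact Finset.sum_congr rfl fun χ _ => by rw [← mul_sub, hq χ]; ring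
    rw [hWA, hWW] at h
    omega
  have hqq : ∑ χ ∈ B, q χ * q χ = 21 := by
    have h : ∑ χ ∈ B, VA χ * VA χ - 2 * ∑ χ ∈ B, W χ * VA χ + ∑ χ ∈ B, W χ * W χ =
        16 * ∑ χ ∈ B, q χ * q χ := by
      rw [Finset.mul_sum, ← Finset.sum_sub_distrib, ← Finset.sum_add_distrib, Finset.mul_sum]
      refine Finset.sum_congr rfl fun χ _ => ?_
      linear_combination (VA χ - W χ + 4 * q χ) * hq χ
    rw [hWA, hWW, hAA] at h
    omega
  -- the trivial character
  set o := oneChar G
  have hAo : VA o = 1 := by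
    refine Int.cast_injective (α := ℂ) ?_; rw [← hA, oneChar_apply, Int.cast_one]
  have hWo : W o = 1 := by
    refine Int.cast_injective (α := ℂ) ?_; rw [← hW, oneChar_apply, Int.cast_one]
  have hqo : q o = 0 := by
    have := hq o
    rw [hAo, hWo] at this
    omega
  have hco : ∀ j, c j o = if j = 0 then 1 else 0 := fun j => by
    refine Int.cast_injective (α := ℂ) ?_
    rw [← hc j o hone]
    simp only [Five.Config.coef, o, oneChar_apply, one_mul, ← map_sum, Five.Config.sum_omega]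
    have hd : 5 ∣ (j : ℕ) ↔ j = 0 := ⟨fun h => Fin.ext (by
      have := j.2; simp only [Fin.val_zero]; omega), fun h => by simp [h]⟩
    rw [if_congr hd rfl rfl]
    split_ifs <;> simp [map_ofNat]
  have hval : ∀ χ ∈ B.erase o, 4 * (∑ i, (q χ - c i χ)) - 5 * -W χ = VA χ := fun χ hχ => by
    rw [Finset.sum_sub_distrib, ← hsum χ (Finset.mem_of_mem_erase hχ), Finset.sum_const,
      Finset.card_univ, Fintype.card_fin, nsmul_eq_mul]
    push_cast
    linear_combination -5 * hq χ
  have hrow : ∀ χ ∈ B.erase o,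
      Five.Arith.val (-W χ) (q χ - c 0 χ) (q χ - c 1 χ) (q χ - c 2 χ) (q χ - c 3 χ) (q χ - c 4 χ) =
        VA χ := fun χ hχ => by
    rw [← hval χ hχ, Fin.sum_univ_five]
    simp only [Five.Arith.val]
  have hshift : ∀ χ ∈ B.erase o, Arith.shift (Arith.row (fun χ => -W χ) (fun j χ => q χ - c j χ) χ) =
      -60 * W χ - 3 * VA χ := fun χ hχ => by
    simp only [Arith.row, Arith.shift, hrow χ hχ]
    ring
  refine Arith.not_possible (B.erase o) (fun χ => -W χ) (fun j χ => q χ - c j χ)
    (fun χ => (n χ : ℤ)) ?_ ?_ ?_ ?_ ?_ ?_ ?_ ?_ ?_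
  · rw [Finset.sum_erase_eq_sub hone, hWo]
    simp [hWW]
  · rw [Finset.sum_erase_eq_sub hone, hWo, hqo, hco]
    simp [mul_sub, Finset.sum_add_distrib, Finset.sum_neg_distrib, hWq, hWc]
  · intro j hj
    rw [Finset.sum_erase_eq_sub hone, hWo, hqo, hco]
    simp [hj, mul_sub, Finset.sum_add_distrib, Finset.sum_neg_distrib, hWq, hWc]
  · intro i j
    rw [Finset.sum_erase_eq_sub hone, hqo, hco, hco]
    have hcq : ∑ χ ∈ B, c i χ * q χ = 16 := by
      rw [← hqc i]; exact Finset.sum_congr rfl fun χ _ => mul_comm _ _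
    simp only [mul_sub, sub_mul, Finset.sum_sub_distrib, hqq, hqc, hcq, hcc]
    by_cases hij : i = j
    · subst hij
      by_cases hi : i = 0 <;> simp [hi]
    · by_cases hi : i = 0 <;> by_cases hj : j = 0 <;> simp_all
  · intro χ hχ
    have hχB := Finset.mem_of_mem_erase hχ
    obtain ⟨ψ, hψ, hψW, hψA, hψc⟩ := D.exists_gal hM hχ
    have hψB := Finset.mem_of_mem_erase hψ
    have hWψ : W ψ = W χ := Int.cast_injective (α := ℂ) (by rw [← hW, ← hW, hψW])
    have hcψ : ∀ l, c l ψ = c (3 * l) χ := fun l => Int.cast_injective (α := ℂ) (by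
      rw [← hc l ψ hψB, ← hc _ χ hχB]; exact hψc l)
    have hAψ : VA ψ = VA χ := Int.cast_injective (α := ℂ) (by rw [← hA, ← hA, hψA])
    have hqψ : q ψ = q χ := by
      have h1 := hq ψ
      rw [hWψ, hAψ, hq χ] at h1
      omega
    exact ⟨ψ, hψ, by simp only [Arith.row, Arith.gal, hWψ, hqψ, hcψ]; rfl⟩
  · intro χ hχ
    rw [hshift χ hχ]
    obtain ⟨v, hv, hv1, hne⟩ := D.exists_core_ne
    letI := Fintype.ofFinite ↥(core v)
    obtain ⟨n', d, K, hn', -, hK, hnd, -, hd⟩ := degree G S A a x₀ f g D M hM χ hχ (core v) hne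
      (Walter.odd_core v) ((D.sylow_le hv).trans (Walter.centralizer_le_normalizer_core v))
      (VA χ) (W χ) (hA χ) (hW χ)
    obtain rfl : n' = n χ := by exact_mod_cast hn'.symm.trans (hn1 χ)
    omega
  · intro χ hχ hne
    rw [hshift χ hχ]
    exact hcase G S A a x₀ f g D M hM χ hχ (VA χ) (W χ) (n χ) (hA χ) (by rwa [hrow χ hχ] at hne)
      (hW χ) (hn1 χ)
  · intro j hj
    have h := D.cfg.sum_count_coef hM j
    rw [← Finset.sum_erase_add _ _ hone, hc j o hone, hc 0 o hone, hco, hco] at h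
    simp [hj, o, oneChar_apply] at h
    refine Rat.cast_injective (α := ℂ) ?_
    rw [Rat.cast_sum, Rat.cast_one]
    have h' : ∑ χ ∈ B.erase o,
        (Five.Config.coef (χ : G → ℂ) a f j - Five.Config.coef (χ : G → ℂ) a f 0) *
        (χ : G → ℂ) a ^ 2 / (χ : G → ℂ) 1 = 1 := by linear_combination h
    rw [← h']
    refine Finset.sum_congr rfl fun χ hχ => ?_
    have hχB := Finset.mem_of_mem_erase hχ
    rw [hval χ hχ, hc j χ hχB, hc 0 χ hχB, hA, hn1]
    push_cast
    ring
  · have h := D.sum_count_root hM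
    rw [← Finset.sum_erase_add _ _ hone] at h
    simp [o, oneChar_apply] at h
    refine Rat.cast_injective (α := ℂ) ?_
    rw [Rat.cast_sum, Rat.cast_one]
    have h' : ∑ χ ∈ B.erase o, -((χ : G → ℂ) x₀ * (χ : G → ℂ) a ^ 2 / (χ : G → ℂ) 1) = 1 := by
      rw [Finset.sum_neg_distrib]; linear_combination -h
    rw [← h']
    refine Finset.sum_congr rfl fun χ hχ => ?_
    rw [hval χ hχ, hA, hW, hn1]
    push_cast
    ring

end Data

/-- Section R, all involutions of `S` in `A`. -/
theorem rankTwoMin (hStr : PropStructure.{u}) (hcase : PropCase1.{u}) : PropRankTwoMin.{u} := by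
  intro G _ _ S A h h4 hle hcA hx
  by_cases hspan : centSpan A = ⊤
  · obtain ⟨a, x₀, f, g, D⟩ := hStr G S A h h4 hle hcA hx hspan
    exact (D.false_of_case1 hcase).elim
  · exact Or.inl hspan

end Cfsg.Agent.Lib.Goldschmidt53.RankTwoMin
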