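import Cfsg.Agent.Lib.PiHomog3258.Five.Arith

/-!
# The arithmetic of rank two with a Sylow subgroup of type `U₃(4)`

Rows `(h, e 0, …, e 4)` with the Gram matrix of the six generalized characters, closed under the
Galois map, with the five class equations and degrees at least `64 + dmin` satisfy no such system
if a degree below `128 + dmin` only occurs with value `0` at `a`.  The certificate is a linear
form in the products of the entries (`notes/goldschmidt_rank2min_helper59.md`, section 4).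
-/

set_option autoImplicit false

namespace Cfsg.Agent.Lib.Goldschmidt53.RankTwoMin.Arith

open Cfsg.Agent.Lib.PiHomog3258.Five.Arith (bnd val rge mem_rge)

/-- Six integers `(h, e₀, a, b, c, d)`. -/
abbrev Row := ℤ × ℤ × ℤ × ℤ × ℤ × ℤ

/-- The linear form in the degree of freedom left by the values on `S`. -/
def shift : Row → ℤ
  | (h, e₀, a, b, c, d) => 60 * h - 3 * val h e₀ a b c d

/-- The least possible dimension of the fixed space of the odd core. -/
def dmin (c : ℤ) : ℤ := if 0 ≤ c then c else c % 64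

/-- The Galois map on rows. -/
def gal : Row → Row
  | (h, e₀, a, b, c, d) => (h, e₀, c, a, d, b)

/-- Sum of rows. -/
def add : Row → Row → Row
  | (h, e₀, a, b, c, d), (h', e₀', a', b', c', d') =>
    (h + h', e₀ + e₀', a + a', b + b', c + c', d + d')

/-- Difference of rows. -/
def sub : Row → Row → Row
  | (h, e₀, a, b, c, d), (h', e₀', a', b', c', d') =>
    (h - h', e₀ - e₀', a - a', b - b', c - c', d - d')

/-- The bound form. -/
def bq : Row → ℤ
  | (h, e₀, a, b, c, d) => bnd h e₀ a b c d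

/-- A quadratic form given by 21 coefficients. -/
def qf (y : Fin 21 → ℤ) : Row → ℤ
  | (h, e₀, a, b, c, d) => y 0 * (h * h) + y 1 * (h * e₀) + y 2 * (h * a) + y 3 * (h * b) +
      y 4 * (h * c) + y 5 * (h * d) + y 6 * (e₀ * e₀) + y 7 * (e₀ * a) + y 8 * (e₀ * b) +
      y 9 * (e₀ * c) + y 10 * (e₀ * d) + y 11 * (a * a) + y 12 * (a * b) + y 13 * (a * c) +
      y 14 * (a * d) + y 15 * (b * b) + y 16 * (b * c) + y 17 * (b * d) + y 18 * (c * c) +
      y 19 * (c * d) + y 20 * (d * d)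

/-- A combination of the numerators of the class equations. -/
def num (ys yh : ℤ) : Row → ℤ
  | (h, e₀, a, b, c, d) => (ys * (4 * e₀ - a - b - c - d) + yh * h) *
      (val h e₀ a b c d * val h e₀ a b c d)

/-- The weights. -/
def yMain : Fin 21 → ℤ :=
  ![-72, 69, 113, 113, 113, 113, -76, -106, -106, -106, -106, -45, -89, -89, -90, -45, -90, -89,
    -45, -89, -45]

/-- The orbit of a row under the Galois map does not fit into the Gram matrix. -/
def galBad (v : Row) : Bool :=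
  if gal v = v then false
  else if gal (gal v) = v then
    decide (376 < bq (add v (gal v))) || decide (376 < bq (sub v (gal v)))
  else decide (752 < bq (add (add v (gal v)) (add (gal (gal v)) (gal (gal (gal v)))))) ||
    decide (752 < bq (sub (add v (gal (gal v))) (add (gal v) (gal (gal (gal v))))))

/-- One row with a degree at least `128 + dmin`. -/
def okRow (y : Fin 21 → ℤ) (ys yh : ℤ) (v : Row) : Bool :=
  decide (qf y v ≤ 0) && decide ((128 + dmin (shift v)) * qf y v + num ys yh v ≤ 0)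

/-- The certificate at one row. -/
def okAll (v : Row) : Bool :=
  decide (188 < bq v) || galBad v || okRow yMain 213 400 v

theorem ok_all : (([-3, -2, -1, 0, 1, 2, 3] : List ℤ).all fun h => rge.all fun e₀ => rge.all fun a =>
    rge.all fun b => rge.all fun c => rge.all fun d => okAll (h, e₀, a, b, c, d)) = true := by
  decide +kernel

/-- The bilinear form of `bq`. -/
def blin : Row → Row → ℤ
  | (H, E, A, B, C, D), (h, e₀, a, b, c, d) => (28 * H - 8 * E - 13 * (A + B + C + D)) * h +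
      (-8 * H + 56 * E - 3 * (A + B + C + D)) * e₀ +
      (-13 * H - 3 * E + 48 * A + (B + C + D)) * a + (-13 * H - 3 * E + 48 * B + (A + C + D)) * b +
      (-13 * H - 3 * E + 48 * C + (A + B + D)) * c + (-13 * H - 3 * E + 48 * D + (A + B + C)) * d

/-- The value of a quadratic form at the Gram matrix. -/
def qtot (y : Fin 21 → ℤ) : ℤ :=
  15 * y 0 + 3 * y 1 + 4 * (y 2 + y 3 + y 4 + y 5) + 4 * y 6 + (y 7 + y 8 + y 9 + y 10) +
    5 * y 11 + (y 12 + y 13 + y 14) + 5 * y 15 + (y 16 + y 17) + 5 * y 18 + y 19 + 5 * y 20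

theorem totals : 0 < qtot yMain + 4 * 213 + 400 := by
  decide

variable {ι : Type*}

/-- The row of one element. -/
def row (h : ι → ℤ) (e : Fin 5 → ι → ℤ) (χ : ι) : Row :=
  (h χ, e 0 χ, e 1 χ, e 2 χ, e 3 χ, e 4 χ)

section

variable (s : Finset ι) (h : ι → ℤ) (e : Fin 5 → ι → ℤ) (n : ι → ℤ)
  (hhh : ∑ χ ∈ s, h χ * h χ = 15) (hh0 : ∑ χ ∈ s, h χ * e 0 χ = 3)
  (hhe : ∀ j, j ≠ 0 → ∑ χ ∈ s, h χ * e j χ = 4)
  (hee : ∀ i j, ∑ χ ∈ s, e i χ * e j χ = if i = j then (if i = 0 then 4 else 5) else 1)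
include hhh hh0 hhe hee

theorem sum_blin_sq (u : Row) :
    ∑ χ ∈ s, blin u (row h e χ) * blin u (row h e χ) = 188 * bq u := by
  obtain ⟨H, E, A, B, C, D⟩ := u
  simp only [blin, row, bq, bnd, add_mul, mul_add, Finset.sum_add_distrib]
  simp only [mul_assoc, mul_left_comm (h _), mul_left_comm (e _ _), ← Finset.mul_sum]
  simp only [mul_comm (e _ _) (h _)]
  simp [hhh, hh0, hhe, hee]
  ring

theorem bq_le [DecidableEq ι] (u : Row) (T : Finset ι) (hT : T ⊆ s) (σ : ι → ℤ)
    (hσ : ∀ χ ∈ T, σ χ * σ χ = 1) (hu : ∑ χ ∈ T, σ χ * blin u (row h e χ) = bq u) :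
    bq u ≤ 188 * T.card := by
  have h1 : (∑ χ ∈ T, σ χ * blin u (row h e χ)) ^ 2 ≤
      (∑ χ ∈ T, σ χ ^ 2) * ∑ χ ∈ T, blin u (row h e χ) ^ 2 :=
    Finset.sum_mul_sq_le_sq_mul_sq T σ _
  rw [hu, Finset.sum_congr rfl (g := fun _ => (1 : ℤ)) fun χ hχ => by rw [sq, hσ χ hχ],
    Finset.sum_const, nsmul_eq_mul, mul_one] at h1
  have h2 : ∑ χ ∈ T, blin u (row h e χ) ^ 2 ≤ 188 * bq u := by
    rw [← sum_blin_sq s h e hhh hh0 hhe hee u]
    exact (Finset.sum_le_sum_of_subset_of_nonneg hT fun _ _ _ => sq_nonneg _).trans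
      (le_of_eq (Finset.sum_congr rfl fun χ _ => sq _))
  have h3 : bq u ^ 2 ≤ (T.card : ℤ) * (188 * bq u) :=
    h1.trans (mul_le_mul_of_nonneg_left h2 (Int.natCast_nonneg _))
  by_contra hlt
  push Not at hlt
  nlinarith [Int.natCast_nonneg T.card]

theorem not_galBad (hgal : ∀ χ ∈ s, ∃ ψ ∈ s, row h e ψ = gal (row h e χ)) {χ : ι} (hχ : χ ∈ s) :
    galBad (row h e χ) = false := by
  classical
  obtain ⟨χ₁, h1s, h1⟩ := hgal χ hχ
  obtain ⟨χ₂, h2s, h2⟩ := hgal χ₁ h1s
  obtain ⟨χ₃, h3s, h3⟩ := hgal χ₂ h2s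
  set v := row h e χ with hv
  rw [h1] at h2
  rw [h2] at h3
  unfold galBad
  by_cases e1 : gal v = v
  · rw [if_pos e1]
  rw [if_neg e1]
  have n1 : χ ≠ χ₁ := fun he => e1 (by rw [← h1, ← he])
  have lin : ∀ u v₁ v₂ : Row, blin u (add v₁ v₂) = blin u v₁ + blin u v₂ := by
    rintro ⟨_, _, _, _, _, _⟩ ⟨_, _, _, _, _, _⟩ ⟨_, _, _, _, _, _⟩
    simp only [blin, add]; ring
  have lins : ∀ u v₁ v₂ : Row, blin u (sub v₁ v₂) = blin u v₁ - blin u v₂ := by
    rintro ⟨_, _, _, _, _, _⟩ ⟨_, _, _, _, _, _⟩ ⟨_, _, _, _, _, _⟩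
    simp only [blin, sub]; ring
  have self : ∀ u : Row, blin u u = bq u := by
    rintro ⟨_, _, _, _, _, _⟩
    simp only [blin, bq, bnd]; ring
  by_cases e2 : gal (gal v) = v
  · rw [if_pos e2, Bool.or_eq_false_iff, decide_eq_false_iff_not, decide_eq_false_iff_not,
      not_lt, not_lt]
    have hsub : ({χ, χ₁} : Finset ι) ⊆ s := by simp [Finset.insert_subset_iff, hχ, h1s]
    constructor
    · have := bq_le s h e hhh hh0 hhe hee (add v (gal v)) {χ, χ₁} hsub (fun _ => 1)
        (fun _ _ => rfl) (by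
          rw [Finset.sum_pair n1, one_mul, one_mul, ← hv, h1, ← lin, self])
      rwa [Finset.card_pair n1] at this
    · have := bq_le s h e hhh hh0 hhe hee (sub v (gal v)) {χ, χ₁} hsub
        (fun x => if x = χ then 1 else -1) (fun x _ => by split <;> rfl) (by
          rw [Finset.sum_pair n1, if_pos rfl, if_neg n1.symm, one_mul, neg_one_mul, ← hv, h1,
            ← sub_eq_add_neg, ← lins, self])
      rwa [Finset.card_pair n1] at this
  · rw [if_neg e2, Bool.or_eq_false_iff, decide_eq_false_iff_not, decide_eq_false_iff_not,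
      not_lt, not_lt]
    have ginj : Function.Injective gal := by
      rintro ⟨_, _, _, _, _, _⟩ ⟨_, _, _, _, _, _⟩ he
      simp only [gal, Prod.mk.injEq] at he
      simp [he]
    have g4 : gal (gal (gal (gal v))) = v := rfl
    have n2 : χ ≠ χ₂ := fun he => e2 (by rw [← h2, ← he])
    have n3 : χ ≠ χ₃ := fun he => e1 (by
      have e3 : gal (gal (gal v)) = v := by rw [← h3, ← he]
      calc gal v = gal (gal (gal (gal v))) := by rw [e3]
        _ = v := g4)
    have n12 : χ₁ ≠ χ₂ := fun he => e1 (ginj (by rw [← h2, ← he, h1])).symm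
    have n13 : χ₁ ≠ χ₃ := fun he => e2 (ginj (by rw [← h3, ← he, h1])).symm
    have n23 : χ₂ ≠ χ₃ := fun he => e1 (ginj (ginj (by rw [← h3, ← he, h2]))).symm
    have hsub : ({χ, χ₁, χ₂, χ₃} : Finset ι) ⊆ s := by
      simp [Finset.insert_subset_iff, hχ, h1s, h2s, h3s]
    have hcard : ({χ, χ₁, χ₂, χ₃} : Finset ι).card = 4 := by simp [n1, n2, n3, n12, n13, n23]
    constructor
    · have := bq_le s h e hhh hh0 hhe hee
        (add (add v (gal v)) (add (gal (gal v)) (gal (gal (gal v))))) {χ, χ₁, χ₂, χ₃} hsub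
        (fun _ => 1) (fun _ _ => rfl) (by
          rw [← self]
          simp [n1, n2, n3, n12, n13, n23, ← hv, h1, h2, h3, lin]
          ring)
      rwa [hcard] at this
    · have := bq_le s h e hhh hh0 hhe hee
        (sub (add v (gal (gal v))) (add (gal v) (gal (gal (gal v))))) {χ, χ₁, χ₂, χ₃} hsub
        (fun x => if x = χ ∨ x = χ₂ then 1 else -1) (fun x _ => by split <;> rfl) (by
          rw [← self]
          simp [n1, n2, n3, n12, n13, n23, n1.symm, n3.symm, n23.symm, ← hv, h1, h2, h3,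
            lin, lins]
          ring)
      rwa [hcard] at this

variable (hgal : ∀ χ ∈ s, ∃ ψ ∈ s, row h e ψ = gal (row h e χ))
  (hlow : ∀ χ ∈ s, 64 + dmin (shift (row h e χ)) ≤ n χ)
  (hbig : ∀ χ ∈ s, val (h χ) (e 0 χ) (e 1 χ) (e 2 χ) (e 3 χ) (e 4 χ) ≠ 0 →
    128 + dmin (shift (row h e χ)) ≤ n χ)
  (hrel : ∀ j, j ≠ 0 → ∑ χ ∈ s,
    ((e 0 χ - e j χ : ℤ) : ℚ) * ((4 * (∑ i, e i χ) - 5 * h χ : ℤ) : ℚ) ^ 2 / n χ = 1)
  (hrelh : ∑ χ ∈ s, (h χ : ℚ) * ((4 * (∑ i, e i χ) - 5 * h χ : ℤ) : ℚ) ^ 2 / n χ = 1)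
include hgal hlow hbig hrel hrelh

theorem sum_num (ys yh : ℤ) :
    ∑ χ ∈ s, (num ys yh (row h e χ) : ℚ) / n χ = 4 * ys + yh := by
  have h4 := fun j hj => hrel j hj
  have hterm : ∀ χ, (num ys yh (row h e χ) : ℚ) / n χ = (ys : ℚ) *
      (∑ j ∈ ({1, 2, 3, 4} : Finset (Fin 5)), ((e 0 χ - e j χ : ℤ) : ℚ) *
        ((4 * (∑ i, e i χ) - 5 * h χ : ℤ) : ℚ) ^ 2 / n χ) +
      (yh : ℚ) * ((h χ : ℚ) * ((4 * (∑ i, e i χ) - 5 * h χ : ℤ) : ℚ) ^ 2 / n χ) := fun χ => by
    simp [num, row, val, Fin.sum_univ_five]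
    ring
  rw [Finset.sum_congr rfl fun χ _ => hterm χ, Finset.sum_add_distrib, ← Finset.mul_sum,
    ← Finset.mul_sum, hrelh, Finset.sum_comm,
    Finset.sum_congr rfl fun j hj => hrel j (by intro h0; subst h0; simp at hj)]
  rw [Finset.sum_const, show ({1, 2, 3, 4} : Finset (Fin 5)).card = 4 from rfl]
  norm_num
  ring

/-- **The contradiction.** -/
theorem not_possible : False := by
  classical
  have hle : ∀ χ ∈ s, ∀ {f : ι → ℤ} {m : ℤ}, ∑ x ∈ s, f x * f x = m → f χ * f χ ≤ m :=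
    fun χ hχ {f m} hf =>
      hf ▸ Finset.single_le_sum (f := fun x => f x * f x) (fun _ _ => mul_self_nonneg _) hχ
  have self : ∀ u : Row, blin u u = bq u := by
    rintro ⟨_, _, _, _, _, _⟩
    simp only [blin, bq, bnd]; ring
  have hok : ∀ χ ∈ s, okAll (row h e χ) = true := by
    intro χ hχ
    have hh' : h χ ∈ ([-3, -2, -1, 0, 1, 2, 3] : List ℤ) := by
      have h0 := hle χ hχ hhh
      have h1 : -3 ≤ h χ ∧ h χ ≤ 3 := ⟨by nlinarith, by nlinarith⟩
      simp only [List.mem_cons, List.not_mem_nil, or_false]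
      omega
    have hm : ∀ i, e i χ ∈ rge := fun i => mem_rge ((hle χ hχ (hee i i)).trans (by split_ifs <;> simp_all))
    have hk := ok_all
    simp only [List.all_eq_true] at hk
    exact hk _ hh' _ (hm 0) _ (hm 1) _ (hm 2) _ (hm 3) _ (hm 4)
  have hb1 : ∀ χ ∈ s, bq (row h e χ) ≤ 188 := fun χ hχ => by
    simpa using bq_le s h e hhh hh0 hhe hee (row h e χ) {χ} (by simpa using hχ) (fun _ => 1)
      (fun _ _ => rfl) (by simp [self])
  have hcert : ∀ χ ∈ s, okRow yMain 213 400 (row h e χ) = true := by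
    intro χ hχ
    have hk := hok χ hχ
    simp only [okAll, Bool.or_eq_true, decide_eq_true_eq, not_galBad s h e hhh hh0 hhe hee hgal hχ,
      Bool.false_eq_true, or_false] at hk
    exact hk.resolve_left (not_lt.2 (hb1 χ hχ))
  have hpt : ∀ χ ∈ s, (num 213 400 (row h e χ) : ℚ) / n χ ≤
      -((qf yMain (row h e χ) : ℤ) : ℚ) := by
    intro χ hχ
    have hd : (0 : ℤ) ≤ dmin (shift (row h e χ)) := by
      unfold dmin; split_ifs <;> omega
    have hn := hlow χ hχ
    have hk := hcert χ hχ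
    simp only [okRow, Bool.and_eq_true, decide_eq_true_eq] at hk
    have hpos : (0 : ℚ) < n χ := by exact_mod_cast (show (0 : ℤ) < n χ by omega)
    rw [div_le_iff₀ hpos]
    suffices qf yMain (row h e χ) * n χ + num 213 400 (row h e χ) ≤ 0 by
      have : ((qf yMain (row h e χ) : ℤ) : ℚ) * n χ + (num 213 400 (row h e χ) : ℤ) ≤ 0 := by
        exact_mod_cast this
      linarith
    by_cases hv : val (h χ) (e 0 χ) (e 1 χ) (e 2 χ) (e 3 χ) (e 4 χ) = 0
    · rw [show num 213 400 (row h e χ) = 0 by simp only [num, row, hv]; ring, add_zero]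
      exact mul_nonpos_of_nonpos_of_nonneg hk.1 (by omega)
    · have := mul_le_mul_of_nonpos_left (hbig χ hχ hv) hk.1
      linarith [hk.2]
  have hsumq : ∑ χ ∈ s, qf yMain (row h e χ) = qtot yMain := by
    simp [qtot, qf, row, Finset.sum_add_distrib, ← Finset.mul_sum, hhh, hh0, hhe, hee]
    ring
  have h2 := Finset.sum_le_sum hpt
  rw [sum_num s h e n hhh hh0 hhe hee hgal hlow hbig hrel hrelh 213 400, Finset.sum_neg_distrib,
    ← Int.cast_sum, hsumq] at h2
  have ht : ((0 : ℤ) : ℚ) < ((qtot yMain + 4 * 213 + 400 : ℤ) : ℚ) := Int.cast_lt.2 totals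
  push_cast at ht h2
  linarith

end

end Cfsg.Agent.Lib.Goldschmidt53.RankTwoMin.Arith
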