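import Cfsg.Agent.Lib.Goldschmidt53.RankTwoCentralizer
import Cfsg.Agent.Lib.Goldschmidt53.RankTwoMin.Arith
import Cfsg.Agent.Lib.PiHomog3258.Five.Config
import Cfsg.Agent.Lib.Characters.Kernel

/-!
# Rank two, all involutions central: the configuration

`S` has type `U₃(4)`, `f` induces the automorphism of order 5 fixing `A = Z(S)`, `g` permutes the
involutions of `A` cyclically, and every `C(v)`, `v ∈ A#`, is `O(C(v)) S ⟨f⟩`
(`notes/goldschmidt_rank2min_helper59.md`).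
-/

set_option autoImplicit false
set_option linter.style.haveILetI false
set_option linter.unusedSectionVars false

universe u

namespace Cfsg.Agent.Lib.Goldschmidt53.RankTwoMin

open Subgroup Cfsg.Agent.Lib.Characters.Basic
open Cfsg.Agent.Lib.Walter (core coreC)
open Cfsg.Agent.Lib.PiHomog3258

attribute [local instance] Classical.propDecidable

variable {G : Type u} [Group G] [Finite G]

/-- The configuration. -/
structure Data (S : Sylow 2 G) (A : Subgroup G) (a x₀ : ↥(S : Subgroup G)) (f g : G) : Prop where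
  hyp : Goldschmidt53.Hyp S A
  span : centSpan A = ⊤
  centre : (center ↥(S : Subgroup G)).map (S : Subgroup G).subtype = A
  cfg : Five.Config S a x₀ f
  g_norm : g ∈ normalizer ((S : Subgroup G) : Set G)
  cycle : ∀ v ∈ A, v ≠ 1 → ∃ i : ℕ, g ^ i * (a : G) * (g ^ i)⁻¹ = v
  split : ∀ v ∈ A, v ≠ 1 → ∀ c ∈ centralizer ({v} : Set G),
    ∃ k ∈ core v, ∃ (s : ↥(S : Subgroup G)) (i : Fin 5), c = k * (s : G) * f ^ (i : ℕ)
  f_five : ∀ v ∈ A, v ≠ 1 → f ^ 5 ∈ core v
  psolv : ∀ v ∈ A, v ≠ 1 → Cfsg.IsPSolvable 2 ↥(centralizer ({v} : Set G))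
  core_inf : ∀ v ∈ A, v ≠ 1 → core v ⊓ centralizer (A : Set G) = coreC A

namespace Data

variable {S : Sylow 2 G} {A : Subgroup G} {a x₀ : ↥(S : Subgroup G)} {f g : G}
variable (D : Data S A a x₀ f g)
include D

theorem mem_A {z : ↥(S : Subgroup G)} (hz : z ∈ center ↥(S : Subgroup G)) : (z : G) ∈ A :=
  D.centre ▸ ⟨z, hz, rfl⟩

theorem a_mem : (a : G) ∈ A := D.mem_A D.cfg.a_mem

theorem a_ne : (a : G) ≠ 1 := fun h => D.cfg.a_ne (Subtype.ext h)

theorem mem_center {z : G} (hz : z ∈ A) :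
    ∃ z' ∈ center ↥(S : Subgroup G), (z' : G) = z := by
  rw [← D.centre] at hz
  obtain ⟨z', hz', e⟩ := hz
  exact ⟨z', hz', e⟩

theorem comm {v : G} (hv : v ∈ A) {s : G} (hs : s ∈ (S : Subgroup G)) : s * v = v * s := by
  obtain ⟨z, hz, rfl⟩ := D.mem_center hv
  exact congrArg Subtype.val (mem_center_iff.1 hz ⟨s, hs⟩)

theorem sylow_le {v : G} (hv : v ∈ A) : (S : Subgroup G) ≤ centralizer ({v} : Set G) :=
  fun _ hs => mem_centralizer_singleton_iff.2 (D.comm hv hs)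

theorem orderOf_eq {v : G} (hv : v ∈ A) (hv1 : v ≠ 1) : orderOf v = 2 :=
  orderOf_eq_prime (D.hyp.elem.2 v hv) hv1

theorem f_mem {v : G} (hv : v ∈ A) : f ∈ centralizer ({v} : Set G) := by
  obtain ⟨z, hz, rfl⟩ := D.mem_center hv
  exact mem_centralizer_singleton_iff.2 (D.cfg.f_center z hz)

/-- A non-trivial element of `S` has a power in `A#` centralised by its centraliser. -/
theorem exists_root {s : ↥(S : Subgroup G)} (hs : s ≠ 1) :
    ∃ v ∈ A, v ≠ 1 ∧ centralizer ({(s : G)} : Set G) ≤ centralizer ({v} : Set G) := by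
  by_cases h : s * s = 1
  · exact ⟨s, D.mem_A (D.cfg.invol s h), fun e => hs (Subtype.ext e), le_rfl⟩
  · refine ⟨(s : G) * s, D.mem_A (D.cfg.sq s), fun e => h (Subtype.ext e), fun c hc => ?_⟩
    have := mem_centralizer_singleton_iff.1 hc
    exact mem_centralizer_singleton_iff.2 ((show Commute c (s : G) from this).mul_right this).eq

/-- An odd subgroup normalised by `S` meets `C(v)` inside `O(C(v))`. -/
theorem inf_centralizer_le {X : Subgroup G} (hX : Odd (Nat.card ↥X))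
    (hS : (S : Subgroup G) ≤ normalizer (X : Set G)) {v : G} (hv : v ∈ A) (hv1 : v ≠ 1) :
    X ⊓ centralizer ({v} : Set G) ≤ core v := by
  classical
  haveI : Fact (Nat.Prime 2) := ⟨Nat.prime_two⟩
  intro c hc
  obtain ⟨k, hk, s, i, rfl⟩ := D.split v hv hv1 c hc.2
  have hkey : ∀ t ∈ (S : Subgroup G), ∃ k' ∈ core v,
      t * (k * (s : G) * f ^ (i : ℕ)) * t⁻¹ * (k * (s : G) * f ^ (i : ℕ))⁻¹ =
        k' * (t * ((s : G) * f ^ (i : ℕ)) * t⁻¹ * ((s : G) * f ^ (i : ℕ))⁻¹) := by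
    intro t ht
    have hn := Walter.centralizer_le_normalizer_core v
    have hC : t * ((s : G) * f ^ (i : ℕ)) * t⁻¹ * ((s : G) * f ^ (i : ℕ))⁻¹ ∈
        centralizer ({v} : Set G) :=
      mul_mem (mul_mem (mul_mem (D.sylow_le hv ht)
        (mul_mem (D.sylow_le hv s.2) (pow_mem (D.f_mem hv) _))) (inv_mem (D.sylow_le hv ht)))
        (inv_mem (mul_mem (D.sylow_le hv s.2) (pow_mem (D.f_mem hv) _)))
    refine ⟨t * k * t⁻¹ * ((t * ((s : G) * f ^ (i : ℕ)) * t⁻¹ * ((s : G) * f ^ (i : ℕ))⁻¹) * k⁻¹ *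
      (t * ((s : G) * f ^ (i : ℕ)) * t⁻¹ * ((s : G) * f ^ (i : ℕ))⁻¹)⁻¹),
      mul_mem ((mem_normalizer_iff.1 (hn (D.sylow_le hv ht)) k).1 hk)
        ((mem_normalizer_iff.1 (hn hC) _).1 (inv_mem hk)), ?_⟩
    group
  have hfS : ∀ y ∈ (S : Subgroup G), f ^ (i : ℕ) * y * (f ^ (i : ℕ))⁻¹ ∈ (S : Subgroup G) :=
    fun y hy => (mem_normalizer_iff.1 (pow_mem D.cfg.f_norm _) y).1 hy
  -- the commutator with `S` is a 2-element modulo the core and lies in `X`
  have hcomm : ∀ t : ↥(S : Subgroup G),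
      (t : G) * ((s : G) * f ^ (i : ℕ)) * (t : G)⁻¹ * ((s : G) * f ^ (i : ℕ))⁻¹ = 1 := by
    intro t
    obtain ⟨k', hk', he⟩ := hkey t t.2
    set y := (t : G) * ((s : G) * f ^ (i : ℕ)) * (t : G)⁻¹ * ((s : G) * f ^ (i : ℕ))⁻¹ with hy
    have hyS : y ∈ (S : Subgroup G) := by
      rw [hy, show (t : G) * ((s : G) * f ^ (i : ℕ)) * (t : G)⁻¹ * ((s : G) * f ^ (i : ℕ))⁻¹ =
        (t : G) * s * (f ^ (i : ℕ) * (t : G)⁻¹ * (f ^ (i : ℕ))⁻¹) * (s : G)⁻¹ by group]
      exact mul_mem (mul_mem (mul_mem t.2 s.2) (hfS _ (inv_mem t.2))) (inv_mem s.2)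
    have hX' : k' * y ∈ X := by
      rw [← he]
      exact mul_mem ((mem_normalizer_iff.1 (hS t.2) _).1 hc.1) (inv_mem hc.1)
    -- modulo the core `y` has odd and two-power order
    set C := centralizer ({v} : Set G) with hCdef
    let π := QuotientGroup.mk' (Cfsg.oddCore ↥C)
    have hkC : k' ∈ C := map_subtype_le _ hk'
    have hyC : y ∈ C := D.sylow_le hv hyS
    have hπk : π ⟨k', hkC⟩ = 1 := by
      obtain ⟨k₀, hk₀, e⟩ := hk'
      exact (QuotientGroup.eq_one_iff _).2 ((Subtype.ext e : k₀ = ⟨k', hkC⟩) ▸ hk₀)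
    have hodd : Odd (orderOf (π ⟨y, hyC⟩)) := by
      have h1 : π ⟨y, hyC⟩ = π ⟨k' * y, mul_mem hkC hyC⟩ := by
        rw [show (⟨k' * y, mul_mem hkC hyC⟩ : ↥C) = ⟨k', hkC⟩ * ⟨y, hyC⟩ from rfl, map_mul, hπk,
          one_mul]
      rw [h1]
      refine Odd.of_dvd_nat hX ((orderOf_map_dvd π _).trans ?_)
      rw [← Subgroup.orderOf_coe]
      exact Subgroup.orderOf_dvd_natCard X hX'
    obtain ⟨j, hj⟩ := IsPGroup.iff_orderOf.1 S.isPGroup' ⟨y, hyS⟩
    have h2 : orderOf (π ⟨y, hyC⟩) ∣ 2 ^ j := by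
      refine (orderOf_map_dvd π _).trans ?_
      rw [← hj, ← Subgroup.orderOf_coe, ← Subgroup.orderOf_coe]
    obtain ⟨m, -, hm⟩ := (Nat.dvd_prime_pow Nat.prime_two).1 h2
    rw [hm] at hodd
    have hm0 : m = 0 := by
      by_contra h0
      exact Nat.not_odd_iff_even.2 ((Nat.even_pow' h0).2 even_two) hodd
    rw [hm0, pow_zero, orderOf_eq_one_iff] at hm
    have hyK : y ∈ core v := ⟨⟨y, hyC⟩, (QuotientGroup.eq_one_iff _).1 hm, rfl⟩
    refine orderOf_eq_one_iff.1 ?_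
    have h3 : orderOf y ∣ Nat.card ↥(core v) := Subgroup.orderOf_dvd_natCard _ hyK
    have h4 : orderOf y ∣ 2 ^ j := by rw [← hj, ← Subgroup.orderOf_coe]
    exact Nat.eq_one_of_dvd_coprimes
      (((Nat.prime_two.coprime_iff_not_dvd).2 fun h => Nat.not_odd_iff_even.2
        (even_iff_two_dvd.2 h) (Walter.odd_core v)).pow_left j).symm h3 h4
  -- so `s f^i` centralises `S`: then `i = 0` and `s` is central
  have hi : (i : ℕ) = 0 := by
    by_contra hi0
    obtain ⟨t, ht⟩ := D.cfg.exists_not_center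
    obtain ⟨u, hu⟩ := D.cfg.exists_conj_f (i : ℕ) t
    have h := mul_inv_eq_iff_eq_mul.1 (mul_inv_eq_one.1 (hcomm t))
    have hus : (u : G) = ((s⁻¹ * t * s : ↥(S : Subgroup G)) : G) := by
      push_cast
      rw [hu]
      calc f ^ (i : ℕ) * t * (f ^ (i : ℕ))⁻¹
          = (s : G)⁻¹ * ((s : G) * f ^ (i : ℕ) * t) * (f ^ (i : ℕ))⁻¹ := by group
        _ = (s : G)⁻¹ * ((t : G) * ((s : G) * f ^ (i : ℕ))) * (f ^ (i : ℕ))⁻¹ := by rw [h]
        _ = _ := by group
    have hmem : t⁻¹ * u ∈ center ↥(S : Subgroup G) := by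
      rw [show u = s⁻¹ * t * s from Subtype.ext hus,
        show t⁻¹ * (s⁻¹ * t * s) = t⁻¹ * t⁻¹ * (t * s⁻¹ * (t * s⁻¹)) * (s * s) by group]
      refine mul_mem (mul_mem ?_ (D.cfg.sq _)) (D.cfg.sq _)
      rw [← mul_inv_rev]; exact inv_mem (D.cfg.sq t)
    have h5 := D.cfg.dvd_of_coset (m := (i : ℕ)) ht hmem (by rw [← hu]; simp)
    have := i.2
    omega
  rw [hi, pow_zero, mul_one] at hc hcomm ⊢
  have hsc : s ∈ center ↥(S : Subgroup G) := mem_center_iff.2 fun t => Subtype.ext (by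
    have := hcomm t
    rw [mul_inv_eq_one, mul_inv_eq_iff_eq_mul] at this
    exact this)
  -- a central element of `S` of odd order modulo the core is trivial
  have hs1 : s = 1 := by
    by_contra hs1
    have hodd : Odd (orderOf (k * (s : G))) :=
      hX.of_dvd_nat (Subgroup.orderOf_dvd_natCard _ hc.1)
    obtain ⟨m, hm⟩ := hodd
    have hsA := D.mem_A hsc
    have h2 : (s : G) ^ 2 = 1 := D.hyp.elem.2 _ hsA
    have hsC := D.sylow_le hv s.2
    have hkC : k ∈ centralizer ({v} : Set G) := map_subtype_le _ hk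
    let π := QuotientGroup.mk' (Cfsg.oddCore ↥(centralizer ({v} : Set G)))
    have hπk : π ⟨k, hkC⟩ = 1 := by
      obtain ⟨k₀, hk₀, e⟩ := hk
      exact (QuotientGroup.eq_one_iff _).2 ((Subtype.ext e : k₀ = ⟨k, hkC⟩) ▸ hk₀)
    have h3 : (⟨k, hkC⟩ * ⟨s, hsC⟩ : ↥(centralizer ({v} : Set G))) ^ (2 * m + 1) = 1 :=
      Subtype.ext (by push_cast; rw [← hm, pow_orderOf_eq_one])
    have h4 := congrArg π h3
    rw [map_pow, map_mul, hπk, one_mul, map_one, pow_add, pow_mul, ← map_pow,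
      show (⟨s, hsC⟩ : ↥(centralizer ({v} : Set G))) ^ 2 = 1 from Subtype.ext (by
        push_cast; exact h2), map_one, one_pow, one_mul, pow_one] at h4
    have hsK : (s : G) ∈ core v := ⟨_, (QuotientGroup.eq_one_iff _).1 h4, rfl⟩
    have h5 : orderOf (s : G) ∣ Nat.card ↥(core v) := Subgroup.orderOf_dvd_natCard _ hsK
    rw [D.orderOf_eq hsA fun e => hs1 (Subtype.ext e)] at h5
    exact Nat.not_odd_iff_even.2 (even_iff_two_dvd.2 h5) (Walter.odd_core v)
  rw [hs1, OneMemClass.coe_one, mul_one]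
  exact hk

/-- In an odd subgroup normalised by `S`, the centraliser of `s ∈ S#` lies in `O(C(s))`. -/
theorem centralizer_le_core {X : Subgroup G} (hX : Odd (Nat.card ↥X))
    (hS : (S : Subgroup G) ≤ normalizer (X : Set G)) {s : ↥(S : Subgroup G)} (hs : s ≠ 1) {k : G}
    (hk : k ∈ X) (hks : k * (s : G) = s * k) : k ∈ core (s : G) := by
  obtain ⟨v, hv, hv1, hle⟩ := D.exists_root hs
  have hks' : k ∈ centralizer ({(s : G)} : Set G) := mem_centralizer_singleton_iff.2 hks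
  have hkv : k ∈ core v := D.inf_centralizer_le hX hS hv hv1 ⟨hk, hle hks'⟩
  refine Walter.le_core (D := core v ⊓ centralizer ({(s : G)} : Set G)) inf_le_right ?_
    ((Walter.odd_core v).of_dvd_nat (card_dvd_of_le inf_le_left)) ⟨hkv, hks'⟩
  exact (le_inf (hle.trans (Walter.centralizer_le_normalizer_core v)) le_normalizer).trans
    inf_normalizer_le_normalizer_inf

end Data

/-- The degree congruences: every odd subgroup `U` normalised by `S` has a fixed space of dimension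
`d ≡ -60 W - 3 A`, with 64 times a positive number for the rest of `χ`. -/
def PropDegree.{w} : Prop :=
  ∀ (G : Type w) [Group G] [Finite G] (S : Sylow 2 G) (A : Subgroup G) (a x₀ : ↥(S : Subgroup G))
    (f g : G), Data S A a x₀ f g → ∀ (M : Ideal Cfsg.AlgInt), Cfsg.IsPModular 2 M →
    ∀ χ ∈ (U34Type98.Section.blk G M).erase (oneChar G), ∀ U : Subgroup G, U ≠ ⊥ →
      Odd (Nat.card ↥U) → (S : Subgroup G) ≤ normalizer (U : Set G) →
      ∀ [Fintype ↥U], ∀ (VA VW : ℤ), (χ : G → ℂ) a = VA → (χ : G → ℂ) x₀ = VW →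
        ∃ n d K : ℕ, (χ : G → ℂ) 1 = n ∧ ∑ k : ↥U, (χ : G → ℂ) k = (Nat.card ↥U : ℂ) * d ∧
          1 ≤ K ∧ n = d + 64 * K ∧ (64 : ℤ) ∣ (d : ℤ) - (-60 * VW - 3 * VA) ∧
          Arith.dmin (-60 * VW - 3 * VA) ≤ d

/-- The structure step: the hypotheses of `PropRankTwoMin` with `centSpan A = ⊤` give the
configuration. -/
def PropStructure.{w} : Prop :=
  ∀ (G : Type w) [Group G] [Finite G] (S : Sylow 2 G) (A : Subgroup G), Goldschmidt53.Hyp S A →
    Nat.card ↥A = 4 → A.subgroupOf (S : Subgroup G) ≤ commutator ↥(S : Subgroup G) →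
    (∀ s ∈ (S : Subgroup G), ∀ a ∈ A, s * a = a * s) →
    (∀ x ∈ (S : Subgroup G), orderOf x = 2 → x ∈ A) → centSpan A = ⊤ →
    ∃ (a x₀ : ↥(S : Subgroup G)) (f g : G), Data S A a x₀ f g

end Cfsg.Agent.Lib.Goldschmidt53.RankTwoMin
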