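import Cfsg.Agent.Lib.Goldschmidt53.RankTwoMin.Config
import Cfsg.Agent.Lib.Goldschmidt53.RankTwoMin.Setup
import Cfsg.Agent.Lib.Goldschmidt53.Facts
import Cfsg.Agent.Lib.Goldschmidt53.Local

/-!
# Rank two, all involutions in `A`: the structure step
-/

set_option autoImplicit false
set_option linter.style.haveILetI false
set_option linter.unusedSectionVars false

universe u

namespace Cfsg.Agent.Lib.Goldschmidt53.RankTwoMin

open Subgroup
open Cfsg.Agent.Lib.Walter (core coreC)
open Cfsg.Agent.Lib.PiHomog3258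

/-- The structure step, with the facts as hypotheses. -/
theorem structure_of (hL : PropFacts.{u}) (hX : PropLocal.{u}) : PropStructure.{u} := by
  intro G _ _ S A h h4 hle hcA hinv htop
  have D := Structure.sixty h h4 hle hcA hinv
  have hzS := Structure.zS_eq h h4 hcA D
  obtain ⟨f, hford, hτ, hsplit⟩ := Config.exists_five hL hX h h4 hcA D hinv
  obtain ⟨a₀, ha₀, ha₀1⟩ := A.bot_or_exists_ne_one.resolve_left h.ne
  obtain ⟨a, -, rfl⟩ : a₀ ∈ Five.zS S := hzS.symm ▸ ha₀
  have haA : (a : G) ∈ A := ha₀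
  have ha1 : (a : G) ≠ 1 := ha₀1
  obtain ⟨x₀, hC⟩ := Config.exists_config h h4 hcA D haA ha1 hford hτ (hsplit _ haA ha1)
  obtain ⟨t, ht, hta⟩ := SetLike.not_le_iff_exists.1 (Structure.exists_notMem_zpowers h h4 (a : G))
  obtain ⟨n, hn, hnt⟩ := Structure.fusion h h4 hcA D haA ha1 ht fun e => hta (e ▸ one_mem _)
  have haz : (a : G) ∈ Five.zS S := hzS.symm ▸ haA
  obtain ⟨i, ho, hi⟩ := Local74.exists_odd_moving haz hn fun e => hta (by
    rw [← hnt, e]
    exact mem_zpowers _)
  set g := n ^ i with hg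
  have hgN : g ∈ normalizer ((S : Subgroup G) : Set G) := pow_mem hn i
  obtain ⟨h1, -⟩ := Local74.cycle D haz ha1 hgN ho hi
  have hcyc : ∀ v ∈ A, v ≠ 1 → ∃ j : ℕ, g ^ j * (a : G) * (g ^ j)⁻¹ = v := fun v hv hv1 => by
    rcases Local74.four_cases D haz (Local74.conj_mem_zS hgN haz) ha1
        (fun e => ha1 (conj_eq_one_iff.1 e)) hi (hzS.symm ▸ hv : v ∈ Five.zS S) with e | e | e | e
    · exact absurd e hv1
    · exact ⟨0, by rw [e]; group⟩
    · exact ⟨1, by rw [e, pow_one]⟩
    · exact ⟨2, by rw [e, ← h1, pow_two]; group⟩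
  have hsC : ∀ v ∈ A, (S : Subgroup G) ≤ centralizer ({v} : Set G) := fun v hv =>
    (Structure.sylow_le_centralizer hcA).trans (centralizer_le (Set.singleton_subset_iff.2 hv))
  have hfC : ∀ v ∈ A, (f : G) ∈ centralizer ({v} : Set G) := fun v hv =>
    centralizer_le (Set.singleton_subset_iff.2 hv) f.2.1
  exact ⟨a, x₀, (f : G), g,
    { hyp := h
      span := htop
      centre := hzS
      cfg := hC
      g_norm := hgN
      cycle := hcyc
      split := fun v hv hv1 => (hsplit v hv hv1).2
      f_five := fun v hv hv1 => (hsplit v hv hv1).1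
      psolv := fun v hv hv1 =>
        Config.psolv (hsC v hv) (hfC v hv) f.2.2 (hsplit v hv hv1).2
      core_inf := fun v hv hv1 => RankTwoCentralizer.core_inf_eq hL hX h h4 hcA hv hv1 }⟩

/-- **The structure step.** -/
theorem structure_ : PropStructure.{u} := structure_of facts (local_ facts)

end Cfsg.Agent.Lib.Goldschmidt53.RankTwoMin
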