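import Cfsg.Agent.Lib.Goldschmidt53.RankTwoMin.Main

/-!
# Rank two, all involutions central: the case of small degree, fixed spaces

helper34.  If `χ(a) ≠ 0` and `χ(1) < 128 + dmin`, every non-trivial odd subgroup normalised by `S`
has a fixed space of one and the same dimension, strictly between `0` and `χ(1)`.  Hence no odd
subgroup normalised by `S` meets the cores of two involutions of `A`, and `O(C(A)) = 1`.
-/

set_option autoImplicit false
set_option linter.style.haveILetI false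
set_option linter.unusedSectionVars false

universe u

namespace Cfsg.Agent.Lib.Goldschmidt53.RankTwoMin

open Subgroup Cfsg.Agent.Lib.Characters.Basic
open Cfsg.Agent.Lib.Walter (core coreC)
open Cfsg.Agent.Lib.PiHomog3258
open Cfsg.Agent.Lib.U34Type98
open scoped ComplexConjugate

attribute [local instance] Classical.propDecidable

variable {G : Type u} [Group G] [Finite G]

/-- No odd subgroup normalised by `S` meets two of the cores, and `O(C(A)) = 1`. -/
structure Separated (S : Sylow 2 G) (A : Subgroup G) : Prop where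
  coreC_eq : coreC A = ⊥
  single : ∀ X : Subgroup G, Odd (Nat.card ↥X) → (S : Subgroup G) ≤ normalizer (X : Set G) →
    ∀ u ∈ A, u ≠ 1 → X ⊓ core u ≠ ⊥ → ∀ v ∈ A, v ≠ 1 → v ≠ u → X ⊓ core v = ⊥

namespace Data

variable {S : Sylow 2 G} {A : Subgroup G} {a x₀ : ↥(S : Subgroup G)} {f g : G}
variable (D : Data S A a x₀ f g) {M : Ideal Cfsg.AlgInt} (hM : Cfsg.IsPModular 2 M)
include D

theorem card_A : Nat.card ↥A = 4 := by
  rw [← D.centre, card_map_of_injective (subtype_injective _), D.cfg.card_center]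

/-- The elements of `A`. -/
theorem mem_four {u v : G} (hu : u ∈ A) (hu1 : u ≠ 1) (hv : v ∈ A) (hv1 : v ≠ 1) (hne : v ≠ u)
    {z : G} (hz : z ∈ A) : z = 1 ∨ z = u ∨ z = v ∨ z = u * v := by
  haveI : Fintype ↥A := Fintype.ofFinite _
  by_contra h
  push Not at h
  obtain ⟨h1, h2, h3, h4⟩ := h
  have huv1 : u * v ≠ 1 := fun e => hne (by
    have huu := D.hyp.elem.2 u hu
    rw [pow_two] at huu
    exact (mul_left_cancel (huu.trans e.symm)).symm)
  have huvu : u * v ≠ u := fun e => hv1 (by simpa using e)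
  have huvv : u * v ≠ v := fun e => hu1 (by simpa using e)
  have hcard : ({(⟨1, one_mem A⟩ : ↥A), ⟨u, hu⟩, ⟨v, hv⟩, ⟨u * v, mul_mem hu hv⟩,
      ⟨z, hz⟩} : Finset ↥A).card = 5 := by
    simp [Finset.card_insert_of_notMem, Subtype.ext_iff, hu1.symm, hv1.symm, huv1.symm, h1.symm,
      hne.symm, huvu.symm, huvv.symm, h2.symm, h3.symm, h4.symm]
  have := Finset.card_le_univ ({(⟨1, one_mem A⟩ : ↥A), ⟨u, hu⟩, ⟨v, hv⟩, ⟨u * v, mul_mem hu hv⟩,
      ⟨z, hz⟩} : Finset ↥A)
  rw [hcard, ← Nat.card_eq_fintype_card, D.card_A] at this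
  omega

/-- An element centralising two involutions of `A` centralises `A`. -/
theorem mem_centralizer_two {u v : G} (hu : u ∈ A) (hu1 : u ≠ 1) (hv : v ∈ A) (hv1 : v ≠ 1)
    (hne : v ≠ u) {k : G} (h1 : k ∈ centralizer ({u} : Set G))
    (h2 : k ∈ centralizer ({v} : Set G)) : k ∈ centralizer (A : Set G) := by
  rw [mem_centralizer_singleton_iff] at h1 h2
  refine mem_centralizer_iff.2 fun z hz => ?_
  rcases D.mem_four hu hu1 hv hv1 hne hz with rfl | rfl | rfl | rfl
  · simp
  · exact h1.symm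
  · exact h2.symm
  · rw [mul_assoc, ← h2, ← mul_assoc, ← h1, mul_assoc]

include hM in
/-- The values at `a` and `x₀` are small. -/
theorem sq_le {χ : Cfsg.IrrCharacter G} (hχ : χ ∈ (Section.blk G M).erase (oneChar G)) {VA VW : ℤ}
    (hA : (χ : G → ℂ) a = VA) (hW : (χ : G → ℂ) x₀ = VW) : VA * VA ≤ 319 ∧ VW * VW ≤ 15 := by
  haveI := hM.2.1
  obtain ⟨hχ1, hχB⟩ := Finset.mem_erase.1 hχ
  have hone : oneChar G ∈ Section.blk G M :=
    (Section.mem_blk M).2 Blocks.oneChar_mem_principalBlock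
  have key : ∀ (x : G) (V N : ℤ), (χ : G → ℂ) x = V →
      ∑ ψ ∈ Section.blk G M, (ψ : G → ℂ) x * conj ((ψ : G → ℂ) x) = (N : ℂ) → V * V ≤ N - 1 := by
    intro x V N hV hsum
    have hr : ∑ ψ ∈ Section.blk G M, Complex.normSq ((ψ : G → ℂ) x) = (N : ℝ) := by
      apply Complex.ofReal_injective
      rw [Complex.ofReal_sum, Complex.ofReal_intCast, ← hsum]
      exact Finset.sum_congr rfl fun ψ _ => (Complex.mul_conj _).symm
    have hle := Finset.sum_le_sum_of_subset_of_nonneg
      (show ({χ, oneChar G} : Finset (Cfsg.IrrCharacter G)) ⊆ Section.blk G M by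
        intro y hy
        rcases Finset.mem_insert.1 hy with rfl | hy
        · exact hχB
        · exact Finset.mem_singleton.1 hy ▸ hone)
      (fun ψ _ _ => Complex.normSq_nonneg ((ψ : G → ℂ) x))
    rw [Finset.sum_pair hχ1, hr, hV, oneChar_apply, map_one,
      show ((V : ℤ) : ℂ) = ((V : ℝ) : ℂ) by push_cast; rfl, Complex.normSq_ofReal] at hle
    have : ((V * V : ℤ) : ℝ) ≤ ((N - 1 : ℤ) : ℝ) := by push_cast; linarith
    exact_mod_cast this
  refine ⟨key _ VA 320 hA ?_, key _ VW 16 hW (by rw [D.cfg.sum_root_root hM]; norm_num)⟩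
  simp only [← Five.Config.sum_coef _ (a : G) f, map_sum, Finset.sum_mul_sum]
  rw [Finset.sum_comm, Finset.sum_congr rfl fun j _ => Finset.sum_comm,
    Finset.sum_congr rfl fun j _ => Finset.sum_congr rfl fun k _ => D.cfg.sum_coef_mul hM j k]
  simp [Finset.sum_add_distrib]
  norm_num

include hM in
/-- The fixed space of every odd subgroup normalised by `S` has the same dimension. -/
theorem exists_uniform {χ : Cfsg.IrrCharacter G} (hχ : χ ∈ (Section.blk G M).erase (oneChar G))
    {VA VW : ℤ} {n : ℕ} (hA : (χ : G → ℂ) a = VA) (hA0 : VA ≠ 0) (hW : (χ : G → ℂ) x₀ = VW)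
    (hn : (χ : G → ℂ) 1 = n) (hlt : (n : ℤ) < 128 + Arith.dmin (-60 * VW - 3 * VA)) :
    ∃ d : ℕ, 0 < d ∧ d < n ∧ ∀ U : Subgroup G, U ≠ ⊥ → Odd (Nat.card ↥U) →
      (S : Subgroup G) ≤ normalizer (U : Set G) →
      ∀ [Fintype ↥U], ∑ k : ↥U, (χ : G → ℂ) k = (Nat.card ↥U : ℂ) * d := by
  have hU : ∀ U : Subgroup G, U ≠ ⊥ → Odd (Nat.card ↥U) →
      (S : Subgroup G) ≤ normalizer (U : Set G) → ∀ [Fintype ↥U],
      64 ≤ n ∧ (64 : ℤ) ∣ ((n - 64 : ℕ) : ℤ) - (-60 * VW - 3 * VA) ∧
        ∑ k : ↥U, (χ : G → ℂ) k = (Nat.card ↥U : ℂ) * ((n - 64 : ℕ) : ℂ) := by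
    intro U hU hodd hS _
    obtain ⟨n', d, K, hn', hd, hK, hnd, hdiv, hmin⟩ :=
      degree G S A a x₀ f g D M hM χ hχ U hU hodd hS VA VW hA hW
    obtain rfl : n' = n := by exact_mod_cast hn'.symm.trans hn
    obtain rfl : K = 1 := by omega
    obtain rfl : d = n' - 64 := by omega
    exact ⟨by omega, hdiv, hd⟩
  obtain ⟨v, hv, hv1, hne⟩ := D.exists_core_ne
  letI := Fintype.ofFinite ↥(core v)
  obtain ⟨h64, hdiv, -⟩ := hU (core v) hne (Walter.odd_core v)
    ((D.sylow_le hv).trans (Walter.centralizer_le_normalizer_core v))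
  refine ⟨n - 64, ?_, by omega, fun U h1 h2 h3 _ => (hU U h1 h2 h3).2.2⟩
  by_contra hn0
  obtain ⟨hA2, hW2⟩ := D.sq_le hM hχ hA hW
  obtain ⟨A', W', hA', hW', h4⟩ := D.cfg.exists_int_values (isCharacter_irr χ)
  obtain rfl : A' = VA := by exact_mod_cast hA'.symm.trans hA
  obtain rfl : W' = VW := by exact_mod_cast hW'.symm.trans hW
  have h1 : A' ≤ 17 ∧ -17 ≤ A' := ⟨by nlinarith, by nlinarith⟩
  have h2 : W' ≤ 3 ∧ -3 ≤ W' := ⟨by nlinarith, by nlinarith⟩
  omega

include hM in
/-- **Separation of the cores.** -/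
theorem separated {χ : Cfsg.IrrCharacter G} (hχ : χ ∈ (Section.blk G M).erase (oneChar G))
    {VA VW : ℤ} {n : ℕ} (hA : (χ : G → ℂ) a = VA) (hA0 : VA ≠ 0) (hW : (χ : G → ℂ) x₀ = VW)
    (hn : (χ : G → ℂ) 1 = n) (hlt : (n : ℤ) < 128 + Arith.dmin (-60 * VW - 3 * VA)) :
    Separated S A := by
  obtain ⟨d, hd0, hdn, hsum⟩ := D.exists_uniform hM hχ hA hA0 hW hn hlt
  obtain ⟨N, ρ, hirr, hρ⟩ := exists_rep χ
  have hN : N = n := by
    have h := congrFun hρ 1
    rw [hn, Representation.char_one] at h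
    simpa using (Nat.cast_injective h)
  let F : Subgroup G → Submodule ℂ (Fin N → ℂ) := fun U =>
    Representation.invariants (ρ.comp U.subtype)
  have hmem : ∀ (U : Subgroup G) (v : Fin N → ℂ), v ∈ F U ↔ ∀ k ∈ U, ρ k v = v := fun U v =>
    ⟨fun h k hk => h ⟨k, hk⟩, fun h k => h k k.2⟩
  have hrank : ∀ U : Subgroup G, U ≠ ⊥ → Odd (Nat.card ↥U) →
      (S : Subgroup G) ≤ normalizer (U : Set G) → Module.finrank ℂ (F U) = d := by
    intro U h1 h2 h3
    letI := Fintype.ofFinite ↥U
    haveI : Invertible (Nat.card ↥U : ℂ) :=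
      invertibleOfNonzero (Nat.cast_ne_zero.2 Nat.card_pos.ne')
    have h := Representation.card_inv_mul_sum_char_eq_finrank (ρ := ρ.comp U.subtype)
    rw [Finset.sum_congr rfl (g := fun k : ↥U => (χ : G → ℂ) k) fun k _ => by rw [← hρ]; rfl,
      hsum U h1 h2 h3, inv_mul_cancel_left₀ (Nat.cast_ne_zero.2 Nat.card_pos.ne')] at h
    exact_mod_cast h.symm
  have hmono : ∀ U U' : Subgroup G, U ≠ ⊥ → Odd (Nat.card ↥U') →
      (S : Subgroup G) ≤ normalizer (U : Set G) → (S : Subgroup G) ≤ normalizer (U' : Set G) →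
      U ≤ U' → F U' = F U := by
    intro U U' hU hodd hS hS' hle
    refine Submodule.eq_of_le_of_finrank_eq (fun v hv => (hmem _ _).2 fun k hk =>
      (hmem _ _).1 hv k (hle hk)) ?_
    rw [hrank U hU (hodd.of_dvd_nat (card_dvd_of_le hle)) hS,
      hrank U' (fun h => hU (le_bot_iff.1 (h ▸ hle))) hodd hS']
  have hnorm : ∀ (U : Subgroup G) (c : G), c ∈ normalizer (U : Set G) →
      ∀ v ∈ F U, ρ c v ∈ F U := by
    intro U c hc v hv
    refine (hmem _ _).2 fun k hk => ?_
    have h := (hmem _ _).1 hv _ ((mem_normalizer_iff''.1 hc k).1 hk)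
    calc ρ k (ρ c v) = ρ c (ρ (c⁻¹ * k * c) v) := by
          rw [← Module.End.mul_apply, ← map_mul, ← Module.End.mul_apply, ← map_mul]
          congr 2; group
      _ = ρ c v := by rw [h]
  -- a common fixed space of the three cores is impossible
  have habs : ∀ F₀ : Submodule ℂ (Fin N → ℂ), Module.finrank ℂ F₀ = d →
      ¬ ∀ v ∈ A, v ≠ 1 → F (core v) = F₀ := by
    intro F₀ hF₀ hall
    let stab : Subgroup G :=
      { carrier := {c | ∀ v, v ∈ F₀ ↔ ρ c v ∈ F₀}
        one_mem' := fun v => by simp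
        mul_mem' := fun {c c'} hc hc' v => by
          rw [hc' v, hc, map_mul, Module.End.mul_apply]
        inv_mem' := fun {c} hc v => by
          rw [hc (ρ c⁻¹ v), ← Module.End.mul_apply, ← map_mul, mul_inv_cancel, map_one,
            Module.End.one_apply] }
    have htop : ∀ c : G, ∀ w ∈ F₀, ρ c w ∈ F₀ := by
      intro c w hw
      have hc : c ∈ stab := by
        have hc0 : c ∈ centSpan A := by rw [D.span]; exact mem_top c
        refine (iSup_le fun t => ?_ : centSpan A ≤ stab) hc0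
        obtain ⟨t, htA, ht⟩ := t
        have ht1 : t ≠ 1 := fun h => by simp [h] at ht
        intro c hc v
        have hc' := Walter.centralizer_le_normalizer_core t hc
        rw [← hall t htA ht1]
        refine ⟨hnorm _ c hc' v, fun h => ?_⟩
        have := hnorm _ c⁻¹ (inv_mem hc') _ h
        rwa [← Module.End.mul_apply, ← map_mul, inv_mul_cancel, map_one,
          Module.End.one_apply] at this
      exact (hc w).1 hw
    haveI : IsSimpleOrder (Subrepresentation ρ) := hirr
    rcases eq_bot_or_eq_top (⟨F₀, htop⟩ : Subrepresentation ρ) with h | h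
    · have h' : F₀ = ⊥ := congrArg Subrepresentation.toSubmodule h
      rw [h', finrank_bot] at hF₀
      omega
    · have h' : F₀ = ⊤ := congrArg Subrepresentation.toSubmodule h
      rw [h', finrank_top, Module.finrank_fin_fun] at hF₀
      omega
  have hcoreC : coreC A = ⊥ := by
    by_contra hne
    have hS : (S : Subgroup G) ≤ normalizer (coreC A : Set G) :=
      le_trans (fun s hs => mem_centralizer_iff.2 fun z hz => (D.comm hz hs).symm)
        (Walter.centralizer_le_normalizer_coreC A)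
    refine habs _ (hrank _ hne (Walter.odd_coreC A) hS) fun v hv hv1 => ?_
    exact hmono _ _ hne (Walter.odd_core v) hS
      ((D.sylow_le hv).trans (Walter.centralizer_le_normalizer_core v))
      (D.core_inf v hv hv1 ▸ inf_le_left)
  refine ⟨hcoreC, fun X hX hSX u hu hu1 hXu v hv hv1 hvu => ?_⟩
  by_contra hXv
  have hSc : ∀ z ∈ A, (S : Subgroup G) ≤ normalizer (core z : Set G) := fun z hz =>
    (D.sylow_le hz).trans (Walter.centralizer_le_normalizer_core z)
  have hX' : ∀ z ∈ A, z ≠ 1 → X ⊓ core z ≠ ⊥ → F (core z) = F X := by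
    intro z hz hz1 hne
    have hSi : (S : Subgroup G) ≤ normalizer ((X ⊓ core z : Subgroup G) : Set G) :=
      (le_inf hSX (hSc z hz)).trans inf_normalizer_le_normalizer_inf
    exact (hmono _ _ hne (Walter.odd_core z) hSi (hSc z hz) inf_le_right).trans
      (hmono _ _ hne hX hSi hSX inf_le_left).symm
  -- two conjugates of `a` under `⟨g⟩`, and an element of `N(S)` mapping the first to the second
  obtain ⟨i, hi⟩ := D.cycle u hu hu1
  obtain ⟨j, hj⟩ := D.cycle v hv hv1
  set h := g ^ j * (g ^ i)⁻¹ with hh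
  have hhN : h ∈ normalizer ((S : Subgroup G) : Set G) :=
    mul_mem (pow_mem D.g_norm j) (inv_mem (pow_mem D.g_norm i))
  have hhu : h * u * h⁻¹ = v := by
    rw [← hi, ← hj, hh]; group
  have hhA : ∀ z ∈ A, h * z * h⁻¹ ∈ A := by
    intro z hz
    obtain ⟨z', hz', rfl⟩ := D.mem_center hz
    refine D.mem_A (z := ⟨_, (mem_normalizer_iff.1 hhN _).1 z'.2⟩) (mem_center_iff.2 fun s => ?_)
    have hs := congrArg Subtype.val (mem_center_iff.1 hz'
      ⟨_, (mem_normalizer_iff''.1 hhN _).1 s.2⟩)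
    simp only [Subgroup.coe_mul] at hs
    refine Subtype.ext ?_
    show (s : G) * (h * (z' : G) * h⁻¹) = h * (z' : G) * h⁻¹ * s
    calc (s : G) * (h * (z' : G) * h⁻¹) = h * (h⁻¹ * s * h * z') * h⁻¹ := by group
      _ = h * (z' * (h⁻¹ * s * h)) * h⁻¹ := by rw [hs]
      _ = _ := by group
  set w := h * v * h⁻¹ with hw
  have hwA : w ∈ A := hhA v hv
  have hw1 : w ≠ 1 := fun e => hv1 (conj_eq_one_iff.1 e)
  have hwv : w ≠ v := fun e => hvu (MulAut.conj h |>.injective (by
    rw [MulAut.conj_apply, MulAut.conj_apply, hhu]; exact e))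
  have hwu : w ≠ u := by
    intro e
    have hcA : ∀ c ∈ centralizer ({u * v} : Set G), c ∈ normalizer ((S : Subgroup G) : Set G) →
        (∀ z ∈ A, c * z * c⁻¹ ∈ A) → c * u * c⁻¹ = u := by
      intro c hc hcS hcA
      obtain ⟨k, hk, s, l, rfl⟩ := D.split (u * v) (mul_mem hu hv)
        (fun e => hvu ((mul_left_cancel ((by simpa [pow_two] using D.hyp.elem.2 u hu :
          u * u = 1).trans e.symm)).symm)) c hc
      have hsf : (s : G) * f ^ (l : ℕ) * u * ((s : G) * f ^ (l : ℕ))⁻¹ = u := by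
        obtain ⟨u', hu', rfl⟩ := D.mem_center hu
        rw [mul_assoc (s : G), ((show Commute f (u' : G) from D.cfg.f_center u' hu').pow_left _).eq,
          ← mul_assoc, D.comm (D.mem_A hu') s.2]
        group
      have h1 := hcA u hu
      rw [show k * (s : G) * f ^ (l : ℕ) * u * (k * (s : G) * f ^ (l : ℕ))⁻¹ =
        k * ((s : G) * f ^ (l : ℕ) * u * ((s : G) * f ^ (l : ℕ))⁻¹) * k⁻¹ by group, hsf] at h1 ⊢
      have h2 : k * u * k⁻¹ * u⁻¹ ∈ core (u * v) := by
        rw [show k * u * k⁻¹ * u⁻¹ = k * (u * k⁻¹ * u⁻¹) by group]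
        refine mul_mem hk ((mem_normalizer_iff.1 (Walter.centralizer_le_normalizer_core (u * v)
          (mem_centralizer_singleton_iff.2 ?_)) _).1 (inv_mem hk))
        exact D.comm (mul_mem hu hv) (by
          obtain ⟨u', -, rfl⟩ := D.mem_center hu; exact u'.2)
      have h3 : k * u * k⁻¹ * u⁻¹ ∈ A := mul_mem h1 (inv_mem hu)
      rw [← mul_inv_eq_one]
      by_contra h4
      have h5 : orderOf (k * u * k⁻¹ * u⁻¹) ∣ Nat.card ↥(core (u * v)) :=
        Subgroup.orderOf_dvd_natCard _ h2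
      rw [D.orderOf_eq h3 h4] at h5
      exact Nat.not_odd_iff_even.2 (even_iff_two_dvd.2 h5) (Walter.odd_core _)
    have huv : h * (u * v) * h⁻¹ = u * v := by
      rw [show h * (u * v) * h⁻¹ = (h * u * h⁻¹) * w by rw [hw]; group, hhu, e]
      obtain ⟨v', hv', rfl⟩ := D.mem_center hv
      exact (D.comm hu v'.2).trans rfl
    have := hcA h (mem_centralizer_singleton_iff.2 (mul_inv_eq_iff_eq_mul.1 huv)) hhN hhA
    exact hvu (hhu.symm.trans this)
  have huF := hX' u hu hu1 hXu
  have hvF := hX' v hv hv1 hXv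
  -- `ρ h` carries the fixed space of `core u` to that of `core v`
  have hmap : ∀ y z : G, h * y * h⁻¹ = z → ∀ x ∈ F (core y), ρ h x ∈ F (core z) := by
    intro y z hyz x hx
    refine (hmem _ _).2 fun k hk => ?_
    rw [← hyz, Walter.core_conj] at hk
    obtain ⟨k', hk', rfl⟩ := hk
    show ρ (h * k' * h⁻¹) (ρ h x) = ρ h x
    rw [← Module.End.mul_apply, ← map_mul, inv_mul_cancel_right, map_mul, Module.End.mul_apply,
      (hmem _ _).1 hx k' hk']
  have hFd : Module.finrank ℂ (F X) = d :=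
    hrank X (fun e => hXu (by rw [e, bot_inf_eq])) hX hSX
  have hinj : Function.Injective (ρ h) := fun x y e => by
    have := congrArg (ρ h⁻¹) e
    rwa [← Module.End.mul_apply, ← Module.End.mul_apply, ← map_mul, inv_mul_cancel, map_one,
      Module.End.one_apply, Module.End.one_apply] at this
  have himg : (F X).map (ρ h) = F X := by
    refine Submodule.eq_of_le_of_finrank_eq (Submodule.map_le_iff_le_comap.2 fun x hx => ?_) ?_
    · show ρ h x ∈ F X
      rw [← hvF]
      exact hmap u v hhu x (huF.symm ▸ hx)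
    · exact (Submodule.equivMapOfInjective (ρ h) hinj (F X)).finrank_eq.symm
  have hwF : F (core w) = F X := by
    have hwne : core w ≠ ⊥ := by
      intro e
      rw [hw, Walter.core_conj, map_eq_bot_iff_of_injective _ (MulAut.conj h).injective] at e
      exact hXv (by rw [e, inf_bot_eq])
    refine (Submodule.eq_of_le_of_finrank_eq ?_ ?_).symm
    · rw [← himg]
      exact Submodule.map_le_iff_le_comap.2 fun x hx => hmap v w hw.symm x (hvF.symm ▸ hx)
    · rw [hFd, hrank _ hwne (Walter.odd_core w) (hSc w hwA)]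
  refine habs (F X) hFd fun z hz hz1 => ?_
  rcases D.mem_four hu hu1 hv hv1 hvu hz with rfl | rfl | rfl | rfl
  · exact absurd rfl hz1
  · exact huF
  · exact hvF
  · rcases D.mem_four hu hu1 hv hv1 hvu hwA with h' | h' | h' | h'
    · exact absurd h' hw1
    · exact absurd h' hwu
    · exact absurd h' hwv
    · exact h' ▸ hwF

end Data

end Cfsg.Agent.Lib.Goldschmidt53.RankTwoMin
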