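import Cfsg.Agent.Lib.Goldschmidt53.RankTwoMin.Case1Basic
import Cfsg.Agent.Lib.OddCentTrans.Basic
import Cfsg.Agent.Lib.Coprime.Glauberman
import Cfsg.Agent.Lib.IsolatedInvolution.InvariantSylow
import Cfsg.Agent.Lib.Inter3185.U34.Tools
import Cfsg.Agent.Lib.Balance.Permute
import Cfsg.Agent.Lib.Goldschmidt53.RankTwoCentralizer

/-!
# Rank two, all involutions central: the local structure when the cores are separated

helper34.  `O(C(u))` is abelian and inverted by the other involutions of `A`, `C(A) = S ⟨f⟩`, the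
involution `u` is isolated in `C(x)` for `x ∈ O(C(u))#`, and `C(f)` permutes the involutions of `A`
cyclically.
-/

set_option autoImplicit false
set_option linter.style.haveILetI false
set_option linter.unusedSectionVars false

universe u

namespace Cfsg.Agent.Lib.Goldschmidt53.RankTwoMin

open Subgroup
open scoped Pointwise
open Cfsg.Agent.Lib.Walter (core coreC)
open Cfsg.Agent.Lib.PiHomog3258

attribute [local instance] Classical.propDecidable

variable {G : Type u} [Group G] [Finite G]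

namespace Data

variable {S : Sylow 2 G} {A : Subgroup G} {a x₀ : ↥(S : Subgroup G)} {f g : G}
variable (D : Data S A a x₀ f g) (H : Separated S A)
include D H

theorem eq_one_of_mem_core {u : G} (hu : u ∈ A) (hu1 : u ≠ 1) {k : G} (hk : k ∈ core u)
    (hkA : k ∈ centralizer (A : Set G)) : k = 1 := by
  have h : k ∈ core u ⊓ centralizer (A : Set G) := ⟨hk, hkA⟩
  rwa [D.core_inf u hu hu1, H.coreC_eq, Subgroup.mem_bot] at h

theorem eq_one_of_fixed {u v : G} (hu : u ∈ A) (hu1 : u ≠ 1) (hv : v ∈ A) (hv1 : v ≠ 1)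
    (hne : v ≠ u) {k : G} (hk : k ∈ core u) (hkv : v * k = k * v) : k = 1 :=
  D.eq_one_of_mem_core H hu hu1 hk (D.mem_centralizer_two hu hu1 hv hv1 hne (Walter.core_le u hk)
    (mem_centralizer_singleton_iff.2 hkv.symm))

/-- The other involutions of `A` invert `O(C(u))`. -/
theorem inverted {u v : G} (hu : u ∈ A) (hu1 : u ≠ 1) (hv : v ∈ A) (hv1 : v ≠ 1) (hne : v ≠ u) :
    ∀ l ∈ core u, v * l * v⁻¹ = l⁻¹ := by
  refine OddCentTrans.Basic.inverts_of_fixedPointFree (core u) ?_ (fun l hl => ?_) fun l hl h => ?_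
  · simpa [pow_two] using D.hyp.elem.2 v hv
  · refine (mem_normalizer_iff.1 (Walter.centralizer_le_normalizer_core u
      (mem_centralizer_singleton_iff.2 ?_)) l).1 hl
    exact D.comm hu (by obtain ⟨v', -, rfl⟩ := D.mem_center hv; exact v'.2)
  · exact D.eq_one_of_fixed H hu hu1 hv hv1 hne hl (mul_inv_eq_iff_eq_mul.1 h)

omit H in
theorem exists_other {u : G} (hu : u ∈ A) : ∃ v ∈ A, v ≠ 1 ∧ v ≠ u := by
  by_contra h
  push Not at h
  haveI : Fintype ↥A := Fintype.ofFinite _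
  have hle : (Finset.univ : Finset ↥A) ⊆ {1, ⟨u, hu⟩} := fun z _ => by
    by_cases hz : z = 1
    · simp [hz]
    · simp [Subtype.ext_iff, h z z.2 fun e => hz (Subtype.ext e)]
  have := (Finset.card_le_card hle).trans Finset.card_le_two
  rw [Finset.card_univ, ← Nat.card_eq_fintype_card, D.card_A] at this
  omega

theorem core_comm {u : G} (hu : u ∈ A) (hu1 : u ≠ 1) :
    ∀ l ∈ core u, ∀ m ∈ core u, l * m = m * l := by
  obtain ⟨v, hv, hv1, hne⟩ := D.exists_other hu
  exact OddCentTrans.Basic.comm_of_inverts _ (D.inverted H hu hu1 hv hv1 hne)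

/-- `C(A) = S ⟨f⟩`. -/
theorem exists_of_centA {c : G} (hc : c ∈ centralizer (A : Set G)) :
    ∃ (s : ↥(S : Subgroup G)) (i : Fin 5), c = (s : G) * f ^ (i : ℕ) := by
  have ha := D.a_mem
  obtain ⟨k, hk, s, i, rfl⟩ := D.split a ha D.a_ne c
    (mem_centralizer_singleton_iff.2 (mem_centralizer_iff.1 hc a ha).symm)
  have hsf : (s : G) * f ^ (i : ℕ) ∈ centralizer (A : Set G) := by
    refine mul_mem (mem_centralizer_iff.2 fun z hz => (D.comm hz s.2).symm)
      (pow_mem (mem_centralizer_iff.2 fun z hz => ?_) _)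
    exact (mem_centralizer_singleton_iff.1 (D.f_mem hz)).symm
  obtain rfl : k = 1 := D.eq_one_of_mem_core H ha D.a_ne hk (by
    rw [show k = k * (s : G) * f ^ (i : ℕ) * ((s : G) * f ^ (i : ℕ))⁻¹ by group]
    exact mul_mem hc (inv_mem hsf))
  exact ⟨s, i, by rw [one_mul]⟩

theorem f_pow_five : f ^ 5 = 1 :=
  D.eq_one_of_mem_core H D.a_mem D.a_ne (D.f_five a D.a_mem D.a_ne)
    (pow_mem (mem_centralizer_iff.2 fun _ hz => (mem_centralizer_singleton_iff.1 (D.f_mem hz)).symm) 5)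

theorem orderOf_f : orderOf f = 5 := by
  haveI : Fact (Nat.Prime 5) := ⟨by norm_num⟩
  obtain ⟨r, hr⟩ := D.cfg.f_ord
  refine orderOf_eq_prime (D.f_pow_five H) fun h => ?_
  rw [h, orderOf_one] at hr
  exact absurd (Nat.one_lt_pow r.succ_ne_zero (by norm_num : 1 < 5)) (by omega)

/-- The only involution centralising `u` and some `l ∈ O(C(u))#` is `u`. -/
theorem involution_eq {u : G} (hu : u ∈ A) (hu1 : u ≠ 1) {l : G} (hl : l ∈ core u) (hl1 : l ≠ 1)
    {t : G} (ht : t * t = 1) (ht1 : t ≠ 1) (htu : t * u = u * t) (htl : t * l = l * t) : t = u := by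
  haveI : Fact (Nat.Prime 2) := ⟨Nat.prime_two⟩
  obtain ⟨k, hk, s, i, rfl⟩ := D.split u hu hu1 t (mem_centralizer_singleton_iff.2 htu)
  set C := centralizer ({u} : Set G)
  let π := QuotientGroup.mk' (Cfsg.oddCore ↥C)
  have hsC := D.sylow_le hu s.2
  have hfC := pow_mem (D.f_mem hu) (i : ℕ)
  have hkC : k ∈ C := Walter.core_le u hk
  have hπk : π ⟨k, hkC⟩ = 1 := by
    obtain ⟨k₀, hk₀, e⟩ := hk
    exact (QuotientGroup.eq_one_iff _).2 ((Subtype.ext e : k₀ = ⟨k, hkC⟩) ▸ hk₀)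
  have hsf : (s : G) * f ^ (i : ℕ) * ((s : G) * f ^ (i : ℕ)) ∈ core u := by
    have h1 : (⟨k, hkC⟩ * ⟨s, hsC⟩ * ⟨_, hfC⟩ : ↥C) * (⟨k, hkC⟩ * ⟨s, hsC⟩ * ⟨_, hfC⟩) = 1 :=
      Subtype.ext ht
    have h2 := congrArg π h1
    rw [map_mul, map_mul, map_mul, hπk, one_mul, map_one, ← map_mul, ← map_mul] at h2
    exact ⟨_, (QuotientGroup.eq_one_iff _).1 h2, rfl⟩
  obtain ⟨p, hp⟩ := D.cfg.exists_conj_f (i : ℕ) s
  -- `i = 0`
  have hi : (i : ℕ) = 0 := by
    have hsA : (s : G) * f ^ (i : ℕ) * ((s : G) * f ^ (i : ℕ)) ∈ centralizer (A : Set G) := by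
      have h : (s : G) * f ^ (i : ℕ) ∈ centralizer (A : Set G) :=
        mul_mem (mem_centralizer_iff.2 fun z hz => (D.comm hz s.2).symm)
          (pow_mem (mem_centralizer_iff.2 fun z hz =>
            (mem_centralizer_singleton_iff.1 (D.f_mem hz)).symm) _)
      exact mul_mem h h
    have h1 := D.eq_one_of_mem_core H hu hu1 hsf hsA
    have h2 : f ^ (2 * (i : ℕ)) = ((s * p : ↥(S : Subgroup G)) : G)⁻¹ := by
      rw [eq_inv_iff_mul_eq_one, mul_eq_one_comm]
      push_cast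
      rw [hp, two_mul, pow_add]
      rw [← h1]
      group
    have h3 : (f ^ (2 * (i : ℕ))) ^ 5 = 1 := by rw [← pow_mul, mul_comm, pow_mul, D.f_pow_five H,
      one_pow]
    have h4 : f ^ (2 * (i : ℕ)) = 1 := by
      obtain ⟨e, he⟩ := IsPGroup.iff_orderOf.1 S.isPGroup' (s * p)⁻¹
      rw [← Subgroup.orderOf_coe, show (((s * p)⁻¹ : ↥(S : Subgroup G)) : G) =
        f ^ (2 * (i : ℕ)) by rw [h2]; rfl] at he
      refine orderOf_eq_one_iff.1 (Nat.eq_one_of_dvd_coprimes ?_ he.dvd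
        (orderOf_dvd_of_pow_eq_one h3))
      exact (Nat.Coprime.pow_left e (by norm_num : Nat.Coprime 2 5))
    have h5 := orderOf_dvd_of_pow_eq_one h4
    rw [D.orderOf_f H] at h5
    have := i.2
    omega
  rw [hi, pow_zero, mul_one] at hsf htl ht ht1 ⊢
  have hss : s * s = 1 := Subtype.ext (D.eq_one_of_mem_core H hu hu1 hsf
    (mem_centralizer_iff.2 fun z hz => (D.comm hz (mul_mem s.2 s.2)).symm))
  have hsz := D.mem_A (D.cfg.invol s hss)
  have hkl : k * l = l * k := D.core_comm H hu hu1 k hk l hl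
  have hsl : (s : G) * l = l * s := by
    refine mul_left_cancel (a := k) ?_
    rw [← mul_assoc k (s : G), htl, ← mul_assoc, ← mul_assoc, hkl]
  by_cases hsu : (s : G) = u
  · rw [hsu] at ht ⊢
    have hku : k * u = u * k := mem_centralizer_singleton_iff.1 hkC
    have hk2 : k * k = 1 := by
      rw [mul_assoc, ← mul_assoc u k u, ← hku, mul_assoc k u u,
        show u * u = 1 by simpa [pow_two] using D.hyp.elem.2 u hu, mul_one] at ht
      exact ht
    have hk0 : k = 1 := by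
      rw [← orderOf_eq_one_iff]
      have h2 := orderOf_dvd_of_pow_eq_one (show k ^ 2 = 1 by rw [pow_two, hk2])
      have h3 : Odd (orderOf k) :=
        (Walter.odd_core u).of_dvd_nat (Subgroup.orderOf_dvd_natCard _ hk)
      rcases (Nat.dvd_prime Nat.prime_two).1 h2 with h4 | h4
      · exact h4
      · rw [h4] at h3; exact absurd h3 (by decide)
    rw [hk0, one_mul]
  · exfalso
    by_cases hs1 : (s : G) = 1
    · rw [hs1, mul_one] at ht ht1
      have h2 := orderOf_eq_prime (show k ^ 2 = 1 by rw [pow_two, ht]) ht1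
      have h3 : Odd (orderOf k) :=
        (Walter.odd_core u).of_dvd_nat (Subgroup.orderOf_dvd_natCard _ hk)
      rw [h2] at h3
      exact absurd h3 (by decide)
    · exact hl1 (D.eq_one_of_fixed H hu hu1 hsz hs1 hsu hl hsl)

/-- `u` is isolated in `C(T)`, when `T` contains some element of `O(C(u))#`. -/
theorem isolated {u : G} (hu : u ∈ A) (hu1 : u ≠ 1) {T : Set G} {l : G} (hl : l ∈ core u)
    (hl1 : l ≠ 1) (hlT : l ∈ T) (huT : u ∈ centralizer T) :
    Cfsg.IsIsolatedInvolution (⟨u, huT⟩ : ↥(centralizer T)) := by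
  refine ⟨by rw [Subgroup.orderOf_mk, D.orderOf_eq hu hu1], fun c hc => Subtype.ext ?_⟩
  have hc' : u * ((c : G) * u * (c : G)⁻¹) = (c : G) * u * (c : G)⁻¹ * u :=
    congrArg Subtype.val hc
  refine D.involution_eq H hu hu1 hl hl1 (t := (c : G) * u * (c : G)⁻¹) ?_ ?_ hc'.symm ?_
  · rw [conj_mul, show u * u = 1 by simpa [pow_two] using D.hyp.elem.2 u hu]
    group
  · exact fun e => hu1 (conj_eq_one_iff.1 e)
  · exact (mem_centralizer_iff.1 (mul_mem (mul_mem c.2 huT) (inv_mem c.2)) l hlT).symm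

theorem comm_mem_centralizer {u : G} (hu : u ∈ A) (hu1 : u ≠ 1) {T : Set G} {l : G}
    (hl : l ∈ core u) (hl1 : l ≠ 1) (hlT : l ∈ T) (huT : u ∈ centralizer T) {c : G}
    (hc : c ∈ centralizer T) :
    u * c * u⁻¹ * c⁻¹ ∈ (Cfsg.oddCore ↥(centralizer T)).map (centralizer T).subtype :=
  ⟨_, IsolatedInvolution.InvariantSylow.commutator_mem (D.isolated H hu hu1 hl hl1 hlT huT)
    ⟨c, hc⟩, rfl⟩

/-- The centraliser of a subgroup of `O(C(u))` normalised by `S` lies in `C(u)`. -/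
theorem centralizer_le {u : G} (hu : u ∈ A) (hu1 : u ≠ 1) {L : Subgroup G} (hL : L ≤ core u)
    (hL1 : L ≠ ⊥) (hS : (S : Subgroup G) ≤ normalizer (L : Set G)) :
    centralizer (L : Set G) ≤ centralizer ({u} : Set G) := by
  obtain ⟨l, hl, hl1⟩ := (L.bot_or_exists_ne_one).resolve_left hL1
  have huu : u * u = 1 := by simpa [pow_two] using D.hyp.elem.2 u hu
  have huC : u ∈ centralizer (L : Set G) := mem_centralizer_iff.2 fun m hm =>
    mem_centralizer_singleton_iff.1 (Walter.core_le u (hL hm))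
  set X := Balance.coreIn 2 (centralizer (L : Set G)) with hX
  have hXo : Odd (Nat.card ↥X) := Nat.coprime_two_right.1 (Balance.coreIn_coprime _)
  have hnLC : normalizer (L : Set G) ≤ normalizer ((centralizer (L : Set G) : Subgroup G) : Set G) :=
    Balance.normalizer_le_normalizer_centralizer L
  have hSX : (S : Subgroup G) ≤ normalizer (X : Set G) := by
    intro s hs
    refine Coprime.mem_normalizer_of_conj_smul_eq ?_
    rw [Coprime.conj_smul_eq_map, hX, Balance.map_coreIn, ← Coprime.conj_smul_eq_map,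
      Coprime.conj_smul_eq_self_of_mem_normalizer (hnLC (hS hs))]
  have hLX : L ≤ X := by
    refine Balance.le_coreIn_of_not_dvd (p := 2) ?_ ?_ ?_ (hp := ⟨Nat.prime_two⟩)
    · exact fun m hm => mem_centralizer_iff.2 fun m' hm' =>
        D.core_comm H hu hu1 m' (hL hm') m (hL hm)
    · intro c hc
      exact mem_normalizer_iff.2 fun m => by
        constructor
        · intro hm
          rwa [← (mem_centralizer_iff.1 hc m hm), mul_inv_cancel_right]
        · intro hm
          have h := mem_centralizer_iff.1 hc _ hm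
          rw [inv_mul_cancel_right] at h
          have h' : c * m = c * (c * m * c⁻¹) := h
          rw [mul_left_cancel h']; exact hm
    · exact fun h => Nat.not_odd_iff_even.2 (even_iff_two_dvd.2 h)
        ((Walter.odd_core u).of_dvd_nat (card_dvd_of_le hL))
  have hXu : X ⊓ core u ≠ ⊥ := fun h => hl1 (Subgroup.mem_bot.1 (h ▸ ⟨hLX hl, hL hl⟩))
  have huX : ∀ y ∈ X, u * y = y * u := by
    intro y hy
    obtain ⟨v, hv, hv1, hne⟩ := D.exists_other hu
    have hinv : ∀ z ∈ A, z ≠ 1 → z ≠ u → ∀ x ∈ X, z * x * z⁻¹ = x⁻¹ := by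
      intro z hz hz1 hzu
      have hzS : z ∈ (S : Subgroup G) := by obtain ⟨z', -, rfl⟩ := D.mem_center hz; exact z'.2
      refine OddCentTrans.Basic.inverts_of_fixedPointFree X (by simpa [pow_two] using D.hyp.elem.2 z hz)
        (fun x hx => (mem_normalizer_iff.1 (hSX hzS) x).1 hx) fun x hx h => ?_
      have h2 : x ∈ core z := D.inf_centralizer_le hXo hSX hz hz1
        ⟨hx, mem_centralizer_singleton_iff.2 (mul_inv_eq_iff_eq_mul.1 h).symm⟩
      exact Subgroup.mem_bot.1 (H.single X hXo hSX u hu hu1 hXu z hz hz1 hzu ▸ ⟨hx, h2⟩)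
    have h1 := hinv v hv hv1 hne y hy
    have h2 := hinv (u * v) (mul_mem hu hv) (fun e => hne (mul_left_cancel (huu.trans e.symm)).symm)
      (fun e => hv1 (by simpa using e)) y hy
    rw [show u * v * y * (u * v)⁻¹ = u * (v * y * v⁻¹) * u⁻¹ by group, h1] at h2
    have h3 : u * y * u⁻¹ = y := by
      have := congrArg (·⁻¹) h2
      simpa [mul_assoc] using this
    exact mul_inv_eq_iff_eq_mul.1 h3
  intro c hc
  obtain ⟨e, he, hec⟩ : ∃ e ∈ X, u * c * u⁻¹ = e * c :=
    ⟨_, D.comm_mem_centralizer H hu hu1 (hL hl) hl1 hl huC hc, by group⟩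
  have h2 : e * e = 1 := by
    have h : c = e * (u * c * u⁻¹) := by
      calc c = u * (u * c * u⁻¹) * u⁻¹ := by
            rw [show u * (u * c * u⁻¹) * u⁻¹ = u * u * c * (u * u)⁻¹ by group, huu]
            group
        _ = u * (e * c) * u⁻¹ := by rw [hec]
        _ = (u * e * u⁻¹) * (u * c * u⁻¹) := by group
        _ = e * (u * c * u⁻¹) := by rw [huX e he, mul_inv_cancel_right]
    rw [hec, ← mul_assoc] at h
    exact mul_eq_right.1 h.symm
  have he1 : e = 1 := by
    rw [← orderOf_eq_one_iff]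
    rcases (Nat.dvd_prime Nat.prime_two).1
      (orderOf_dvd_of_pow_eq_one (show e ^ 2 = 1 by rw [pow_two, h2])) with h4 | h4
    · exact h4
    · have h3 : Odd (orderOf e) := hXo.of_dvd_nat (Subgroup.orderOf_dvd_natCard _ he)
      rw [h4] at h3
      exact absurd h3 (by decide)
  rw [he1, one_mul] at hec
  exact mem_centralizer_singleton_iff.2 (mul_inv_eq_iff_eq_mul.1 hec).symm

/-- A `q`-element centralising `x ∈ L#` and inverted by `u` is trivial, `L` a `q`-subgroup of
`O(C(u))` normalised by `S`. -/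
theorem eq_one_of_inverted {u : G} (hu : u ∈ A) (hu1 : u ≠ 1) {q : ℕ} [Fact q.Prime] (hq2 : q ≠ 2)
    {L : Subgroup G} (hL : L ≤ core u) (hLq : IsPGroup q ↥L)
    (hS : (S : Subgroup G) ≤ normalizer (L : Set G)) {x : G} (hx : x ∈ L) (hx1 : x ≠ 1) {y : G}
    (hy : IsPGroup q ↥(zpowers y)) (hxy : x * y = y * x) (hinv : u * y * u⁻¹ = y⁻¹) : y = 1 := by
  classical
  set C := centralizer ({x} : Set G) with hC
  have huu : u * u = 1 := by simpa [pow_two] using D.hyp.elem.2 u hu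
  have hLC : L ≤ C := fun m hm =>
    mem_centralizer_singleton_iff.2 (D.core_comm H hu hu1 m (hL hm) x (hL hx))
  have huL : ∀ m ∈ L, u * m = m * u := fun m hm =>
    (mem_centralizer_singleton_iff.1 (Walter.core_le u (hL hm))).symm
  have huC : u ∈ C := mem_centralizer_singleton_iff.2 (huL x hx)
  set N := Balance.coreIn 2 C with hN
  have hNC : N ≤ C := Balance.coreIn_le C
  have hCN : C ≤ normalizer (N : Set G) := Balance.le_normalizer_coreIn C
  have hLN : L ≤ normalizer (N : Set G) := hLC.trans hCN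
  set K := L ⊔ N with hK
  have hKo : Odd (Nat.card ↥K) :=
    RankTwoCentralizer.odd_card_sup hLN ((Walter.odd_core u).of_dvd_nat (card_dvd_of_le hL))
      (Nat.coprime_two_right.1 (Balance.coreIn_coprime C))
  have hyo : Odd (orderOf y) := by
    obtain ⟨n, hn⟩ := hy.exists_card_eq
    rw [Nat.card_zpowers] at hn
    rw [hn]
    exact ((Fact.out : q.Prime).odd_of_ne_two hq2).pow
  -- `y ∈ O(C(x))`
  have hyN : y ∈ N := by
    have h : (y⁻¹) ^ 2 ∈ N := by
      have := D.comm_mem_centralizer H hu hu1 (hL hx) hx1 (T := {x}) rfl huC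
        (c := y) (mem_centralizer_singleton_iff.2 hxy.symm)
      rwa [hinv, ← pow_two] at this
    obtain ⟨j, hj⟩ := hyo
    rw [← inv_mem_iff, show y⁻¹ = ((y⁻¹) ^ 2) ^ (j + 1) by
      rw [← pow_mul, show 2 * (j + 1) = (2 * j + 1) + 1 by ring, pow_succ _ (2 * j + 1), ← hj,
        inv_pow y (orderOf y), pow_orderOf_eq_one, inv_one, one_mul]]
    exact pow_mem h _
  set U := zpowers u with hU
  have hUK : U ≤ normalizer (K : Set G) := by
    rw [hU, zpowers_le]
    refine normalizer_inf_normalizer_le_normalizer_sup _ _ (Subgroup.mem_inf.2 ⟨?_, hCN huC⟩)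
    exact mem_normalizer_iff.2 fun m => ⟨fun hm => by rwa [huL m hm, mul_inv_cancel_right],
      fun hm => by
        have h := huL _ hm
        rw [inv_mul_cancel_right] at h
        rw [← mul_left_cancel h]; exact hm⟩
  have hcop : (Nat.card ↥U).Coprime (Nat.card ↥K) := by
    rw [hU, Nat.card_zpowers, D.orderOf_eq hu hu1]
    exact Nat.coprime_two_left.2 hKo
  have hsolv : Group.IsSolvable ↥U ∨ Group.IsSolvable ↥K :=
    Or.inl (Coprime.isSolvable_zpowers u)
  have hUy : U ≤ normalizer ((zpowers y : Subgroup G) : Set G) := by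
    rw [hU, zpowers_le]
    refine Coprime.mem_normalizer_of_conj_smul_eq ?_
    rw [Coprime.conj_smul_eq_map, MonoidHom.map_zpowers]
    show zpowers (u * y * u⁻¹) = _
    rw [hinv, zpowers_inv]
  have hUL : U ≤ normalizer (L : Set G) := by
    rw [hU, zpowers_le]
    exact (hS (by obtain ⟨u', -, rfl⟩ := D.mem_center hu; exact u'.2))
  obtain ⟨P, hyP, hPU⟩ := Coprime.exists_invariant_sylow_ge hUK hcop hsolv q (zpowers y)
    (zpowers_le.2 (mem_sup_right hyN)) hy hUy
  obtain ⟨Q, hLQ, hQU⟩ := Coprime.exists_invariant_sylow_ge hUK hcop hsolv q L le_sup_left hLq hUL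
  obtain ⟨c, hc, hcQ⟩ := Coprime.exists_conj_invariant_sylow hUK hcop hsolv Q P hQU hPU
  have hL1 : L ≠ ⊥ := fun h => hx1 (Subgroup.mem_bot.1 (h ▸ hx))
  have hcent : U ≤ centralizer (((Q : Subgroup ↥K).map K.subtype : Subgroup G) : Set G) := by
    refine Cfsg.Agent.Inter3185.U34.axb (Q.isPGroup'.map _) hLq (hLQ.trans le_normalizer) hQU
      (fun z hz => ?_) (by
        rw [hU, zpowers_le]
        exact mem_centralizer_iff.2 fun m hm => (huL m hm).symm) ?_
    · have h2 : orderOf z ∣ 2 := by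
        rw [← D.orderOf_eq hu hu1, ← Nat.card_zpowers u]
        exact Subgroup.orderOf_dvd_natCard _ hz
      exact Nat.Coprime.coprime_dvd_left h2
        ((Nat.coprime_primes Nat.prime_two Fact.out).2 (Ne.symm hq2))
    · rw [hU, zpowers_le]
      exact mem_centralizer_iff.2 fun m hm =>
        mem_centralizer_singleton_iff.1 (D.centralizer_le H hu hu1 hL hL1 hS hm.2)
  have hym : y ∈ MulAut.conj c • ((Q : Subgroup ↥K).map K.subtype) := by
    rw [hcQ]; exact hyP (mem_zpowers y)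
  rw [Coprime.mem_conj_smul] at hym
  have h1 := mem_centralizer_iff.1 (hcent (mem_zpowers u)) _ hym
  have h2 : c * u = u * c := (mem_centralizer_iff.1 hc.2 u (mem_zpowers u)).symm
  have h3 : y⁻¹ = y := by
    calc y⁻¹ = u * y * u⁻¹ := hinv.symm
      _ = c * ((u * (c⁻¹ * y * c)) * u⁻¹) * c⁻¹ := by
          rw [show c * ((u * (c⁻¹ * y * c)) * u⁻¹) * c⁻¹ =
            (c * u) * c⁻¹ * y * c * (u⁻¹ * c⁻¹) by group, h2, mul_inv_cancel_right,
            show u⁻¹ * c⁻¹ = (c * u)⁻¹ by group, h2]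
          group
      _ = y := by rw [← h1]; group
  rw [← orderOf_eq_one_iff]
  rcases (Nat.dvd_prime Nat.prime_two).1 (orderOf_dvd_of_pow_eq_one (show y ^ 2 = 1 by
      rw [pow_two]; nth_rw 1 [← h3]; exact inv_mul_cancel y)) with h4 | h4
  · exact h4
  · rw [h4] at hyo
    exact absurd hyo (by decide)

/-- `C(f) ∩ N(S)` permutes the involutions of `A` transitively. -/
theorem exists_move {v : G} (hv : v ∈ A) (hv1 : v ≠ 1) :
    ∃ n ∈ normalizer ((S : Subgroup G) : Set G), n * f = f * n ∧ n * (a : G) * n⁻¹ = v := by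
  haveI : Fact (Nat.Prime 5) := ⟨by norm_num⟩
  by_cases hva : v = a
  · exact ⟨1, one_mem _, by simp, by simp [hva]⟩
  obtain ⟨i, hi⟩ := D.cycle v hv hv1
  set n₀ := g ^ i
  have hn₀ : n₀ ∈ normalizer ((S : Subgroup G) : Set G) := pow_mem D.g_norm i
  have hnA : ∀ n ∈ normalizer ((S : Subgroup G) : Set G), ∀ z ∈ A, n * z * n⁻¹ ∈ A := by
    intro n hn z hz
    obtain ⟨z', hz', rfl⟩ := D.mem_center hz
    refine D.mem_A (z := ⟨_, (mem_normalizer_iff.1 hn _).1 z'.2⟩) (mem_center_iff.2 fun s => ?_)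
    have hs := congrArg Subtype.val (mem_center_iff.1 hz'
      ⟨_, (mem_normalizer_iff''.1 hn _).1 s.2⟩)
    simp only [Subgroup.coe_mul] at hs
    refine Subtype.ext ?_
    show (s : G) * (n * (z' : G) * n⁻¹) = n * (z' : G) * n⁻¹ * s
    calc (s : G) * (n * (z' : G) * n⁻¹) = n * (n⁻¹ * s * n * z') * n⁻¹ := by group
      _ = n * (z' * (n⁻¹ * s * n)) * n⁻¹ := by rw [hs]
      _ = _ := by group
  -- the conjugate of `⟨f⟩` is conjugate to `⟨f⟩` under `S`
  set W := (S : Subgroup G) ⊔ zpowers f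
  have hfN : zpowers f ≤ normalizer ((S : Subgroup G) : Set G) := zpowers_le.2 D.cfg.f_norm
  have hWn : ∀ x, x ∈ W → n₀ * x * n₀⁻¹ ∈ centralizer (A : Set G) := by
    intro x hx
    refine mem_centralizer_iff.2 fun z hz => ?_
    have hzc : ∀ y ∈ W, ∀ {z : G}, z ∈ A → y * z = z * y := by
      intro y hy z hz
      have h : W ≤ centralizer ({z} : Set G) := sup_le (D.sylow_le hz) (zpowers_le.2 (D.f_mem hz))
      exact mem_centralizer_singleton_iff.1 (h hy)
    have hz' : n₀⁻¹ * z * n₀ ∈ A := by simpa using hnA n₀⁻¹ (inv_mem hn₀) z hz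
    have h := hzc x hx hz'
    calc z * (n₀ * x * n₀⁻¹) = n₀ * ((n₀⁻¹ * z * n₀) * x) * n₀⁻¹ := by group
      _ = n₀ * (x * (n₀⁻¹ * z * n₀)) * n₀⁻¹ := by rw [h]
      _ = _ := by group
  have hf' : n₀ * f * n₀⁻¹ ∈ W := by
    obtain ⟨s, j, hsj⟩ := D.exists_of_centA H (hWn f (mem_sup_right (mem_zpowers f)))
    rw [hsj]
    exact mul_mem (mem_sup_left s.2) (mem_sup_right (pow_mem (mem_zpowers f) _))
  have hd : Disjoint (zpowers f) (S : Subgroup G) := by
    refine disjoint_of_coprime_natCard ?_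
    rw [Nat.card_zpowers, D.orderOf_f H, D.cfg.card]
    norm_num
  have hW : Nat.card ↥W = 5 * 64 := by
    rw [show W = zpowers f ⊔ (S : Subgroup G) from sup_comm _ _,
      Coprime.card_sup_of_disjoint hfN hd, Nat.card_zpowers, D.orderOf_f H, D.cfg.card]
  have hfact : (Nat.card ↥W).factorization 5 = 1 := by
    rw [hW, Nat.factorization_mul (by norm_num) (by norm_num), Finsupp.add_apply,
      Nat.Prime.factorization_self (by norm_num : (Nat.Prime 5)),
      Nat.factorization_eq_zero_of_not_dvd (by norm_num)]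
  have hf'o : orderOf (n₀ * f * n₀⁻¹) = 5 := by
    rw [show n₀ * f * n₀⁻¹ = MulAut.conj n₀ f from rfl, MulEquiv.orderOf_eq, D.orderOf_f H]
  obtain ⟨P, hP⟩ := Coprime.exists_sylow_of_card (K := W) (p := 5) (H := zpowers f) le_sup_right
    (by rw [Nat.card_zpowers, D.orderOf_f H, hfact, pow_one])
  obtain ⟨Q, hQ⟩ := Coprime.exists_sylow_of_card (K := W) (p := 5)
    (H := zpowers (n₀ * f * n₀⁻¹)) (zpowers_le.2 hf')
    (by rw [Nat.card_zpowers, hf'o, hfact, pow_one])
  obtain ⟨w, hw, hwQ⟩ := Coprime.exists_conj_sylow_map P Q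
  rw [hP, hQ] at hwQ
  obtain ⟨b, hb, k, hk, rfl⟩ := Coprime.exists_mul_of_mem_sup (A := zpowers f)
    (K := (S : Subgroup G)) hfN (by rw [sup_comm]; exact hw)
  have hbk : b * k = (b * k * b⁻¹) * b := by group
  have hbkS : b * k * b⁻¹ ∈ (S : Subgroup G) := (mem_normalizer_iff.1 (hfN hb) k).1 hk
  set s := b * k * b⁻¹
  rw [hbk, Coprime.conj_smul_mul,
    Coprime.conj_smul_eq_self_of_mem_normalizer (le_normalizer hb)] at hwQ
  set n := s⁻¹ * n₀ with hn
  have hnS : n ∈ normalizer ((S : Subgroup G) : Set G) :=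
    mul_mem (inv_mem (le_normalizer hbkS)) hn₀
  have hna : n * (a : G) * n⁻¹ = v := by
    rw [hn, show s⁻¹ * n₀ * (a : G) * (s⁻¹ * n₀)⁻¹ = s⁻¹ * (n₀ * (a : G) * n₀⁻¹) * s by group, hi,
      mul_assoc, ← D.comm hv hbkS, inv_mul_cancel_left]
  have hnf : n * f * n⁻¹ ∈ zpowers f := by
    have h : n₀ * f * n₀⁻¹ ∈ MulAut.conj s • zpowers f := by rw [hwQ]; exact mem_zpowers _
    rw [Coprime.mem_conj_smul] at h
    rw [hn, show s⁻¹ * n₀ * f * (s⁻¹ * n₀)⁻¹ = s⁻¹ * (n₀ * f * n₀⁻¹) * s by group]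
    exact h
  obtain ⟨r, hr⟩ := (isOfFinOrder_of_finite f).mem_powers_iff_mem_zpowers.2 hnf
  have hr' : n * f * n⁻¹ = f ^ r := hr.symm
  refine ⟨n, hnS, ?_, hna⟩
  -- `n³` fixes `a`, so centralises `f`
  have hconj : ∀ e : ℕ, n ^ e * f * (n ^ e)⁻¹ = f ^ (r ^ e) := by
    intro e
    induction e with
    | zero => simp
    | succ e ih =>
      rw [pow_succ', show n * n ^ e * f * (n * n ^ e)⁻¹ = n * (n ^ e * f * (n ^ e)⁻¹) * n⁻¹ by
        group, ih, ← conj_pow, hr', ← pow_mul, pow_succ']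
  have hfix : ∀ (m : G), m ∈ normalizer ((S : Subgroup G) : Set G) →
      m * (a : G) * m⁻¹ = a → m ∈ centralizer (A : Set G) := by
    intro m hm hma
    obtain ⟨k, hk, s', l, rfl⟩ := D.split a D.a_mem D.a_ne m
      (mem_centralizer_singleton_iff.2 (mul_inv_eq_iff_eq_mul.1 hma))
    have hsl : (s' : G) * f ^ (l : ℕ) ∈ centralizer (A : Set G) := by
      refine mul_mem (mem_centralizer_iff.2 fun z hz => (D.comm hz s'.2).symm)
        (pow_mem (mem_centralizer_iff.2 fun z hz => ?_) _)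
      exact (mem_centralizer_singleton_iff.1 (D.f_mem hz)).symm
    have hkS : k ∈ normalizer ((S : Subgroup G) : Set G) := by
      rw [show k = k * (s' : G) * f ^ (l : ℕ) * ((s' : G) * f ^ (l : ℕ))⁻¹ by group]
      exact mul_mem hm (inv_mem (mul_mem (le_normalizer s'.2) (pow_mem D.cfg.f_norm _)))
    rw [mul_assoc k]
    refine mul_mem (mem_centralizer_iff.2 fun z hz => ?_) hsl
    obtain ⟨z', -, hzz⟩ := D.mem_center hz
    obtain ⟨w', hw'⟩ : ∃ w' : ↥(S : Subgroup G), (w' : G) = k * z * k⁻¹ :=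
      ⟨⟨_, (mem_normalizer_iff.1 hkS z).1 (hzz ▸ z'.2)⟩, rfl⟩
    have h := (D.cfg.core_fix (u := z') (v := w') hk (by rw [hzz]; exact hw'.symm)).2
    rw [hzz] at h
    exact h.symm
  have hn2 : ∀ x, x ∈ A → x ≠ 1 → x ≠ a → x ≠ v →
      n * v * n⁻¹ = x ∧ n * x * n⁻¹ = a := by
    intro x hx hx1 hxa hxv
    have hav : x = (a : G) * v := by
      rcases D.mem_four D.a_mem D.a_ne hv hv1 hva hx with h | h | h | h
      · exact absurd h hx1
      · exact absurd h hxa
      · exact absurd h hxv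
      · exact h
    have hvn : n * v * n⁻¹ ≠ a := by
      intro h
      have hx' : n * x * n⁻¹ = x := by
        rw [hav, conj_mul.symm, hna, h]
        obtain ⟨v', -, rfl⟩ := D.mem_center hv
        exact (D.comm D.a_mem v'.2)
      -- `n` fixes `x`; conjugating back to `a`, it centralises `A`
      obtain ⟨j, hj⟩ := D.cycle x hx hx1
      have hm : (g ^ j)⁻¹ * n * g ^ j ∈ centralizer (A : Set G) := by
        refine hfix _ (mul_mem (mul_mem (inv_mem (pow_mem D.g_norm j)) hnS) (pow_mem D.g_norm j)) ?_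
        rw [show (g ^ j)⁻¹ * n * g ^ j * (a : G) * ((g ^ j)⁻¹ * n * g ^ j)⁻¹ =
          (g ^ j)⁻¹ * (n * (g ^ j * (a : G) * (g ^ j)⁻¹) * n⁻¹) * g ^ j by group, hj, hx', ← hj]
        group
      have hz' : (g ^ j)⁻¹ * a * g ^ j ∈ A := by
        simpa using hnA _ (inv_mem (pow_mem D.g_norm j)) a D.a_mem
      have h2 := mem_centralizer_iff.1 hm _ hz'
      refine hva (?_ : v = a)
      calc v = n * (a : G) * n⁻¹ := hna.symm
        _ = g ^ j * ((g ^ j)⁻¹ * n * g ^ j * ((g ^ j)⁻¹ * a * g ^ j) *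
            ((g ^ j)⁻¹ * n * g ^ j)⁻¹) * (g ^ j)⁻¹ := by group
        _ = a := by rw [← h2]; group
    have h1 : n * v * n⁻¹ = x := by
      rcases D.mem_four D.a_mem D.a_ne hv hv1 hva (hnA n hnS v hv) with h | h | h | h
      · exact absurd (conj_eq_one_iff.1 h) hv1
      · exact absurd h hvn
      · exact absurd (mul_left_cancel (mul_right_cancel (h.trans hna.symm))) hva
      · exact h.trans hav.symm
    refine ⟨h1, ?_⟩
    rw [hav, conj_mul.symm, hna, h1, hav, ← mul_assoc]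
    obtain ⟨v', -, rfl⟩ := D.mem_center hv
    rw [D.comm D.a_mem v'.2, mul_assoc, show (v' : G) * v' = 1 by
      simpa [pow_two] using D.hyp.elem.2 _ hv, mul_one]
  have hn3 : n ^ 3 * (a : G) * (n ^ 3)⁻¹ = a := by
    have hav1 : (a : G) * v ≠ 1 := fun e => hva (mul_left_cancel ((show (a : G) * a = 1 by
      simpa [pow_two] using D.hyp.elem.2 _ D.a_mem).trans e.symm)).symm
    obtain ⟨h1, h2⟩ := hn2 _ (mul_mem D.a_mem hv) hav1 (fun e => hv1 (by simpa using e))
      (fun e => D.a_ne (by simpa using e))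
    calc n ^ 3 * (a : G) * (n ^ 3)⁻¹ = n * (n * (n * (a : G) * n⁻¹) * n⁻¹) * n⁻¹ := by
          simp [pow_succ, mul_assoc]
      _ = a := by rw [hna, h1, h2]
  obtain ⟨s', l, hsl⟩ := D.exists_of_centA H (hfix _ (pow_mem hnS 3) hn3)
  have hsf : (s' : G) * f * (s' : G)⁻¹ ∈ zpowers f := by
    have h : n ^ 3 * f * (n ^ 3)⁻¹ ∈ zpowers f := by
      rw [hconj]; exact pow_mem (mem_zpowers f) _
    rwa [hsl, show (s' : G) * f ^ (l : ℕ) * f * ((s' : G) * f ^ (l : ℕ))⁻¹ =
      (s' : G) * f * (s' : G)⁻¹ by group] at h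
  have hcomm : (s' : G) * f * (s' : G)⁻¹ * f⁻¹ = 1 := by
    refine Subgroup.disjoint_def.1 hd (mul_mem hsf (inv_mem (mem_zpowers f))) ?_
    rw [show (s' : G) * f * (s' : G)⁻¹ * f⁻¹ = (s' : G) * (f * (s' : G)⁻¹ * f⁻¹) by group]
    exact mul_mem s'.2 ((mem_normalizer_iff.1 D.cfg.f_norm _).1 (inv_mem s'.2))
  have hr3 : f ^ (r ^ 3) = f ^ 1 := by
    rw [← hconj, hsl, pow_one, show (s' : G) * f ^ (l : ℕ) * f * ((s' : G) * f ^ (l : ℕ))⁻¹ =
      (s' : G) * f * (s' : G)⁻¹ by group, ← mul_inv_eq_one, hcomm]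
  rw [pow_eq_pow_iff_modEq, D.orderOf_f H] at hr3
  have hr1 : r % 5 = 1 := by
    have h : (r % 5) ^ 3 % 5 = 1 := by rw [← Nat.pow_mod]; exact hr3
    have : r % 5 < 5 := Nat.mod_lt _ (by norm_num)
    interval_cases hh : r % 5 <;> simp_all
  have : f ^ r = f := by
    conv_rhs => rw [← pow_one f]
    rw [pow_eq_pow_iff_modEq, D.orderOf_f H]
    exact hr1
  rw [this] at hr'
  exact mul_inv_eq_iff_eq_mul.1 hr'

end Data

end Cfsg.Agent.Lib.Goldschmidt53.RankTwoMin
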