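import Cfsg.Agent.Lib.Goldschmidt53.RankTwoMin.Structure
import Cfsg.Agent.Lib.PiHomog3258.Local74.Aut
import Cfsg.Agent.Lib.PiHomog3258.Five.Config
import Cfsg.Agent.Lib.PSolvable.Basic
import Cfsg.Agent.Lib.U34Type98.Main

/-!
# Rank two, all involutions in `A`: the configuration with an element of order five

The odd part of `C(A) ∩ N(S)` induces a group of order five on `S`: otherwise the centralisers of
involutions have normal 2-complements, which is impossible by `U34Type98.Main.not_simple`.  This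
gives the hypotheses of `PiHomog3258.Five.Config`.
-/

set_option autoImplicit false
set_option linter.style.haveILetI false
set_option linter.unusedSectionVars false

universe u

namespace Cfsg.Agent.Lib.Goldschmidt53.RankTwoMin.Config

open Subgroup
open Cfsg.Agent.Lib.Walter (coreC core)
open Cfsg.Agent.Lib.PiHomog3258

variable {G : Type u} [Group G] [Finite G] {S : Sylow 2 G} {A : Subgroup G}

attribute [local instance] Classical.propDecidable

/-- `N(S) ∩ C(A)`. -/
abbrev nc (S : Sylow 2 G) (A : Subgroup G) : Subgroup G :=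
  centralizer (A : Set G) ⊓ normalizer ((S : Subgroup G) : Set G)

/-- The action of `N(S) ∩ C(A)` on `S`. -/
abbrev act (S : Sylow 2 G) (A : Subgroup G) : ↥(nc S A) →* MulAut ↥(S : Subgroup G) :=
  Local74.conjHom (inf_le_right : nc S A ≤ normalizer ((S : Subgroup G) : Set G))

theorem act_eq_one_iff (n : ↥(nc S A)) :
    act S A n = 1 ↔ ∀ s ∈ (S : Subgroup G), (n : G) * s = s * n := by
  constructor
  · intro h s hs
    have h1 := congrArg (fun f : MulAut ↥(S : Subgroup G) =>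
      ((f ⟨s, hs⟩ : ↥(S : Subgroup G)) : G)) h
    simp only [MulAut.one_apply, Local74.conjHom_apply] at h1
    exact mul_inv_eq_iff_eq_mul.1 h1
  · intro h
    refine MulEquiv.ext fun s => Subtype.ext ?_
    rw [Local74.conjHom_apply, h s s.2, mul_inv_cancel_right, MulAut.one_apply]

variable (hL : PropFacts.{u}) (hX : PropLocal.{u}) (h : Hyp S A) (h4 : Nat.card ↥A = 4)
  (hcA : ∀ s ∈ (S : Subgroup G), ∀ a ∈ A, s * a = a * s)
  (D : Local74.Sixty4 ↥(S : Subgroup G))

include h h4 hcA D in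
theorem act_fix (n : ↥(nc S A)) {z : ↥(S : Subgroup G)} (hz : z ∈ center ↥(S : Subgroup G)) :
    act S A n z = z := by
  refine Subtype.ext ?_
  rw [Local74.conjHom_apply,
    ← mem_centralizer_iff.1 n.2.1 (z : G) ((Structure.zS_eq h h4 hcA D).le ⟨z, hz, rfl⟩),
    mul_inv_cancel_right]

include h h4 hcA D in
theorem transitive (z : ↥(S : Subgroup G)) (hz : z ∈ center ↥(S : Subgroup G)) (hz1 : z ≠ 1)
    (z' : ↥(S : Subgroup G)) (hz' : z' ∈ center ↥(S : Subgroup G)) (hz'1 : z' ≠ 1) :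
    ∃ α : MulAut ↥(S : Subgroup G), α z = z' := by
  have hm : ∀ {w : ↥(S : Subgroup G)}, w ∈ center ↥(S : Subgroup G) → (w : G) ∈ A :=
    fun {w} hw => (Structure.zS_eq h h4 hcA D).le ⟨w, hw, rfl⟩
  obtain ⟨n, hn, e⟩ := Structure.fusion h h4 hcA D (hm hz) (fun e => hz1 (Subtype.ext e)) (hm hz')
    (fun e => hz'1 (Subtype.ext e))
  exact ⟨Local74.conjHom (le_refl (normalizer ((S : Subgroup G) : Set G))) ⟨n, hn⟩,
    Subtype.ext (by rw [Local74.conjHom_apply]; exact e)⟩

include h hcA in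
theorem sylow_le_nc : (S : Subgroup G) ≤ nc S A :=
  le_inf (Structure.sylow_le_centralizer hcA) le_normalizer

include hL hX h h4 hcA D in
/-- `C(a) = O(C(a)) (N(S) ∩ C(A))`. -/
theorem exists_core_mul {a c : G} (ha : a ∈ A) (ha1 : a ≠ 1)
    (hc : c ∈ centralizer ({a} : Set G)) : ∃ k ∈ core a, ∃ n : ↥(nc S A), c = k * n := by
  obtain ⟨k, hk, hkc⟩ :=
    RankTwoCentralizer.exists_core_mul_centralizer hL hX h h4 hcA ha ha1 hc
  obtain ⟨k', hk', hn⟩ := Structure.exists_coreC_mul hL h h4 hcA D hkc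
  rw [← RankTwoCentralizer.core_inf_eq hL hX h h4 hcA ha ha1] at hk'
  exact ⟨(k' * k)⁻¹, inv_mem (mul_mem hk'.1 hk), ⟨_, hn⟩, by group⟩

include hL hX h h4 hcA in
/-- The cores of two involutions of `A` meet in the core of `C(A)`. -/
theorem core_inf_centralizer {a b : G} (ha : a ∈ A) (ha1 : a ≠ 1) (hb : b ∈ A) (hb1 : b ≠ 1)
    (hab : a ≠ b) : core a ⊓ centralizer ({b} : Set G) = coreC A := by
  have hCA := RankTwoCentralizer.core_inf_eq hL hX h h4 hcA ha ha1
  refine le_antisymm ?_ ?_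
  · rintro x ⟨hx, hxb⟩
    rw [← hCA]
    refine ⟨hx, mem_centralizer_iff.2 fun v hv => ?_⟩
    have hxa : Commute x a := mem_centralizer_singleton_iff.1 (Walter.core_le a hx)
    have hxb' : Commute x b := mem_centralizer_singleton_iff.1 hxb
    have hsq : ∀ {w : G}, w ∈ A → w * w = 1 := fun hw => by
      rw [← pow_two]
      exact PGroups.elemAb_pow h.elem hw
    -- `A = {1, a, b, ab}`
    have hcases : v = 1 ∨ v = a ∨ v = b ∨ v = a * b := by
      by_contra hc
      push Not at hc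
      obtain ⟨v1, v2, v3, v4⟩ := hc
      have hab1 : a * b ≠ 1 := fun e => hab (mul_right_cancel (e.trans (hsq hb).symm))
      have e1 : a * b ≠ a := fun e => hb1 (mul_eq_left.1 e)
      have e2 : a * b ≠ b := fun e => ha1 (mul_eq_right.1 e)
      have hs : ({1, a, b, a * b, v} : Finset G).card = 5 := by
        simp [Finset.card_insert_of_notMem, ha1.symm, hb1.symm, hab, hab1.symm, e1.symm, e2.symm,
          v1.symm, v2.symm, v3.symm, v4.symm]
      letI := Fintype.ofFinite ↥A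
      have hsub : ({1, a, b, a * b, v} : Finset G) ⊆
          (Finset.univ : Finset ↥A).image Subtype.val := by
        intro w hw
        simp only [Finset.mem_insert, Finset.mem_singleton] at hw
        refine Finset.mem_image.2 ⟨⟨w, ?_⟩, Finset.mem_univ _, rfl⟩
        rcases hw with rfl | rfl | rfl | rfl | rfl
        exacts [one_mem _, ha, hb, mul_mem ha hb, hv]
      have := (Finset.card_le_card hsub).trans Finset.card_image_le
      rw [hs, Finset.card_univ, ← Nat.card_eq_fintype_card, h4] at this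
      omega
    rcases hcases with rfl | rfl | rfl | rfl
    exacts [(one_mul x).trans (mul_one x).symm, hxa.symm.eq, hxb'.symm.eq,
      (hxa.mul_right hxb').symm.eq]
  · refine le_inf (hCA ▸ inf_le_left) ?_
    exact (Walter.coreC_le A).trans (centralizer_le (Set.singleton_subset_iff.2 hb))

include hL hX h h4 hcA D in
/-- An element of odd order of `N(S) ∩ C(A)` centralising `S` lies in every core. -/
theorem mem_core_of_act {a : G} (ha : a ∈ A) (ha1 : a ≠ 1) {n : ↥(nc S A)}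
    (ho : Odd (orderOf n)) (hn : act S A n = 1) : (n : G) ∈ core a := by
  have := Structure.mem_coreC_of_centralizes hL h h4 hcA D (y := (n : G)) n.2.1
    (by rwa [Subgroup.orderOf_coe]) fun s hs => ((act_eq_one_iff n).1 hn s hs).symm
  rw [← RankTwoCentralizer.core_inf_eq hL hX h h4 hcA ha ha1] at this
  exact this.1

include h hcA in
/-- A complement of `S` in `N(S) ∩ C(A)`. -/
theorem exists_complement : ∃ H : Subgroup ↥(nc S A), Odd (Nat.card ↥H) ∧
    ∀ n : ↥(nc S A), ∃ s : ↥(S : Subgroup G), ∃ x ∈ H, (n : G) = s * (x : G) := by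
  haveI : Fact (Nat.Prime 2) := ⟨Nat.prime_two⟩
  have hSN := sylow_le_nc h hcA
  set S' := (S : Subgroup G).subgroupOf (nc S A) with hS'
  haveI hS'n : S'.Normal := (normal_subgroupOf_iff_le_normalizer hSN).2 inf_le_right
  obtain ⟨k, hk⟩ := IsPGroup.iff_card.1 S.isPGroup'
  have hidx : Odd S'.index := by
    rw [Nat.odd_iff]
    exact Nat.two_dvd_ne_zero.1 fun h' => (S.subtype hSN).not_dvd_index h'
  obtain ⟨H, hH⟩ := exists_right_complement'_of_coprime (N := S')
    (by rw [Nat.card_congr (subgroupOfEquivOfLe hSN).toEquiv, hk]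
        exact (Nat.coprime_two_left.2 hidx).pow_left k)
  refine ⟨H, by rw [← hH.symm.index_eq_card]; exact hidx, fun n => ?_⟩
  obtain ⟨⟨s, x⟩, e⟩ := hH.2 n
  exact ⟨⟨((s : ↥(nc S A)) : G), mem_subgroupOf.1 s.2⟩, x, x.2, (congrArg Subtype.val e).symm⟩

include hL hX h h4 hcA D in
/-- If the odd part of `N(S) ∩ C(A)` is trivial on `S`, centralisers are 2-nilpotent. -/
theorem invCentNilp {H : Subgroup ↥(nc S A)} (hodd : Odd (Nat.card ↥H))
    (hsplit : ∀ n : ↥(nc S A), ∃ s : ↥(S : Subgroup G), ∃ x ∈ H, (n : G) = s * (x : G))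
    (hR : ∀ x ∈ H, act S A x = 1) (hinv : ∀ x ∈ (S : Subgroup G), orderOf x = 2 → x ∈ A) :
    CNilp98.InvCentNilp G := by
  haveI : Fact (Nat.Prime 2) := ⟨Nat.prime_two⟩
  intro t ht
  obtain ⟨P, hP⟩ := (IsPGroup.of_card (n := 1)
    (by rw [Nat.card_zpowers, ht, pow_one] : Nat.card ↥(zpowers t) = 2 ^ 1)).exists_le_sylow
  obtain ⟨m, hm⟩ := MulAction.exists_smul_eq G P S
  set v := m * t * m⁻¹ with hvdef
  have hvo : orderOf v = 2 := by
    rw [hvdef, show m * t * m⁻¹ = MulAut.conj m t from rfl, MulEquiv.orderOf_eq, ht]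
  have hvA : v ∈ A := hinv v (ZStar.Elements.smul_mem hm (hP (mem_zpowers t))) hvo
  have hv1 : v ≠ 1 := fun e => by
    rw [e, orderOf_one] at hvo
    omega
  set C := centralizer ({v} : Set G) with hC
  have hSC : (S : Subgroup G) ≤ C := (Structure.sylow_le_centralizer hcA).trans
    (centralizer_le (Set.singleton_subset_iff.2 hvA))
  have hnil : Cfsg.HasNormalPComplement 2 ↥C := by
    refine ⟨S.subtype hSC, Cfsg.pPrimeCore 2 ↥C, Cfsg.pPrimeCore_normal 2 _, ?_⟩
    refine isComplement'_of_disjoint_and_mul_eq_univ ?_ ?_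
    · refine disjoint_of_coprime_natCard ?_
      obtain ⟨j, hj⟩ := IsPGroup.iff_card.1 (S.subtype hSC).isPGroup'
      rw [hj]
      exact (Nat.coprime_two_right.2 U3Type59.oddCore_odd').pow_right j
    · refine Set.eq_univ_of_forall fun x => ?_
      haveI := Cfsg.pPrimeCore_normal 2 ↥C
      rw [← normal_mul]
      obtain ⟨k, hk, n, hxn⟩ := exists_core_mul hL hX h h4 hcA D hvA hv1 (c := (x : G)) x.2
      obtain ⟨s, y, hy, hn⟩ := hsplit n
      obtain ⟨k₀, hk₀, rfl⟩ := hk
      obtain ⟨y₀, hy₀, hy₀e⟩ := mem_core_of_act hL hX h h4 hcA D hvA hv1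
        (by rw [← Subgroup.orderOf_coe]
            exact U3Type59.odd_orderOf_of_mem (hodd.of_dvd_nat (card_map_dvd _ _))
              (mem_map_of_mem (nc S A).subtype hy)) (hR y hy)
      have hx : x = k₀ * (⟨(s : G), hSC s.2⟩ * y₀) := Subtype.ext (by
        rw [hxn, hn]
        show (k₀ : G) * ((s : G) * y) = (k₀ : G) * ((s : G) * y₀)
        rw [← hy₀e]
        rfl)
      rw [hx]
      exact mul_mem (mem_sup_left hk₀) (mul_mem (mem_sup_right (mem_subgroupOf.2 s.2))
        (mem_sup_left hy₀))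
  obtain ⟨P', N', hN', hc'⟩ := hnil
  have ht' : m⁻¹ * v * m⁻¹⁻¹ = t := by rw [hvdef]; group
  set e : ↥C ≃* ↥(centralizer ({t} : Set G)) :=
    (C.equivMapOfInjective _ (MulAut.conj m⁻¹).injective).trans
      (MulEquiv.subgroupCongr ((Local74.centralizer_map_conj v m⁻¹).trans (by rw [ht']))) with he
  refine ⟨P'.mapSurjective (f := e.toMonoidHom) e.surjective, N'.map e.toMonoidHom,
    hN'.map _ e.surjective, ?_⟩
  show IsComplement' _ ((P' : Subgroup ↥C).map e.toMonoidHom)
  refine isComplement'_of_disjoint_and_mul_eq_univ ?_ ?_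
  · rw [disjoint_iff, ← map_inf _ _ _ e.injective, disjoint_iff.1 hc'.disjoint, Subgroup.map_bot]
  · haveI : (N'.map e.toMonoidHom).Normal := hN'.map _ e.surjective
    rw [← normal_mul, ← Subgroup.map_sup]
    refine Set.eq_univ_of_forall fun y => ?_
    rw [hc'.sup_eq_top]
    exact ⟨e.symm y, mem_top _, e.apply_symm_apply y⟩

include h h4 hcA D in
/-- The elements of `S` with a given square form one orbit of cosets. -/
theorem exists_orbit {τ : MulAut ↥(S : Subgroup G)} (hτ : orderOf τ = 5)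
    (hfix : ∀ z ∈ center ↥(S : Subgroup G), τ z = z) {v x y : ↥(S : Subgroup G)}
    (hv : v ∈ center ↥(S : Subgroup G)) (hv1 : v ≠ 1) (hx : x * x = v) (hy : y * y = v) :
    ∃ (i : ℕ) (z : ↥(S : Subgroup G)), z ∈ center ↥(S : Subgroup G) ∧ y = (τ ^ i) x * z := by
  haveI : Fact (Nat.Prime 5) := ⟨Nat.prime_five⟩
  have hfixp : ∀ (i : ℕ) (z : ↥(S : Subgroup G)), z ∈ center ↥(S : Subgroup G) →
      (τ ^ i) z = z := by
    intro i
    induction i with
    | zero => exact fun z _ => rfl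
    | succ i ih => exact fun z hz => by rw [pow_succ', MulAut.mul_apply, ih z hz, hfix z hz]
  have hxc : x ∉ center ↥(S : Subgroup G) := fun e => hv1 (hx ▸ D.center_sq x e)
  let F : Fin 5 × ↥(center ↥(S : Subgroup G)) → Local74.Fib v := fun p =>
    ⟨(τ ^ (p.1 : ℕ)) x * (p.2 : ↥(S : Subgroup G)), by
      calc (τ ^ (p.1 : ℕ)) x * (p.2 : ↥(S : Subgroup G)) * ((τ ^ (p.1 : ℕ)) x * p.2)
          = (τ ^ (p.1 : ℕ)) x * ((p.2 : ↥(S : Subgroup G)) * (τ ^ (p.1 : ℕ)) x) * p.2 := by
            group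
        _ = (τ ^ (p.1 : ℕ)) x * (τ ^ (p.1 : ℕ)) x *
            ((p.2 : ↥(S : Subgroup G)) * p.2) := by
            rw [← mem_center_iff.1 p.2.2 ((τ ^ (p.1 : ℕ)) x)]
            group
        _ = v := by rw [D.center_sq _ p.2.2, mul_one, ← map_mul, hx, hfixp _ v hv]⟩
  have hinj : Function.Injective F := by
    rintro ⟨i, z⟩ ⟨j, z'⟩ e
    have e' : (τ ^ (i : ℕ)) x * (z : ↥(S : Subgroup G)) = (τ ^ (j : ℕ)) x * z' :=
      congrArg Subtype.val e
    have hij : (i : ℕ) = j := by
      set σ := (τ ^ (i : ℕ))⁻¹ * τ ^ (j : ℕ) with hσ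
      have hinvfix : ∀ w ∈ center ↥(S : Subgroup G), (τ ^ (i : ℕ))⁻¹ w = w := fun w hw => by
        nth_rewrite 1 [← hfixp (i : ℕ) w hw]
        exact MulAut.inv_apply_self _ _ _
      have hσfix : ∀ w ∈ center ↥(S : Subgroup G), σ w = w := fun w hw => by
        rw [hσ, MulAut.mul_apply, hfixp _ w hw, hinvfix w hw]
      have h1 : x * (z : ↥(S : Subgroup G)) = σ x * z' := by
        rw [hσ, MulAut.mul_apply, ← hinvfix _ z'.2, ← map_mul, ← e', map_mul,
          MulAut.inv_apply_self, hinvfix _ z.2]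
      have h2 : σ x * x⁻¹ ∈ center ↥(S : Subgroup G) := by
        rw [show σ x = x * (z : ↥(S : Subgroup G)) * (z' : ↥(S : Subgroup G))⁻¹ from
          eq_mul_inv_of_mul_eq h1.symm, mul_assoc x (z : ↥(S : Subgroup G)),
          mem_center_iff.1 (mul_mem z.2 (inv_mem z'.2)) x, mul_inv_cancel_right]
        exact mul_mem z.2 (inv_mem z'.2)
      have hτ5 : τ ^ 5 = 1 := by rw [← hτ, pow_orderOf_eq_one]
      have hσ5 : σ ^ 5 = 1 := by
        rw [hσ, ((Commute.refl τ).pow_pow (i : ℕ) (j : ℕ)).inv_left.mul_pow, inv_pow, ← pow_mul,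
          ← pow_mul, mul_comm (i : ℕ), mul_comm (j : ℕ), pow_mul, pow_mul, hτ5,
          one_pow, one_pow, inv_one, one_mul]
      have hone : σ = 1 := Local74.eq_one_of_fixed_mod (p := 5) D (by norm_num)
        (transitive h h4 hcA D) hσ5 hσfix hxc h2
      rw [hσ, inv_mul_eq_one] at hone
      exact pow_injOn_Iio_orderOf (by rw [Set.mem_Iio, hτ]; exact i.2)
        (by rw [Set.mem_Iio, hτ]; exact j.2) hone
    obtain rfl : i = j := Fin.ext hij
    exact Prod.ext rfl (Subtype.ext (mul_left_cancel e'))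
  have hbij : Function.Bijective F := (Nat.bijective_iff_injective_and_card F).2 ⟨hinj, by
    rw [Local74.card_fib D (transitive h h4 hcA D) hv hv1, Nat.card_prod, Nat.card_fin,
      D.card_center]⟩
  obtain ⟨⟨i, z⟩, e⟩ := hbij.2 ⟨y, hy⟩
  exact ⟨i, z, z.2, (congrArg Subtype.val e).symm⟩

/-- The class of a non-central element contains its coset of the centre. -/
theorem coset_conj {w z : ↥(S : Subgroup G)} (D : Local74.Sixty4 ↥(S : Subgroup G))
    (hw : w ∉ center ↥(S : Subgroup G)) (hz : z ∈ center ↥(S : Subgroup G)) :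
    IsConj (w : G) ((w * z : ↥(S : Subgroup G)) : G) := by
  obtain ⟨t, ht⟩ := D.nd w hw z hz
  refine isConj_iff.2 ⟨t, congrArg Subtype.val (?_ : t * w * t⁻¹ = w * z)⟩
  have hzi : z⁻¹ = z := inv_eq_of_mul_eq_one_right (D.center_sq z hz)
  calc t * w * t⁻¹ = (w * t * w⁻¹ * t⁻¹)⁻¹ * w := by group
    _ = w * z := by rw [ht, hzi, mem_center_iff.1 hz w]

/-- The centraliser in `S` of a non-central element has order 16. -/
theorem card_cent (D : Local74.Sixty4 ↥(S : Subgroup G)) {x : ↥(S : Subgroup G)}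
    (hx : x ∉ center ↥(S : Subgroup G)) :
    Nat.card {t : ↥(S : Subgroup G) // t * x = x * t} = 16 := by
  let χ : ↥(S : Subgroup G) →* ↥(center ↥(S : Subgroup G)) :=
    MonoidHom.mk' (fun t => ⟨x * t * x⁻¹ * t⁻¹, Local74.cm_mem D x t⟩)
      fun t t' => Subtype.ext (Local74.cm_mul_right D x t t')
  have htop : χ.range = ⊤ := eq_top_iff.2 fun z _ => by
    obtain ⟨t, ht⟩ := D.nd x hx z z.2
    exact ⟨t, Subtype.ext ht⟩
  have h := χ.ker.card_mul_index
  rw [index_ker, htop, Subgroup.card_top, D.card_center, D.card] at h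
  rw [Nat.card_congr (Equiv.subtypeEquivRight (q := fun t => t ∈ χ.ker) fun t => ?_)]
  · have h16 : Nat.card ↥χ.ker * 4 = 16 * 4 := h
    exact Nat.eq_of_mul_eq_mul_right (by norm_num) h16
  · rw [MonoidHom.mem_ker]
    constructor
    · intro ht
      exact Subtype.ext (by
        show x * t * x⁻¹ * t⁻¹ = 1
        rw [← ht, mul_inv_cancel_right, mul_inv_cancel])
    · intro ht
      have h1 : x * t * x⁻¹ * t⁻¹ = 1 := congrArg Subtype.val ht
      exact (mul_inv_eq_iff_eq_mul.1 (mul_inv_eq_one.1 h1)).symm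

/-- A core extended by a 2-group and a cyclic group is 2-solvable. -/
theorem psolv {a f : G} (hS : (S : Subgroup G) ≤ centralizer ({a} : Set G))
    (hf : f ∈ centralizer ({a} : Set G)) (hfn : f ∈ normalizer ((S : Subgroup G) : Set G))
    (hsplit : ∀ c ∈ centralizer ({a} : Set G), ∃ k ∈ core a,
      ∃ (s : ↥(S : Subgroup G)) (i : Fin 5), c = k * (s : G) * f ^ (i : ℕ)) :
    Cfsg.IsPSolvable 2 ↥(centralizer ({a} : Set G)) := by
  haveI : Fact (Nat.Prime 2) := ⟨Nat.prime_two⟩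
  set C := centralizer ({a} : Set G)
  haveI := Cfsg.pPrimeCore_normal 2 ↥C
  refine PSolvable.isPSolvable_of_extension (Cfsg.pPrimeCore 2 ↥C)
    (PSolvable.isPSolvable_of_coprime (Nat.coprime_two_right.2 U3Type59.oddCore_odd')) ?_
  set q := QuotientGroup.mk' (Cfsg.pPrimeCore 2 ↥C) with hq
  set P := ((S : Subgroup G).subgroupOf C).map q
  have hgen : ∀ x : ↥C ⧸ Cfsg.pPrimeCore 2 ↥C, ∃ p ∈ P, ∃ i : ℕ, x = p * q ⟨f, hf⟩ ^ i := by
    intro x
    obtain ⟨⟨c, hc⟩, rfl⟩ := QuotientGroup.mk'_surjective _ x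
    obtain ⟨_, ⟨k, hk, rfl⟩, s, i, rfl⟩ := hsplit c hc
    refine ⟨q ⟨s, hS s.2⟩, mem_map_of_mem q (mem_subgroupOf.2 s.2), i, ?_⟩
    have e : (⟨(k : G) * s * f ^ (i : ℕ), hc⟩ : ↥C) = k * ⟨s, hS s.2⟩ * ⟨f, hf⟩ ^ (i : ℕ) :=
      Subtype.ext rfl
    show q ⟨(k : G) * s * f ^ (i : ℕ), hc⟩ = _
    rw [e, map_mul, map_mul, map_pow, show q k = 1 from (QuotientGroup.eq_one_iff k).2 hk, one_mul]
  haveI hP : P.Normal := ⟨fun p hp x => by
    obtain ⟨w, hw, i, rfl⟩ := hgen x
    obtain ⟨⟨s, hsC⟩, hs, rfl⟩ := hp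
    have hfs : q (⟨f, hf⟩ ^ i * ⟨s, hsC⟩ * (⟨f, hf⟩ ^ i)⁻¹) ∈ P :=
      mem_map_of_mem q (mem_subgroupOf.2 (by
        simpa using (mem_normalizer_iff.1 (pow_mem hfn i) _).1 (mem_subgroupOf.1 hs)))
    simp only [map_mul, map_inv, map_pow] at hfs
    have := mul_mem (mul_mem hw hfs) (inv_mem hw)
    simpa [mul_assoc] using this⟩
  refine PSolvable.isPSolvable_of_extension P (PSolvable.isPSolvable_of_isPGroup ?_) ?_
  · exact ((S.2.comap_of_injective C.subtype C.subtype_injective).map q)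
  · haveI : Group.IsSolvable ((↥C ⧸ Cfsg.pPrimeCore 2 ↥C) ⧸ P) :=
      Group.isSolvable_of_comm fun x y => by
        obtain ⟨x, rfl⟩ := QuotientGroup.mk'_surjective P x
        obtain ⟨y, rfl⟩ := QuotientGroup.mk'_surjective P y
        obtain ⟨p, hp, i, rfl⟩ := hgen x
        obtain ⟨p', hp', j, rfl⟩ := hgen y
        have e : QuotientGroup.mk' P p = 1 := (QuotientGroup.eq_one_iff p).2 hp
        have e' : QuotientGroup.mk' P p' = 1 := (QuotientGroup.eq_one_iff p').2 hp'
        rw [map_mul, map_mul, e, e', one_mul, one_mul, ← map_mul, ← map_mul, ← pow_add, ← pow_add,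
          add_comm]
    exact PSolvable.isPSolvable_of_isSolvable

include hL hX h h4 hcA D in
/-- A 5-element of `N(S) ∩ C(A)` inducing an automorphism of order five on `S`, and the form of
`C(a)` for `a ∈ A#`. -/
theorem exists_five (hinv : ∀ x ∈ (S : Subgroup G), orderOf x = 2 → x ∈ A) :
    ∃ f : ↥(nc S A), (∃ n : ℕ, orderOf f = 5 ^ (n + 1)) ∧ orderOf (act S A f) = 5 ∧
      ∀ a ∈ A, a ≠ 1 → (f : G) ^ 5 ∈ core a ∧
        ∀ c ∈ centralizer ({a} : Set G), ∃ k ∈ core a,
          ∃ (s : ↥(S : Subgroup G)) (i : Fin 5), c = k * (s : G) * (f : G) ^ (i : ℕ) := by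
  haveI : Fact (Nat.Prime 5) := ⟨Nat.prime_five⟩
  obtain ⟨H, hodd, hsplit⟩ := exists_complement h hcA
  set R := H.map (act S A) with hRdef
  have hR := Local74.card_eq_five D (transitive h h4 hcA D)
    (R := R) (hodd.of_dvd_nat (card_map_dvd _ _)) (by
      rintro _ ⟨n, -, rfl⟩ z hz
      exact act_fix h h4 hcA D n hz)
  rcases hR with hR | hR
  · exfalso
    haveI := h.simple
    refine U34Type98.Main.not_simple h.nonabelian (S := S)
      { nilp := invCentNilp hL hX h h4 hcA D hodd hsplit (fun x hx => ?_) hinv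
        card := D.card
        card_center := D.card_center
        comm := D.comm
        center_sq := D.center_sq
        sq := D.sq
        invol := D.invol }
    have : act S A x ∈ R := mem_map_of_mem _ hx
    rwa [eq_bot_of_card_eq R hR, mem_bot] at this
  obtain ⟨x, hx, hx1⟩ : ∃ x ∈ H, act S A x ≠ 1 := by
    by_contra hc
    push Not at hc
    have : R = ⊥ := le_bot_iff.1 (by
      rintro _ ⟨y, hy, rfl⟩
      exact mem_bot.2 (hc y hy))
    rw [this, card_bot] at hR
    omega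
  have hx5 : orderOf (act S A x) = 5 := by
    refine ((Nat.dvd_prime Nat.prime_five).1 (hR ▸ R.orderOf_dvd_natCard ?_)).resolve_left
      fun e => hx1 (orderOf_eq_one_iff.1 e)
    exact mem_map_of_mem _ hx
  obtain ⟨e, r, hr, her⟩ :=
    Nat.exists_eq_pow_mul_and_not_dvd (orderOf_pos x).ne' 5 (by norm_num)
  set f := x ^ r with hf
  have hfH : f ∈ H := pow_mem hx r
  have hford : orderOf f = 5 ^ e := by
    rw [hf, orderOf_pow_of_dvd (fun h0 => hr (by rw [h0]; exact dvd_zero 5)) ⟨5 ^ e, by rw [her, mul_comm]⟩,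
      her, Nat.mul_div_cancel _ (Nat.pos_of_ne_zero fun h0 => hr (by rw [h0]; exact dvd_zero 5))]
  have hτ : orderOf (act S A f) = 5 := by
    rw [hf, map_pow, Nat.Coprime.orderOf_pow, hx5]
    rw [hx5]
    exact (Nat.prime_five.coprime_iff_not_dvd).2 hr
  have he : e ≠ 0 := fun h0 => by
    rw [h0, pow_zero, orderOf_eq_one_iff] at hford
    rw [hford, map_one, orderOf_one] at hτ
    omega
  obtain ⟨n, rfl⟩ := Nat.exists_eq_succ_of_ne_zero he
  refine ⟨f, ⟨n, hford⟩, hτ, fun a ha ha1 => ?_⟩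
  have hoddH : ∀ y ∈ H, Odd (orderOf y) := fun y hy => U3Type59.odd_orderOf_of_mem hodd hy
  have h5 : act S A (f ^ 5) = 1 := by rw [map_pow, ← hτ, pow_orderOf_eq_one]
  have hf5 : (f : G) ^ 5 ∈ core a :=
    mem_core_of_act hL hX h h4 hcA D ha ha1 (hoddH _ (pow_mem hfH 5)) h5
  refine ⟨hf5, fun c hc => ?_⟩
  obtain ⟨k, hk, m, rfl⟩ := exists_core_mul hL hX h h4 hcA D ha ha1 hc
  obtain ⟨s, y, hy, hm⟩ := hsplit m
  obtain ⟨l, hl⟩ : ∃ l : ℕ, act S A f ^ l = act S A y := by
    refine Submonoid.mem_powers_iff _ _ |>.1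
      ((isOfFinOrder_of_finite _).mem_powers_iff_mem_zpowers.2 ?_)
    have h1 : zpowers (act S A f) = R :=
      eq_of_le_of_card_ge (zpowers_le.2 (mem_map_of_mem _ hfH))
        (by rw [Nat.card_zpowers, hτ, hR])
    exact h1.ge (mem_map_of_mem _ hy)
  have hlmod : act S A f ^ (l % 5) = act S A y := by rw [← hl, ← hτ, pow_mod_orderOf]
  have hy' : act S A (y * (f ^ (l % 5))⁻¹) = 1 := by
    rw [map_mul, map_inv, map_pow, hlmod, mul_inv_cancel]
  have hz := mem_core_of_act hL hX h h4 hcA D ha ha1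
    (hoddH _ (mul_mem hy (inv_mem (pow_mem hfH _)))) hy'
  have hsC : (s : G) ∈ centralizer ({a} : Set G) :=
    centralizer_le (Set.singleton_subset_iff.2 ha) (Structure.sylow_le_centralizer hcA s.2)
  have hsz : (s : G) * ((y * (f ^ (l % 5))⁻¹ : ↥(nc S A)) : G) * (s : G)⁻¹ ∈ core a :=
    (mem_normalizer_iff.1 (Walter.centralizer_le_normalizer_core a hsC) _).1 hz
  refine ⟨k * ((s : G) * ((y * (f ^ (l % 5))⁻¹ : ↥(nc S A)) : G) * (s : G)⁻¹),
    mul_mem hk hsz, s, ⟨l % 5, Nat.mod_lt _ (by norm_num)⟩, ?_⟩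
  rw [hm]
  push_cast
  group

include h in
theorem normalizer_ne_top : normalizer ((S : Subgroup G) : Set G) ≠ ⊤ := by
  haveI : Fact (Nat.Prime 2) := ⟨Nat.prime_two⟩
  intro e
  haveI := h.simple
  rcases IsSimpleGroup.eq_bot_or_eq_top_of_normal (S : Subgroup G)
    (normalizer_eq_top_iff.1 e) with hb | ht
  · exact h.ne (le_bot_iff.1 (hb ▸ h.closed.1))
  · have hp : IsPGroup 2 G := fun g => by
      obtain ⟨k, hk⟩ := S.2 ⟨g, ht ▸ mem_top g⟩
      exact ⟨k, congrArg Subtype.val hk⟩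
    haveI : Nontrivial G := IsSimpleGroup.toNontrivial
    haveI := hp.center_nontrivial
    obtain ⟨⟨z, hz⟩, hz1⟩ := exists_ne (1 : ↥(center G))
    exact hz1 (Subtype.ext (mem_bot.1 (h.center_eq_bot ▸ hz)))

include hL hX h h4 hcA D in
/-- The odd core of `C(a)` is not trivial when the centralisers generate. -/
theorem core_ne_bot (htop : centSpan A = ⊤) {a : G} (ha : a ∈ A) (ha1 : a ≠ 1) :
    core a ≠ ⊥ := by
  intro hb
  have hCa : centralizer ({a} : Set G) ≤ normalizer ((S : Subgroup G) : Set G) := fun c hc => by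
    obtain ⟨k, hk, n, rfl⟩ := exists_core_mul hL hX h h4 hcA D ha ha1 hc
    rw [hb, mem_bot] at hk
    rw [hk, one_mul]
    exact n.2.2
  refine normalizer_ne_top h (top_le_iff.1 (htop ▸ iSup_le ?_))
  rintro ⟨t, htA, hto⟩
  obtain ⟨n, hn, hnt⟩ := Structure.fusion h h4 hcA D ha ha1 htA fun e => by
    rw [e, orderOf_one] at hto
    omega
  intro c hc
  have h1 : n⁻¹ * c * n ∈ centralizer ({a} : Set G) := mem_centralizer_singleton_iff.2 (by
    have hct : c * t = t * c := mem_centralizer_singleton_iff.1 hc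
    rw [← hnt] at hct
    calc n⁻¹ * c * n * a = n⁻¹ * (c * (n * a * n⁻¹)) * n := by group
      _ = n⁻¹ * (n * a * n⁻¹ * c) * n := by rw [hct]
      _ = a * (n⁻¹ * c * n) := by group)
  have h2 := mul_mem (mul_mem hn (hCa h1)) (inv_mem hn)
  simpa [mul_assoc] using h2

include h h4 hcA D in
/-- **The configuration.** -/
theorem exists_config {a' : ↥(S : Subgroup G)} (haA : (a' : G) ∈ A) (ha1 : (a' : G) ≠ 1)
    {f : ↥(nc S A)} (hford : ∃ n : ℕ, orderOf f = 5 ^ (n + 1)) (hτ : orderOf (act S A f) = 5)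
    (hsplit : (f : G) ^ 5 ∈ core (a' : G) ∧
      ∀ c ∈ centralizer ({(a' : G)} : Set G), ∃ k ∈ core (a' : G),
        ∃ (s : ↥(S : Subgroup G)) (i : Fin 5), c = k * (s : G) * (f : G) ^ (i : ℕ)) :
    ∃ x₀ : ↥(S : Subgroup G), Five.Config S a' x₀ (f : G) := by
  haveI : Fact (Nat.Prime 5) := ⟨Nat.prime_five⟩
  have htr := transitive h h4 hcA D
  have hzS := Structure.zS_eq h h4 hcA D
  have ha'c : a' ∈ center ↥(S : Subgroup G) := mem_center_iff.2 fun s =>
    Subtype.ext (hcA s s.2 a' haA)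
  have ha'1 : a' ≠ 1 := fun e => ha1 (congrArg Subtype.val e)
  obtain ⟨⟨x₀, hx₀⟩⟩ : Nonempty (Local74.Fib a') := by
    refine (Nat.card_pos_iff.1 ?_).1
    rw [Local74.card_fib D htr ha'c ha'1]
    norm_num
  set τ := act S A f with hτdef
  have hτfix : ∀ z ∈ center ↥(S : Subgroup G), τ z = z := fun z hz => act_fix h h4 hcA D f hz
  have hmemA : ∀ {z : ↥(S : Subgroup G)}, z ∈ center ↥(S : Subgroup G) → (z : G) ∈ A :=
    fun {z} hz => hzS.le ⟨z, hz, rfl⟩
  have hSC : (S : Subgroup G) ≤ centralizer ({(a' : G)} : Set G) :=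
    (Structure.sylow_le_centralizer hcA).trans (centralizer_le (Set.singleton_subset_iff.2 haA))
  have hfC : (f : G) ∈ centralizer ({(a' : G)} : Set G) :=
    centralizer_le (Set.singleton_subset_iff.2 haA) f.2.1
  have hfus : ∀ v ∈ A, v ≠ 1 →
      ∃ n ∈ normalizer ((S : Subgroup G) : Set G), n * (a' : G) * n⁻¹ = v :=
    fun v hv hv1 => Structure.fusion h h4 hcA D haA ha1 hv hv1
  refine ⟨x₀,
    { card := D.card
      card_center := D.card_center
      sq := D.sq
      invol := D.invol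
      center_sq := D.center_sq
      card_cent := fun x hx => card_cent D hx
      a_mem := ha'c
      a_ne := ha'1
      x₀_sq := hx₀
      conj := fun x hx => ?_
      conj_center := fun z hz hz1 => ?_
      f_ord := ?_
      f_five := hsplit.1
      f_norm := f.2.2
      f_center := fun z hz => (mem_centralizer_iff.1 f.2.1 _ (hmemA hz)).symm
      f_fix := fun s hs => ?_
      split := hsplit.2
      psolv := psolv hSC hfC f.2.2 hsplit.2 }⟩
  · have hv1 : x * x ≠ 1 := fun e => hx (D.invol x e)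
    obtain ⟨n, hn, hna⟩ := hfus _ (hmemA (D.sq x)) fun e => hv1 (Subtype.ext e)
    have hy : n⁻¹ * (x : G) * n ∈ (S : Subgroup G) := (mem_normalizer_iff''.1 hn _).1 x.2
    have hy2 : (⟨_, hy⟩ : ↥(S : Subgroup G)) * ⟨_, hy⟩ = a' := Subtype.ext (by
      show n⁻¹ * (x : G) * n * (n⁻¹ * x * n) = (a' : G)
      calc n⁻¹ * (x : G) * n * (n⁻¹ * x * n)
          = n⁻¹ * ((x * x : ↥(S : Subgroup G)) : G) * n := by push_cast; group
        _ = n⁻¹ * (n * a' * n⁻¹) * n := by rw [hna]
        _ = a' := by group)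
    obtain ⟨i, z, hz, e⟩ := exists_orbit h h4 hcA D hτ hτfix ha'c ha'1 hx₀ hy2
    have h1 : IsConj (x₀ : G) (((τ ^ i) x₀ : ↥(S : Subgroup G)) : G) :=
      isConj_iff.2 ⟨(f : G) ^ i, by
        rw [hτdef, ← map_pow, Local74.conjHom_apply]
        rfl⟩
    have hnc : (τ ^ i) x₀ ∉ center ↥(S : Subgroup G) := fun hc => ha'1 (by
      have h2 := D.center_sq _ hc
      rw [← map_mul, hx₀] at h2
      exact (MulEquiv.map_eq_one_iff _).1 h2)
    have h3 := h1.trans (coset_conj D hnc hz)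
    rw [← e] at h3
    exact h3.trans (isConj_iff.2 ⟨n, by simp only; group⟩)
  · obtain ⟨n, -, hna⟩ := hfus _ (hmemA hz) fun e => hz1 (Subtype.ext e)
    exact isConj_iff.2 ⟨n, hna⟩
  · obtain ⟨n, hn⟩ := hford
    exact ⟨n, by rwa [Subgroup.orderOf_coe]⟩
  · by_contra hsc
    have h1 := Local74.eq_one_of_fixed (p := 5) D (by norm_num) htr
      (τ := τ) (by rw [← hτ, pow_orderOf_eq_one]) hτfix hsc (Subtype.ext (by
        rw [hτdef, Local74.conjHom_apply, hs, mul_inv_cancel_right]))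
    rw [h1, orderOf_one] at hτ
    omega

end Cfsg.Agent.Lib.Goldschmidt53.RankTwoMin.Config
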