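import Cfsg.Agent.Lib.Goldschmidt53.RankTwoMin.Setup
import Cfsg.Agent.Lib.PiHomog3258.Five.Values
import Cfsg.Agent.Lib.PSolvable.Basic
import Cfsg.Agent.Lib.Induced.Character
import Mathlib.GroupTheory.SemidirectProduct

/-!
# Rank two, all involutions central: the degree congruences

An odd subgroup `U` normalised by `S` meets centralisers of elements of `S#` inside their cores, so
a character of the principal block is constant on the cosets `s U`, `s ≠ 1`.
-/

set_option autoImplicit false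
set_option linter.style.haveILetI false
set_option linter.unusedSectionVars false

universe u

namespace Cfsg.Agent.Lib.Goldschmidt53.RankTwoMin

open Subgroup Cfsg.Agent.Lib.Characters.Basic
open Cfsg.Agent.Lib.Walter (core coreC)
open Cfsg.Agent.Lib.PiHomog3258
open Cfsg.Agent.Lib.U34Type98
open scoped ComplexConjugate

attribute [local instance] Classical.propDecidable

variable {G : Type u} [Group G] [Finite G]

/-- Every element of `s U` is conjugate under `U` to some `s k` with `k ∈ C_U(s)`. -/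
theorem exists_conj_coset {U : Subgroup G} (hU : Odd (Nat.card ↥U)) {s : G}
    (hs : ∃ j, orderOf s = 2 ^ j) (hn : s ∈ normalizer (U : Set G)) {u : G} (hu : u ∈ U) :
    ∃ v ∈ U, ∃ k ∈ U, k * s = s * k ∧ s * u = v * (s * k) * v⁻¹ := by
  obtain ⟨j, hj⟩ := hs
  set C := (centralizer ({s} : Set G)).subgroupOf U
  have hC : ∀ k : ↥C, (k : ↥U).1 * s = s * (k : ↥U).1 := fun k =>
    mem_centralizer_singleton_iff.1 (mem_subgroupOf.1 k.2)
  obtain ⟨m, hm1, hm0⟩ := Nat.chineseRemainder (show (orderOf s).Coprime (Nat.card ↥U) by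
    rw [hj]
    exact ((Nat.prime_two.coprime_iff_not_dvd).2 fun h => Nat.not_odd_iff_even.2
      (even_iff_two_dvd.2 h) hU).pow_left j) 1 0
  have hpow : ∀ k : ↥C, (s * (k : ↥U).1) ^ m = s := fun k => by
    have h1 : (k : ↥U).1 ^ m = 1 := orderOf_dvd_iff_pow_eq_one.1
      ((Subgroup.orderOf_dvd_natCard U (k : ↥U).2).trans (Nat.modEq_zero_iff_dvd.1 hm0))
    rw [(show Commute s (k : ↥U).1 from (hC k).symm).mul_pow, h1, mul_one,
      pow_eq_pow_iff_modEq.2 hm1, pow_one]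
  let ψ : (↥U ⧸ C) × ↥C → ↥U := fun p =>
    ⟨s⁻¹ * (p.1.out : G) * s * (p.2 : ↥U).1 * (p.1.out : G)⁻¹,
      mul_mem (mul_mem ((mem_normalizer_iff''.1 hn _).1 p.1.out.2) (p.2 : ↥U).2)
        (inv_mem p.1.out.2)⟩
  have hψ : ∀ p, s * (ψ p : G) = (p.1.out : G) * (s * (p.2 : ↥U).1) * (p.1.out : G)⁻¹ := fun p =>
    by show s * (s⁻¹ * (p.1.out : G) * s * (p.2 : ↥U).1 * (p.1.out : G)⁻¹) = _; group
  have hinj : Function.Injective ψ := by
    rintro ⟨q, k⟩ ⟨q', k'⟩ he
    have h1 := (hψ (q, k)).symm.trans ((congrArg (fun x : ↥U => s * (x : G)) he).trans (hψ (q', k')))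
    have h2 := congrArg (· ^ m) h1
    simp only [conj_pow, hpow] at h2
    have hq : q = q' := by
      rw [← QuotientGroup.out_eq' q, ← QuotientGroup.out_eq' q', QuotientGroup.eq, mem_subgroupOf,
        mem_centralizer_singleton_iff]
      push_cast
      calc (q.out : G)⁻¹ * q'.out * s = (q.out : G)⁻¹ * ((q'.out : G) * s * (q'.out : G)⁻¹) *
            q'.out := by group
        _ = (q.out : G)⁻¹ * ((q.out : G) * s * (q.out : G)⁻¹) * q'.out := by rw [h2]
        _ = _ := by group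
    subst hq
    simp only [mul_left_inj, mul_right_inj] at h1
    exact Prod.ext rfl (Subtype.ext (Subtype.ext h1))
  obtain ⟨p, hp⟩ := ((Nat.bijective_iff_injective_and_card ψ).2
    ⟨hinj, by rw [Nat.card_prod]; exact (card_eq_card_quotient_mul_card_subgroup C).symm⟩).2 ⟨u, hu⟩
  refine ⟨p.1.out, p.1.out.2, (p.2 : ↥U).1, (p.2 : ↥U).2, hC p.2, ?_⟩
  rw [← hψ, hp]

namespace Data

variable {S : Sylow 2 G} {A : Subgroup G} {a x₀ : ↥(S : Subgroup G)} {f g : G}
variable (D : Data S A a x₀ f g) {M : Ideal Cfsg.AlgInt} (hM : Cfsg.IsPModular 2 M)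
include D

/-- The principal block of `C(s)` consists of the characters trivial on the core. -/
theorem cover_at (hM : Cfsg.IsPModular 2 M) {s : ↥(S : Subgroup G)} (hs : s ≠ 1) :
    Five.Sect.Cover M (s : G) (core (s : G)) := by
  haveI : Fact (Nat.Prime 2) := ⟨Nat.prime_two⟩
  obtain ⟨v, hv, hv1, hle⟩ := D.exists_root hs
  exact Five.Sect.cover_core hM (s : G) (PSolvable.isPSolvable_of_injective (Subgroup.inclusion hle)
    (Subgroup.inclusion_injective hle) (D.psolv v hv hv1))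

include hM in
/-- The values on `s O(C(s))`. -/
theorem apply_core {s : ↥(S : Subgroup G)} (hs : s ≠ 1) {k : G} (hk : k ∈ core (s : G))
    {χ : Cfsg.IrrCharacter G} (hχ : χ ∈ Section.blk G M) :
    (χ : G → ℂ) ((s : G) * k) = (χ : G → ℂ) s := by
  haveI : Fact (Nat.Prime 2) := ⟨Nat.prime_two⟩
  letI := Fintype.ofFinite ↥(core (s : G))
  obtain ⟨j, hj⟩ := IsPGroup.iff_orderOf.1 S.isPGroup' s
  rw [← Subgroup.orderOf_coe] at hj
  have hpart : ∀ k ∈ core (s : G), Cfsg.IsPPart 2 ((s : G) * k) (s : G) := fun k hk =>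
    ⟨k, rfl, (mem_centralizer_singleton_iff.1 ((D.cover_at hM hs).2.1 hk)).symm, ⟨j, hj⟩,
      fun h => Nat.not_odd_iff_even.2 (even_iff_two_dvd.2 h)
        ((Walter.odd_core (s : G)).of_dvd_nat (Subgroup.orderOf_dvd_natCard _ hk))⟩
  have h1 := (D.cover_at hM hs).sum_apply hM (hpart k hk) χ
  have h2 := (D.cover_at hM hs).sum_apply hM (g := (s : G)) (z := (s : G))
    (by simpa using hpart 1 (one_mem _)) χ
  rw [if_pos ((Section.mem_blk M).1 hχ)] at h1 h2
  have h3 : ∑ k' : ↥(core (s : G)), (χ : G → ℂ) ((s : G) * k * k') =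
      ∑ k' : ↥(core (s : G)), (χ : G → ℂ) ((s : G) * k') :=
    Fintype.sum_equiv (Equiv.mulLeft (⟨k, hk⟩ : ↥(core (s : G)))) _ _ fun k' => by
      simp [mul_assoc]
  rw [h1, h2] at h3
  exact mul_left_cancel₀ (Nat.cast_ne_zero.2 Nat.card_pos.ne') h3

include hM in
/-- The values on `s U`. -/
theorem apply_coset {U : Subgroup G} (hU : Odd (Nat.card ↥U))
    (hS : (S : Subgroup G) ≤ normalizer (U : Set G)) {s : ↥(S : Subgroup G)} (hs : s ≠ 1) {u : G}
    (hu : u ∈ U) {χ : Cfsg.IrrCharacter G} (hχ : χ ∈ Section.blk G M) :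
    (χ : G → ℂ) ((s : G) * u) = (χ : G → ℂ) s := by
  haveI : Fact (Nat.Prime 2) := ⟨Nat.prime_two⟩
  obtain ⟨j, hj⟩ := IsPGroup.iff_orderOf.1 S.isPGroup' s
  obtain ⟨v, -, k, hk, hks, he⟩ :=
    exists_conj_coset hU ⟨j, by rw [Subgroup.orderOf_coe, hj]⟩ (hS s.2) hu
  rw [he, isClassFunction_irr χ ((s : G) * k) v]
  exact D.apply_core hM hs (D.centralizer_le_core hU hS hs hk hks) hχ

/-- The sum of the values on `S`. -/
theorem sum_sylow [Fintype ↥(S : Subgroup G)] {χ : Cfsg.IrrCharacter G} {VA VW : ℤ}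
    (hA : (χ : G → ℂ) a = VA) (hW : (χ : G → ℂ) x₀ = VW) :
    ∑ s : ↥(S : Subgroup G), (χ : G → ℂ) s = (χ : G → ℂ) 1 + 3 * (VA : ℂ) + 60 * (VW : ℂ) := by
  have hval : ∀ {x y : G}, IsConj x y → (χ : G → ℂ) y = (χ : G → ℂ) x := fun {x y} h => by
    obtain ⟨c, rfl⟩ := isConj_iff.1 h
    exact isClassFunction_irr χ x c
  set Z := Finset.univ.filter fun w : ↥(S : Subgroup G) => w ∈ center ↥(S : Subgroup G)
  have hZ : Z.card = 4 := by
    rw [← D.cfg.card_center, ← Fintype.card_subtype, ← Nat.card_eq_fintype_card]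
  have h1 : (1 : ↥(S : Subgroup G)) ∈ Z :=
    Finset.mem_filter.2 ⟨Finset.mem_univ _, one_mem _⟩
  rw [← Finset.sum_sdiff (Finset.subset_univ Z), ← Finset.add_sum_erase Z _ h1,
    Finset.sum_congr rfl fun x hx => (hval (D.cfg.conj x fun h =>
      (Finset.mem_sdiff.1 hx).2 (Finset.mem_filter.2 ⟨Finset.mem_univ _, h⟩))).trans hW,
    Finset.sum_congr rfl fun z hz => (hval (D.cfg.conj_center z
      (Finset.mem_filter.1 (Finset.mem_erase.1 hz).2).2 (Finset.mem_erase.1 hz).1)).trans hA,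
    Finset.sum_const, Finset.sum_const, Finset.card_univ_diff, Finset.card_erase_of_mem h1, hZ,
    ← Nat.card_eq_fintype_card, D.cfg.card]
  simp
  ring

end Data

/-- `U` is in the kernel if the fixed space has full dimension. -/
theorem lt_degree [IsSimpleGroup G] {χ : Cfsg.IrrCharacter G} (h1 : χ ≠ oneChar G) {U : Subgroup G}
    [Fintype ↥U] (hU : U ≠ ⊥) {n d : ℕ} (hn : (χ : G → ℂ) 1 = n)
    (hd : ∑ k : ↥U, (χ : G → ℂ) k = (Nat.card ↥U : ℂ) * d) : d < n := by
  letI := Fintype.ofFinite G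
  by_contra hle
  push Not at hle
  have hnorm : ∀ x : G, ‖(χ : G → ℂ) x‖ ≤ (n : ℝ) := fun x => by
    simpa [hn] using norm_apply_le (isCharacter_irr χ) x
  have hre : ∀ k : ↥U, ((χ : G → ℂ) k).re = (n : ℝ) := by
    have h2 : ∑ k : ↥U, ((n : ℝ) - ((χ : G → ℂ) k).re) ≤ 0 := by
      rw [Finset.sum_sub_distrib, ← Complex.re_sum, hd, Finset.sum_const, Finset.card_univ,
        ← Nat.card_eq_fintype_card, nsmul_eq_mul]
      have : (n : ℝ) ≤ (d : ℝ) := Nat.cast_le.2 hle
      simp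
      nlinarith [(Nat.cast_nonneg (Nat.card ↥U) : (0 : ℝ) ≤ _)]
    have hnn : ∀ k ∈ (Finset.univ : Finset ↥U), 0 ≤ (n : ℝ) - ((χ : G → ℂ) k).re :=
      fun k _ => sub_nonneg.2 ((Complex.re_le_norm _).trans (hnorm k))
    have h3 := (Finset.sum_eq_zero_iff_of_nonneg hnn).1 (le_antisymm h2 (Finset.sum_nonneg hnn))
    exact fun k => (sub_eq_zero.1 (h3 k (Finset.mem_univ k))).symm
  have heq : ∀ k : ↥U, (χ : G → ℂ) k = (χ : G → ℂ) 1 := fun k => by
    have h2 : ‖(χ : G → ℂ) k‖ ^ 2 ≤ (n : ℝ) ^ 2 :=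
      pow_le_pow_left₀ (norm_nonneg _) (hnorm k) 2
    rw [← Complex.normSq_eq_norm_sq, Complex.normSq_apply, hre k] at h2
    have him : ((χ : G → ℂ) k).im = 0 :=
      mul_self_eq_zero.1 (le_antisymm (by nlinarith) (mul_self_nonneg _))
    rw [hn]
    exact Complex.ext (by simp [hre k]) (by simp [him])
  obtain ⟨g, hg⟩ : ∃ g : G, (χ : G → ℂ) g ≠ (χ : G → ℂ) 1 := by
    by_contra htriv
    push Not at htriv
    refine h1 (Subtype.ext (funext fun g => ?_))
    have hconst : ∀ g : G, (χ : G → ℂ) g = (n : ℂ) := fun g => (htriv g).trans hn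
    have hs := classInner_self_irr χ
    rw [Cfsg.classInner] at hs
    simp only [hconst, Finset.sum_const, Finset.card_univ, ← Nat.card_eq_fintype_card,
      nsmul_eq_mul, Complex.conj_natCast, ← mul_assoc, inv_mul_cancel₀
        (Nat.cast_ne_zero.2 (Nat.card_pos (α := G)).ne' : (Nat.card G : ℂ) ≠ 0), one_mul] at hs
    rw [hconst, oneChar_apply]
    have : n * n = 1 := by exact_mod_cast hs
    simp [Nat.eq_one_of_mul_eq_one_right this]
  obtain ⟨l, hlU, hl1⟩ := (U.bot_or_exists_ne_one).resolve_left hU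
  have hmem : l ∈ Characters.Kernel.charKer (isCharacter_irr χ) := by
    rw [Characters.Kernel.mem_charKer]; exact heq ⟨l, hlU⟩
  rw [Characters.Kernel.charKer_eq_bot_of_simple (isCharacter_irr χ) hg, Subgroup.mem_bot] at hmem
  exact hl1 hmem

/-- The trivial character has integer multiplicity. -/
theorem exists_sum_eq {X : Type u} [Group X] [Finite X] [Fintype X] (φ : X →* G)
    (χ : Cfsg.IrrCharacter G) :
    ∃ t : ℕ, ∑ x : X, (χ : G → ℂ) (φ x) = (Nat.card X : ℂ) * t := by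
  obtain ⟨t, ht⟩ := exists_classInner_nat (isCharacter_comp φ (isCharacter_irr χ))
    (Induced.Character.isCharacter_hom (1 : X →* ℂˣ))
  rw [Cfsg.classInner, inv_mul_eq_iff_eq_mul₀ (Nat.cast_ne_zero.2 Nat.card_pos.ne')] at ht
  exact ⟨t, by simpa using ht⟩

/-- **The degree congruences.** -/
theorem degree : PropDegree.{u} := by
  intro G _ _ S A a x₀ f g D M hM χ hχ U hU hodd hSU _ VA VW hA hW
  haveI := D.hyp.simple
  obtain ⟨hχ1, hχB⟩ := Finset.mem_erase.1 hχ
  letI := Fintype.ofFinite ↥(S : Subgroup G)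
  obtain ⟨n, -, hn⟩ := exists_degree_pos χ
  obtain ⟨d, hd⟩ := exists_sum_eq U.subtype χ
  simp only [Subgroup.coe_subtype] at hd
  obtain ⟨t', ht'⟩ := exists_sum_eq (S : Subgroup G).subtype χ
  simp only [Subgroup.coe_subtype, D.sum_sylow hA hW, D.cfg.card, hn] at ht'
  let act : ↥(S : Subgroup G) →* MulAut ↥U :=
    (U.normalizerMonoidHom).comp (Subgroup.inclusion hSU)
  let ι : (↥U ⋊[act] ↥(S : Subgroup G)) →* G :=
    SemidirectProduct.lift U.subtype (S : Subgroup G).subtype fun s => MonoidHom.ext fun u => rfl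
  let e := SemidirectProduct.equivProd (φ := act)
  letI : Fintype (↥U ⋊[act] ↥(S : Subgroup G)) := Fintype.ofEquiv _ e.symm
  haveI : Finite (↥U ⋊[act] ↥(S : Subgroup G)) := Finite.of_equiv _ e.symm
  obtain ⟨t, ht⟩ := exists_sum_eq ι χ
  rw [Fintype.sum_equiv e (fun x => (χ : G → ℂ) (ι x))
      (fun p : ↥U × ↥(S : Subgroup G) => (χ : G → ℂ) ((p.1 : G) * p.2)) (fun x => rfl),
    Fintype.sum_prod_type_right,
    show Nat.card (↥U ⋊[act] ↥(S : Subgroup G)) = Nat.card ↥U * 64 by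
      rw [Nat.card_congr e, Nat.card_prod, D.cfg.card]] at ht
  have hin : ∀ s : ↥(S : Subgroup G), ∑ u : ↥U, (χ : G → ℂ) ((u : G) * s) =
      (Nat.card ↥U : ℂ) * (χ : G → ℂ) s +
        if s = 1 then (Nat.card ↥U : ℂ) * d - (Nat.card ↥U : ℂ) * n else 0 := by
    intro s
    by_cases hs : s = 1
    · subst hs
      simp [hd, hn]
    rw [if_neg hs, add_zero, Nat.card_eq_fintype_card]
    refine (Finset.sum_congr rfl fun u _ => ?_).trans (by
      rw [Finset.sum_const, Finset.card_univ, nsmul_eq_mul])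
    rw [show (u : G) * s = (s : G) * ((s : G)⁻¹ * u * s) by group]
    exact D.apply_coset hM hodd hSU hs ((mem_normalizer_iff''.1 (hSU s.2) _).1 u.2) hχB
  rw [Finset.sum_congr rfl fun s _ => hin s, Finset.sum_add_distrib, ← Finset.mul_sum,
    D.sum_sylow hA hW, hn, Finset.sum_ite_eq', if_pos (Finset.mem_univ _)] at ht
  have h64 : (d : ℤ) + 3 * VA + 60 * VW = 64 * t := by
    have h : (Nat.card ↥U : ℂ) * ((d : ℂ) + 3 * VA + 60 * VW) =
        (Nat.card ↥U : ℂ) * (64 * t) := by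
      push_cast at ht
      linear_combination ht
    exact_mod_cast mul_left_cancel₀ (Nat.cast_ne_zero.2 Nat.card_pos.ne') h
  have h64' : (n : ℤ) + 3 * VA + 60 * VW = 64 * t' := by
    push_cast at ht'
    exact_mod_cast ht'
  have hlt := lt_degree hχ1 hU hn hd
  refine ⟨n, d, t' - t, hn, hd, by omega, by omega, ⟨t, by omega⟩, ?_⟩
  rw [Arith.dmin]
  split_ifs <;> omega

end Cfsg.Agent.Lib.Goldschmidt53.RankTwoMin
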