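import Cfsg.Agent.Lib.Goldschmidt53.RankTwoCentralizer
import Cfsg.Agent.Lib.Goldschmidt53.NoCover.Cover
import Cfsg.Agent.Lib.PiHomog3258.Local74.Core
import Cfsg.Agent.Lib.PiHomog3258.Local74.Type64
import Cfsg.Agent.Lib.U3Type59.Closed
import Cfsg.Agent.Lib.FStarTools.Basic
import Cfsg.Agent.Lib.Transfer.Hall

/-!
# Rank two, all involutions in `A`: the structure of `S` and `C(A)`

`S` has the type of a Sylow 2-subgroup of `U₃(4)` with centre `A`, `N(S)` is transitive on `A#` and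
`C(A)` has a normal Sylow 2-subgroup modulo its odd core.
-/

set_option autoImplicit false
set_option linter.style.haveILetI false
set_option linter.unusedSectionVars false

universe u

namespace Cfsg.Agent.Lib.Goldschmidt53.RankTwoMin.Structure

open Subgroup
open Cfsg.Agent.Lib.Walter (CBar coreC core proj imageBar)
open Cfsg.Agent.Lib.PiHomog3258

/-- A Sylow 2-subgroup with squares and commutators in a central four-group is normal. -/
theorem sylow_normal (hL : PropFacts.{u}) {X : Type u} [Group X] [Finite X]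
    (hO : Cfsg.oddCore X = ⊥) {m : ℕ} (hm : Nat.card X < m) (hB : Below.{u} m) (T : Sylow 2 X)
    (A : Subgroup X) (hAT : A ≤ (T : Subgroup X)) (hAc : A ≤ center X)
    (hA2 : ∀ z ∈ A, z * z = 1)
    (hsq : ∀ x ∈ (T : Subgroup X), x * x ∈ A)
    (hcomm : ∀ x ∈ (T : Subgroup X), ∀ y ∈ (T : Subgroup X), x * y * x⁻¹ * y⁻¹ ∈ A)
    (hnd : ∀ x ∈ (T : Subgroup X), x ∉ A → ∀ z ∈ A, ∃ t ∈ (T : Subgroup X),
      x * t * x⁻¹ * t⁻¹ = z)
    (hncyc : ∀ z : X, ¬ A ≤ zpowers z) :
    (T : Subgroup X).Normal := by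
  haveI : Fact (Nat.Prime 2) := ⟨Nat.prime_two⟩
  set Q := Cfsg.pCore 2 X with hQdef
  have hAQ : A ≤ Q := by
    haveI : A.Normal := ⟨fun z hz g => by
      rwa [mem_center_iff.1 (hAc hz) g, mul_inv_cancel_right]⟩
    exact Cores.le_pCore (T.2.to_le hAT)
  by_cases hlay : Cfsg.layer X = ⊥
  · -- the stabiliser of the chain `1 ≤ A ≤ Q` is a 2-group
    have hfit : Cfsg.fittingSubgroup X = Q := FStarTools.fitting_eq_pCore hO
    have hC : centralizer (Q : Set X) ≤ Q := by
      rw [← hfit]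
      exact FStarTools.centralizer_fitting_le_iff.2 hlay
    let K₀ : Subgroup X :=
      { carrier := {g | ∀ q ∈ Q, ∃ c ∈ A, g * q * g⁻¹ = c * q}
        one_mem' := fun q _ => ⟨1, one_mem _, by group⟩
        mul_mem' := fun {g g'} hg hg' q hq => by
          obtain ⟨c', hc', e'⟩ := hg' q hq
          obtain ⟨c, hc, e⟩ := hg q hq
          refine ⟨c' * c, mul_mem hc' hc, ?_⟩
          calc g * g' * q * (g * g')⁻¹ = g * (g' * q * g'⁻¹) * g⁻¹ := by group
            _ = g * c' * q * g⁻¹ := by rw [e']; group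
            _ = c' * g * q * g⁻¹ := by rw [mem_center_iff.1 (hAc hc') g]
            _ = c' * (g * q * g⁻¹) := by group
            _ = c' * c * q := by rw [e, mul_assoc]
        inv_mem' := fun {g} hg q hq => by
          obtain ⟨c, hc, e⟩ := hg q hq
          refine ⟨c⁻¹, inv_mem hc, ?_⟩
          calc g⁻¹ * q * g⁻¹⁻¹ = g⁻¹ * (c⁻¹ * (c * q)) * g := by group
            _ = g⁻¹ * c⁻¹ * (g * q * g⁻¹) * g := by rw [← e]; group
            _ = c⁻¹ * g⁻¹ * (g * q * g⁻¹) * g := by rw [mem_center_iff.1 (inv_mem (hAc hc)) g⁻¹]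
            _ = c⁻¹ * q := by group }
    haveI hK₀ : K₀.Normal := ⟨fun g hg y q hq => by
      obtain ⟨c, hc, e⟩ := hg (y⁻¹ * q * y)
        ((Cfsg.pCore_normal 2 X).conj_mem' q hq y)
      refine ⟨c, hc, ?_⟩
      calc y * g * y⁻¹ * q * (y * g * y⁻¹)⁻¹ = y * (g * (y⁻¹ * q * y) * g⁻¹) * y⁻¹ := by group
        _ = y * c * y⁻¹ * q := by rw [e]; group
        _ = c * q := by rw [mem_center_iff.1 (hAc hc) y, mul_inv_cancel_right]⟩
    have hQ2 : IsPGroup 2 ↥Q := Cores.pCore_isPGroup 2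
    have hK₀2 : IsPGroup 2 ↥K₀ := by
      rintro ⟨g, hg⟩
      have hg2 : g * g ∈ Q := hC (mem_centralizer_iff.2 fun q hq => by
        obtain ⟨c, hc, e⟩ := hg q hq
        have e2 : g * g * q * (g * g)⁻¹ = q := by
          calc g * g * q * (g * g)⁻¹ = g * (g * q * g⁻¹) * g⁻¹ := by group
            _ = g * c * q * g⁻¹ := by rw [e]; group
            _ = c * g * q * g⁻¹ := by rw [mem_center_iff.1 (hAc hc) g]
            _ = c * (g * q * g⁻¹) := by group
            _ = q := by rw [e, ← mul_assoc, hA2 c hc, one_mul]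
        exact (mul_inv_eq_iff_eq_mul.1 e2).symm)
      obtain ⟨j, hj⟩ := hQ2 ⟨g * g, hg2⟩
      have hj' : (g * g) ^ 2 ^ j = 1 := congrArg Subtype.val hj
      exact ⟨j + 1, Subtype.ext (by
        show g ^ 2 ^ (j + 1) = 1
        rw [pow_succ', pow_mul, pow_two, hj'])⟩
    have hTK₀ : (T : Subgroup X) ≤ K₀ := fun t ht q hq =>
      ⟨t * q * t⁻¹ * q⁻¹, hcomm t ht q (Cores.pCore_le_sylow T hq), by group⟩
    have hle : (T : Subgroup X) ≤ Q := hTK₀.trans (Cores.le_pCore hK₀2)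
    rw [le_antisymm hle (Cores.pCore_le_sylow T)]
    exact Cfsg.pCore_normal 2 X
  · exfalso
    obtain ⟨K, hK⟩ := Components.Layer.layer_ne_bot_iff.1 hlay
    obtain ⟨R, hR⟩ := Walter.Pairs.exists_sylow_subnormal T hK.1
    have hmemR : ∀ {k : ↥K}, k ∈ (R : Subgroup ↥K) ↔ (k : X) ∈ (T : Subgroup X) := fun {k} => by
      rw [hR, mem_subgroupOf]
    haveI := hK.2.1
    haveI hsimple := hK.2.2
    have htr : ∀ r ∈ (R : Subgroup ↥K), r ∈ center ↥K →
        r ∈ ⁅(R : Subgroup ↥K), (R : Subgroup ↥K)⁆ := fun r hr hrc =>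
      Transfer.Hall.mem_commutator_of_mem_center (R : Subgroup ↥K)
        (R.card_coprime_index.symm.coprime_dvd_right (Subgroup.relIndex_dvd_card _ _)) hr
        (Group.IsPerfect.commutator_eq_top (G := ↥K) ▸ mem_top r) hrc
    have hRA : ⁅(R : Subgroup ↥K), (R : Subgroup ↥K)⁆ ≤ A.subgroupOf K :=
      commutator_le.2 fun x hx y hy => mem_subgroupOf.2 (by
        rw [commutatorElement_def]
        exact hcomm x (hmemR.1 hx) y (hmemR.1 hy))
    have hM : ∀ r ∈ (R : Subgroup ↥K), r ∈ center ↥K → (r : X) ∈ A := fun r hr hrc =>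
      mem_subgroupOf.1 (hRA (htr r hr hrc))
    have hAK : ∀ r : ↥K, (r : X) ∈ A → r ∈ center ↥K := fun r hr =>
      mem_center_iff.2 fun k => Subtype.ext (mem_center_iff.1 (hAc hr) k)
    obtain ⟨x, hx, hxA⟩ : ∃ x ∈ (R : Subgroup ↥K), (x : X) ∉ A := by
      by_contra hall
      push Not at hall
      have hc : ⁅(R : Subgroup ↥K), (R : Subgroup ↥K)⁆ = ⊥ :=
        commutator_eq_bot_iff_le_centralizer.2 fun r hr => mem_centralizer_iff.2 fun k _ =>
          mem_center_iff.1 (hAK r (hall r hr)) k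
      have hbot : (R : Subgroup ↥K) = ⊥ := le_bot_iff.1 fun r hr => by
        rw [← hc]
        exact htr r hr (hAK r (hall r hr))
      have hodd : Odd (Nat.card ↥K) := Nat.not_even_iff_odd.1 fun he => by
        have := R.dvd_card_of_dvd_card (even_iff_two_dvd.1 he)
        rw [hbot, card_bot] at this
        omega
      exact Components.Quasisimple.not_isSolvable hK.2
        (OddOrder.FeitThompson.isSolvable_of_odd_card hodd)
    have hxc : x ∉ center ↥K := fun hc => hxA (hM x hx hc)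
    -- `T` normalises the component
    have hTK : (T : Subgroup X) ≤ normalizer (K : Set X) := by
      intro s hs
      refine mem_normalizer_iff_map_conj_eq.2 ?_
      by_contra hne
      have hK' : Cfsg.IsComponent (K.map (MulAut.conj s).toMonoidHom) :=
        Components.Component.map_equiv (MulAut.conj s) hK
      have h1 : s * (x : X) * s⁻¹ ∈ centralizer (K : Set X) :=
        Components.Component.le_centralizer_of_ne hK' hK hne (mem_map_of_mem _ x.2)
      have hc : s * (x : X) * s⁻¹ * (x : X)⁻¹ ∈ A := hcomm s hs x (hmemR.1 hx)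
      refine hxc (mem_center_iff.2 fun k => Subtype.ext ?_)
      have h2 := mem_centralizer_iff.1 h1 k k.2
      rw [show s * (x : X) * s⁻¹ = s * (x : X) * s⁻¹ * (x : X)⁻¹ * x by group] at h2
      refine mul_left_cancel (a := s * (x : X) * s⁻¹ * (x : X)⁻¹) ?_
      show _ * ((k : X) * x) = _ * ((x : X) * k)
      rw [← mul_assoc, ← mem_center_iff.1 (hAc hc) (k : X), mul_assoc, h2, mul_assoc]
    have hAle : A ≤ K := fun z hz => by
      obtain ⟨t, ht, rfl⟩ := hnd x (hmemR.1 hx) hxA z hz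
      have := mul_mem x.2 ((mem_normalizer_iff.1 (hTK ht) _).1 (inv_mem x.2))
      simpa [mul_assoc] using this
    -- involutions of the simple quotient
    set q := QuotientGroup.mk' (center ↥K) with hq
    have hnab : ¬ IsMulCommutative (↥K ⧸ center ↥K) := fun hc => by
      refine Components.Quasisimple.center_ne_top hK.2 (top_le_iff.1 ?_)
      rw [← Group.IsPerfect.commutator_eq_top (G := ↥K), _root_.commutator_def, commutator_le]
      intro u _ v _
      rw [← QuotientGroup.eq_one_iff, ← QuotientGroup.mk'_apply, map_commutatorElement,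
        commutatorElement_eq_one_iff_mul_comm]
      exact hc.is_comm.comm _ _
    have hR2 : ∀ r ∈ (R : Subgroup ↥K), (r : X) * r ∈ A := fun r hr => hsq _ (hmemR.1 hr)
    have hqord : ∀ r ∈ (R : Subgroup ↥K), (r : X) ∉ A → orderOf (q r) = 2 := fun r hr hrA => by
      refine orderOf_eq_prime ?_ fun e => hrA (hM r hr ((QuotientGroup.eq_one_iff r).1 e))
      rw [pow_two, ← map_mul]
      exact (QuotientGroup.eq_one_iff _).2 (hAK (r * r) (hR2 r hr))
    let P : Sylow 2 (↥K ⧸ center ↥K) :=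
      R.mapSurjective (QuotientGroup.mk'_surjective (center ↥K))
    have hP : (P : Subgroup (↥K ⧸ center ↥K)) = (R : Subgroup ↥K).map q :=
      Sylow.coe_mapSurjective _ _
    have hPne : (P : Subgroup (↥K ⧸ center ↥K)) ≠ ⊥ := fun hb => hxc <| by
      refine (QuotientGroup.eq_one_iff x).1 ?_
      have hm : q x ∈ (P : Subgroup (↥K ⧸ center ↥K)) := hP ▸ mem_map_of_mem q hx
      rwa [hb, mem_bot] at hm
    have hPel : Cfsg.IsElementaryAbelian 2 (P : Subgroup (↥K ⧸ center ↥K)) := by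
      refine ⟨⟨⟨fun u v => Subtype.ext ?_⟩⟩, fun u hu => ?_⟩
      · obtain ⟨r, hr, e⟩ := (le_of_eq hP) u.2
        obtain ⟨r', hr', e'⟩ := (le_of_eq hP) v.2
        show (u : ↥K ⧸ center ↥K) * v = v * u
        rw [← e, ← e', ← commutatorElement_eq_one_iff_mul_comm, ← map_commutatorElement]
        exact (QuotientGroup.eq_one_iff _).2 (hAK _ (mem_subgroupOf.1 (hRA
          (commutator_mem_commutator hr hr'))))
      · obtain ⟨r, hr, rfl⟩ := (le_of_eq hP) hu
        rw [pow_two, ← map_mul]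
        exact (QuotientGroup.eq_one_iff _).2 (hAK (r * r) (hR2 r hr))
    have hlt : Nat.card (↥K ⧸ center ↥K) < m :=
      lt_of_le_of_lt ((Nat.le_of_dvd Nat.card_pos (card_quotient_dvd_card _)).trans
        (card_le_card_group K)) hm
    have hkn := (hB _ hlt hsimple hnab P (P : Subgroup (↥K ⧸ center ↥K)) hPne hPel
      ⟨le_rfl, fun _ _ _ hg => hg⟩).1
    have hconst : ∀ y ∈ (R : Subgroup ↥K), (y : X) ∉ A → (y : X) * y = (x : X) * x := by
      intro y hy hyA
      obtain ⟨g, hg⟩ := isConj_iff.1 ((hL _ hkn).conj _ _ (hqord x hx hxA) (hqord y hy hyA))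
      obtain ⟨k, rfl⟩ := QuotientGroup.mk'_surjective (center ↥K) g
      set w := k * x * k⁻¹ with hw
      have hz : w⁻¹ * y ∈ center ↥K := by
        rw [← QuotientGroup.eq_one_iff, ← QuotientGroup.mk'_apply, map_mul, map_inv, ← hq, ← hg,
          hw, map_mul, map_mul, map_inv, inv_mul_cancel]
      have hzR : w⁻¹ * y ∈ (R : Subgroup ↥K) := hmemR.2
        (Cores.pCore_le_sylow T (NoCover.center_le_pCore hO hK (mem_map_of_mem K.subtype hz)))
      have hzA := hM _ hzR hz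
      have hz2 : w⁻¹ * y * (w⁻¹ * y) = 1 := Subtype.ext (hA2 _ hzA)
      have e : y * y = w * w * (w⁻¹ * y * (w⁻¹ * y)) := by
        conv_lhs => rw [← mul_inv_cancel_left w y]
        rw [show w * (w⁻¹ * y) * (w * (w⁻¹ * y)) = w * (w⁻¹ * y * w) * (w⁻¹ * y) by group,
          ← mem_center_iff.1 hz w]
        group
      rw [hz2, mul_one, show w * w = k * (x * x) * k⁻¹ by rw [hw]; group,
        mem_center_iff.1 (hAK (x * x) (hR2 x hx)) k, mul_inv_cancel_right] at e
      exact congrArg Subtype.val e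
    have hsqz : ∀ y ∈ (R : Subgroup ↥K), (y : X) * y ∈ zpowers ((x : X) * x) := fun y hy => by
      by_cases hyA : (y : X) ∈ A
      · rw [hA2 _ hyA]
        exact one_mem _
      · rw [hconst y hy hyA]
        exact mem_zpowers _
    refine hncyc ((x : X) * x) fun z hz => ?_
    have hzK : (⟨z, hAle hz⟩ : ↥K) ∈ ⁅(R : Subgroup ↥K), (R : Subgroup ↥K)⁆ :=
      htr _ (hmemR.2 (hAT hz)) (hAK _ hz)
    have hle : ⁅(R : Subgroup ↥K), (R : Subgroup ↥K)⁆ ≤
        (zpowers ((x : X) * x)).subgroupOf K := commutator_le.2 fun u hu v hv => mem_subgroupOf.2 (by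
      have := mul_mem (mul_mem (hsqz u hu) (hsqz (u⁻¹ * v) (mul_mem (inv_mem hu) hv)))
        (inv_mem (hsqz v hv))
      simpa [commutatorElement_def, mul_assoc] using this)
    exact mem_subgroupOf.1 (hle hzK)

variable {G : Type u} [Group G] [Finite G] {S : Sylow 2 G} {A : Subgroup G}

theorem pRankLE (h4 : Nat.card ↥A = 4)
    (hinv : ∀ x ∈ (S : Subgroup G), orderOf x = 2 → x ∈ A) : Cfsg.PRankLE 2 2 G := by
  haveI : Fact (Nat.Prime 2) := ⟨Nat.prime_two⟩
  intro E _ hE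
  have hp : IsPGroup 2 ↥E := fun x => ⟨1, Subtype.ext (hE x x.2)⟩
  obtain ⟨P, hP⟩ := hp.exists_le_sylow
  obtain ⟨m, hm⟩ := MulAction.exists_smul_eq G P S
  have hle : E.map (MulAut.conj m).toMonoidHom ≤ A := by
    rintro _ ⟨e, he, rfl⟩
    have hS : (MulAut.conj m).toMonoidHom e ∈ (S : Subgroup G) :=
      ZStar.Elements.smul_mem hm (hP he)
    by_cases h1 : (MulAut.conj m).toMonoidHom e = 1
    · rw [h1]
      exact one_mem _
    · exact hinv _ hS (orderOf_eq_prime (by rw [← map_pow, hE e he, map_one]) h1)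
  have := Nat.le_of_dvd Nat.card_pos (card_dvd_of_le hle)
  rw [card_map_of_injective (f := (MulAut.conj m).toMonoidHom) (MulAut.conj m).injective] at this
  omega

theorem exists_notMem_zpowers (h : Hyp S A) (h4 : Nat.card ↥A = 4) (z : G) :
    ¬ A ≤ zpowers z := fun hle => by
  haveI : Fact (Nat.Prime 2) := ⟨Nat.prime_two⟩
  obtain ⟨a, ha, hgen⟩ : ∃ a ∈ A, A ≤ zpowers a := by
    haveI : IsCyclic ↥A := isCyclic_of_le hle
    obtain ⟨g, hg⟩ := IsCyclic.exists_generator (α := ↥A)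
    exact ⟨g, g.2, fun x hx => by
      obtain ⟨k, hk⟩ := mem_zpowers_iff.1 (hg ⟨x, hx⟩)
      exact mem_zpowers_iff.2 ⟨k, by rw [← coe_zpow, hk]⟩⟩
  have h1 := Nat.le_of_dvd Nat.card_pos (card_dvd_of_le hgen)
  rw [Nat.card_zpowers] at h1
  have h2 := Nat.le_of_dvd (by norm_num) (orderOf_dvd_of_pow_eq_one (PGroups.elemAb_pow h.elem ha))
  omega

/-- `S` has the type of a Sylow 2-subgroup of `U₃(4)`. -/
theorem sixty (h : Hyp S A) (h4 : Nat.card ↥A = 4)
    (hle : A.subgroupOf (S : Subgroup G) ≤ commutator ↥(S : Subgroup G))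
    (hcA : ∀ s ∈ (S : Subgroup G), ∀ a ∈ A, s * a = a * s)
    (hinv : ∀ x ∈ (S : Subgroup G), orderOf x = 2 → x ∈ A) :
    Local74.Sixty4 ↥(S : Subgroup G) := by
  haveI : Fact (Nat.Prime 2) := ⟨Nat.prime_two⟩
  haveI := h.simple
  have hord : ∀ {v : G}, v ∈ A → v ≠ 1 → orderOf v = 2 := fun hv hv1 =>
    orderOf_eq_prime (PGroups.elemAb_pow h.elem hv) hv1
  obtain ⟨z, hz, hz1⟩ := A.bot_or_exists_ne_one.resolve_left h.ne
  obtain ⟨t, ht, htz⟩ := SetLike.not_le_iff_exists.1 (exists_notMem_zpowers h h4 z)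
  have ht1 : t ≠ 1 := fun e => htz (e ▸ one_mem _)
  refine (Local74.four_or_sixty4 h.nonabelian (pRankLE h4 hinv) S (h.closed.1 hz) (h.closed.1 ht)
    (hord hz hz1) (hord ht ht1) (fun e => htz (e ▸ mem_zpowers _))
    fun w hw hwo s hs => hcA s hs w (hinv w hw hwo)).resolve_left fun h4' => ?_
  have hAS : A = (S : Subgroup G) := eq_of_le_of_card_ge h.closed.1 (h4'.trans h4.symm).le
  have hc : commutator ↥(S : Subgroup G) = ⊥ := by
    rw [_root_.commutator_def, commutator_eq_bot_iff_le_centralizer]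
    exact fun u _ => mem_centralizer_iff.2 fun v _ =>
      Subtype.ext (h.commute (hAS ▸ v.2) (hAS ▸ u.2))
  have hz' : (⟨z, h.closed.1 hz⟩ : ↥(S : Subgroup G)) ∈ (⊥ : Subgroup ↥(S : Subgroup G)) :=
    hc ▸ hle (mem_subgroupOf.2 hz)
  exact hz1 (congrArg Subtype.val (mem_bot.1 hz'))

/-- `A` is the centre of `S`. -/
theorem zS_eq (h : Hyp S A) (h4 : Nat.card ↥A = 4)
    (hcA : ∀ s ∈ (S : Subgroup G), ∀ a ∈ A, s * a = a * s)
    (D : Local74.Sixty4 ↥(S : Subgroup G)) : Five.zS S = A :=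
  (eq_of_le_of_card_ge (fun a ha => Five.mem_zS.2 ⟨h.closed.1 ha, fun s hs => hcA s hs a ha⟩)
    (by rw [Local74.card_zS D, h4])).symm

theorem sylow_le_centralizer (hcA : ∀ s ∈ (S : Subgroup G), ∀ a ∈ A, s * a = a * s) :
    (S : Subgroup G) ≤ centralizer (A : Set G) :=
  fun s hs => mem_centralizer_iff.2 fun a ha => (hcA s hs a ha).symm

/-- `N(S)` is transitive on `A#`. -/
theorem fusion (h : Hyp S A) (h4 : Nat.card ↥A = 4)
    (hcA : ∀ s ∈ (S : Subgroup G), ∀ a ∈ A, s * a = a * s)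
    (D : Local74.Sixty4 ↥(S : Subgroup G)) {a v : G} (ha : a ∈ A) (ha1 : a ≠ 1) (hv : v ∈ A)
    (hv1 : v ≠ 1) : ∃ n ∈ normalizer ((S : Subgroup G) : Set G), n * a * n⁻¹ = v := by
  haveI : Fact (Nat.Prime 2) := ⟨Nat.prime_two⟩
  set N := normalizer (A : Set G) with hN
  obtain ⟨n, hn, hmove⟩ : ∃ n ∈ N, n * a * n⁻¹ ≠ a := by
    by_contra hfix
    push Not at hfix
    rcases h.irreducible (zpowers a) (zpowers_le.2 ha) fun n hn x hx => by
      obtain ⟨k, rfl⟩ := hx
      rw [← conj_zpow, hfix n hn]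
      exact zpow_mem (mem_zpowers a) k with e | e
    · exact ha1 (zpowers_eq_bot.1 e)
    · exact exists_notMem_zpowers h h4 a e.ge
  set C := centralizer (A : Set G) with hC
  have hCN : C ≤ N := centralizer_le_normalizer _
  haveI : (C.subgroupOf N).Normal := (normal_subgroupOf_iff_le_normalizer hCN).2 (by
    intro g hg
    have hmap := mem_normalizer_iff.1 hg
    refine mem_normalizer_iff.2 fun c => ⟨fun hc => mem_centralizer_iff.2 fun b hb => ?_,
      fun hc => mem_centralizer_iff.2 fun b hb => ?_⟩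
    · have hb' : g⁻¹ * b * g ∈ A := (hmap _).2 (by simpa [mul_assoc] using hb)
      calc b * (g * c * g⁻¹) = g * (g⁻¹ * b * g * c) * g⁻¹ := by group
        _ = g * (c * (g⁻¹ * b * g)) * g⁻¹ := by rw [mem_centralizer_iff.1 hc _ hb']
        _ = g * c * g⁻¹ * b := by group
    · have e := mem_centralizer_iff.1 hc _ ((hmap b).1 hb)
      calc b * c = g⁻¹ * (g * b * g⁻¹ * (g * c * g⁻¹)) * g := by group
        _ = g⁻¹ * (g * c * g⁻¹ * (g * b * g⁻¹)) * g := by rw [e]
        _ = c * b := by group)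
  have hSN : (S : Subgroup G) ≤ N := h.sylow_le_normalizer
  have hfr := Sylow.normalizer_sup_eq_top' (N := C.subgroupOf N) (S.subtype hSN) (by
    rw [Sylow.coe_subtype]
    exact fun s hs => mem_subgroupOf.2 (sylow_le_centralizer hcA (mem_subgroupOf.1 hs)))
  have hmem : (⟨n, hn⟩ : ↥N) ∈ (⊤ : Subgroup ↥N) := mem_top _
  rw [← hfr, sup_comm, ← SetLike.mem_coe, normal_mul] at hmem
  obtain ⟨c, hc, g, hg, e⟩ := hmem
  have hgS : (g : G) ∈ normalizer ((S : Subgroup G) : Set G) := by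
    change g ∈ normalizer (((S : Subgroup G).subgroupOf N : Subgroup ↥N) : Set ↥N) at hg
    refine mem_normalizer_iff.2 fun s => ⟨fun hs => ?_, fun hs => ?_⟩
    · exact mem_subgroupOf.1 ((mem_normalizer_iff.1 hg ⟨s, hSN hs⟩).1 (mem_subgroupOf.2 hs))
    · have hsN : s ∈ N := by
        have := mul_mem (mul_mem (inv_mem g.2) (hSN hs)) g.2
        simpa [mul_assoc] using this
      exact mem_subgroupOf.1 ((mem_normalizer_iff.1 hg ⟨s, hsN⟩).2 (mem_subgroupOf.2 hs))
  have hzS := zS_eq h h4 hcA D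
  have hga : (g : G) * a * (g : G)⁻¹ ≠ a := fun hfix => hmove (by
    rw [show n = (c : G) * g from (congrArg Subtype.val e).symm,
      show (c : G) * g * a * ((c : G) * g)⁻¹ = c * (g * a * (g : G)⁻¹) * (c : G)⁻¹ by group, hfix,
      ← mem_centralizer_iff.1 (mem_subgroupOf.1 hc) a ha, mul_inv_cancel_right])
  obtain ⟨i, ho, hi⟩ := Local74.exists_odd_moving (hzS.symm ▸ ha : a ∈ Five.zS S) hgS hga
  have ho' := pow_mem hgS i
  have haz : a ∈ Five.zS S := hzS.symm ▸ ha
  obtain ⟨h1, -⟩ := Local74.cycle D haz ha1 ho' ho hi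
  rcases Local74.four_cases D haz (Local74.conj_mem_zS ho' haz) ha1
      (fun e => ha1 (conj_eq_one_iff.1 e)) hi (hzS.symm ▸ hv : v ∈ Five.zS S) with e | e | e | e
  · exact absurd e hv1
  · exact ⟨1, one_mem _, by rw [e]; group⟩
  · exact ⟨_, ho', e.symm⟩
  · exact ⟨_, mul_mem ho' ho', by rw [e, ← h1]; group⟩

theorem proj_injOn (hcA : ∀ s ∈ (S : Subgroup G), ∀ a ∈ A, s * a = a * s) {x : G}
    (hx : x ∈ (S : Subgroup G)) (h1 : proj A ⟨x, sylow_le_centralizer hcA hx⟩ = 1) : x = 1 :=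
  Walter.eq_one_of_mem_coreC hx ((Walter.proj_eq_one_iff _).1 h1)

/-- The Sylow 2-subgroup of `C(A)` is normal modulo the odd core. -/
theorem sylow_normal_bar (hL : PropFacts.{u}) (h : Hyp S A) (h4 : Nat.card ↥A = 4)
    (hcA : ∀ s ∈ (S : Subgroup G), ∀ a ∈ A, s * a = a * s)
    (D : Local74.Sixty4 ↥(S : Subgroup G)) :
    (((S.subtype (sylow_le_centralizer hcA)).mapSurjective (Walter.proj_surjective A) :
      Sylow 2 (CBar A)) : Subgroup (CBar A)).Normal := by
  haveI : Fact (Nat.Prime 2) := ⟨Nat.prime_two⟩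
  have hSC := sylow_le_centralizer hcA
  set T := (S.subtype hSC).mapSurjective (Walter.proj_surjective A) with hT
  have hzS := zS_eq h h4 hcA D
  have hmemA : ∀ {y : ↥(S : Subgroup G)}, y ∈ center ↥(S : Subgroup G) → (y : G) ∈ A :=
    fun {y} hy => hzS ▸ ⟨y, hy, rfl⟩
  have hmemT : ∀ {u : CBar A}, u ∈ (T : Subgroup (CBar A)) →
      ∃ y : ↥(S : Subgroup G), proj A ⟨y, hSC y.2⟩ = u := fun {u} hu => by
    rw [hT, Sylow.coe_mapSurjective, Sylow.coe_subtype] at hu
    obtain ⟨⟨y, hyC⟩, hy, rfl⟩ := hu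
    exact ⟨⟨y, mem_subgroupOf.1 hy⟩, rfl⟩
  have hTmem : ∀ y : ↥(S : Subgroup G), proj A ⟨y, hSC y.2⟩ ∈ (T : Subgroup (CBar A)) := fun y => by
    rw [hT, Sylow.coe_mapSurjective, Sylow.coe_subtype]
    exact mem_map_of_mem _ (mem_subgroupOf.2 y.2)
  have hAC : A ≤ centralizer (A : Set G) := fun a ha =>
    mem_centralizer_iff.2 fun b hb => h.commute hb ha
  have himg : ∀ {u : CBar A}, u ∈ imageBar A A → ∃ (a : G) (ha : a ∈ A),
      proj A ⟨a, hAC ha⟩ = u := fun {u} hu => by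
    obtain ⟨⟨a, haC⟩, ha, rfl⟩ := hu
    exact ⟨a, mem_subgroupOf.1 ha, rfl⟩
  refine sylow_normal hL (Walter.barCore A) (m := Nat.card G) ?_ h.below T (imageBar A A)
    ?_ ?_ ?_ ?_ ?_ ?_ ?_
  · refine lt_of_le_of_lt (Nat.le_of_dvd Nat.card_pos (card_quotient_dvd_card _)) ?_
    exact lt_of_le_of_ne (card_le_card_group _)
      fun e => RankTwoCentralizer.centralizer_ne_top h h.ne (eq_top_of_card_eq _ e)
  · intro u hu
    obtain ⟨a, ha, rfl⟩ := himg hu
    exact hTmem ⟨a, h.closed.1 ha⟩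
  · intro u hu
    obtain ⟨a, ha, rfl⟩ := himg hu
    refine mem_center_iff.2 fun v => ?_
    obtain ⟨⟨c, hc⟩, rfl⟩ := Walter.proj_surjective A v
    rw [← map_mul, ← map_mul]
    exact congrArg _ (Subtype.ext (mem_centralizer_iff.1 hc a ha).symm)
  · intro u hu
    obtain ⟨a, ha, rfl⟩ := himg hu
    rw [← map_mul, show (⟨a, hAC ha⟩ : ↥(centralizer (A : Set G))) * ⟨a, hAC ha⟩ = 1 from
      Subtype.ext (by
        show a * a = 1
        rw [← pow_two, PGroups.elemAb_pow h.elem ha]), map_one]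
  · intro u hu
    obtain ⟨y, rfl⟩ := hmemT hu
    rw [← map_mul]
    exact Walter.mem_imageBar (mul_mem (hSC y.2) (hSC y.2)) (hmemA (D.sq y))
  · intro u hu v hv
    obtain ⟨y, rfl⟩ := hmemT hu
    obtain ⟨w, rfl⟩ := hmemT hv
    rw [← map_inv, ← map_inv, ← map_mul, ← map_mul, ← map_mul]
    exact Walter.mem_imageBar (D := A)
      (mul_mem (mul_mem (mul_mem (hSC y.2) (hSC w.2)) (inv_mem (hSC y.2))) (inv_mem (hSC w.2)))
      (hmemA (Local74.cm_mem D y w))
  · intro u hu huA v hv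
    obtain ⟨y, rfl⟩ := hmemT hu
    obtain ⟨a, ha, rfl⟩ := himg hv
    obtain ⟨z, hz, hza⟩ : a ∈ Five.zS S := hzS.symm ▸ ha
    obtain ⟨t, ht⟩ := D.nd y (fun hc => huA (Walter.mem_imageBar _ (hmemA hc))) z hz
    refine ⟨_, hTmem t, ?_⟩
    rw [← map_inv, ← map_inv, ← map_mul, ← map_mul, ← map_mul]
    exact congrArg _ (Subtype.ext ((congrArg Subtype.val ht).trans hza))
  · intro u hu
    let φ : ↥A →* CBar A := (proj A).comp (Subgroup.inclusion hAC)
    have hφ : Function.Injective φ := (injective_iff_map_eq_one φ).2 fun a e =>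
      Subtype.ext (proj_injOn hcA (h.closed.1 a.2) e)
    haveI : IsCyclic ↥(imageBar A A) := isCyclic_of_le hu
    have hrange : ∀ a : ↥A, φ a ∈ imageBar A A := fun a => Walter.mem_imageBar _ a.2
    haveI : IsCyclic ↥A := isCyclic_of_injective (φ.codRestrict _ hrange)
      fun a b e => hφ (congrArg Subtype.val e)
    obtain ⟨g, hg⟩ := IsCyclic.exists_generator (α := ↥A)
    exact exists_notMem_zpowers h h4 (g : G) fun x hx => by
      obtain ⟨k, hk⟩ := mem_zpowers_iff.1 (hg ⟨x, hx⟩)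
      exact mem_zpowers_iff.2 ⟨k, by rw [← coe_zpow, hk]⟩

/-- `C(A)` is 2-closed modulo its odd core. -/
theorem twoClosed_centralizer (hL : PropFacts.{u}) (h : Hyp S A) (h4 : Nat.card ↥A = 4)
    (hcA : ∀ s ∈ (S : Subgroup G), ∀ a ∈ A, s * a = a * s)
    (D : Local74.Sixty4 ↥(S : Subgroup G)) :
    U3Type59.TwoClosed ↥(centralizer (A : Set G)) :=
  U3Type59.twoClosed_of_odd_quotient _ U3Type59.oddCore_odd'
    (U3Type59.twoClosed_of_normal _ (sylow_normal_bar hL h h4 hcA D))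

/-- `C(A) = O(C(A)) N(S)`. -/
theorem exists_coreC_mul (hL : PropFacts.{u}) (h : Hyp S A) (h4 : Nat.card ↥A = 4)
    (hcA : ∀ s ∈ (S : Subgroup G), ∀ a ∈ A, s * a = a * s)
    (D : Local74.Sixty4 ↥(S : Subgroup G)) {g : G} (hg : g ∈ centralizer (A : Set G)) :
    ∃ c ∈ coreC A, c * g ∈ centralizer (A : Set G) ⊓ normalizer ((S : Subgroup G) : Set G) := by
  haveI : Fact (Nat.Prime 2) := ⟨Nat.prime_two⟩
  set C := centralizer (A : Set G) with hC
  have hSC := sylow_le_centralizer hcA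
  have hfr := (twoClosed_centralizer hL h h4 hcA D).frattini (S.subtype hSC)
  have hmem : (⟨g, hg⟩ : ↥C) ∈ (⊤ : Subgroup ↥C) := mem_top _
  rw [← hfr, ← SetLike.mem_coe, normal_mul] at hmem
  obtain ⟨o, ho, n, hn, e⟩ := hmem
  refine ⟨(o : G)⁻¹, inv_mem ⟨o, ho, rfl⟩, ?_⟩
  rw [show g = (o : G) * n from (congrArg Subtype.val e).symm, inv_mul_cancel_left]
  refine mem_inf.2 ⟨n.2, ?_⟩
  change n ∈ normalizer (((S : Subgroup G).subgroupOf C : Subgroup ↥C) : Set ↥C) at hn
  refine mem_normalizer_iff.2 fun s => ⟨fun hs => ?_, fun hs => ?_⟩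
  · exact mem_subgroupOf.1 ((mem_normalizer_iff.1 hn ⟨s, hSC hs⟩).1 (mem_subgroupOf.2 hs))
  · have hsC : s ∈ C := by
      have := mul_mem (mul_mem (inv_mem n.2) (hSC hs)) n.2
      simpa [mul_assoc] using this
    exact mem_subgroupOf.1 ((mem_normalizer_iff.1 hn ⟨s, hsC⟩).2 (mem_subgroupOf.2 hs))

/-- Elements of odd order of `C(A)` centralising `S` lie in the core. -/
theorem mem_coreC_of_centralizes (hL : PropFacts.{u}) (h : Hyp S A) (h4 : Nat.card ↥A = 4)
    (hcA : ∀ s ∈ (S : Subgroup G), ∀ a ∈ A, s * a = a * s)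
    (D : Local74.Sixty4 ↥(S : Subgroup G)) {y : G} (hy : y ∈ centralizer (A : Set G))
    (ho : Odd (orderOf y)) (hc : ∀ s ∈ (S : Subgroup G), s * y = y * s) : y ∈ coreC A := by
  haveI : Fact (Nat.Prime 2) := ⟨Nat.prime_two⟩
  refine (Walter.proj_eq_one_iff hy).1 (U3Type59.eq_one_of_centralizes (Walter.barCore A) _
    (sylow_normal_bar hL h h4 hcA D) ?_ ?_)
  · exact ho.of_dvd_nat ((orderOf_map_dvd _ _).trans (by rw [← Subgroup.orderOf_coe]))
  · intro u hu
    rw [Sylow.coe_mapSurjective, Sylow.coe_subtype] at hu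
    obtain ⟨⟨s, hsC⟩, hs, rfl⟩ := hu
    rw [← map_mul, ← map_mul]
    exact congrArg _ (Subtype.ext (hc s (mem_subgroupOf.1 hs)))

end Cfsg.Agent.Lib.Goldschmidt53.RankTwoMin.Structure
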