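import Cfsg.Agent.Lib.Goldschmidt53.FactsCover
import Cfsg.Agent.Lib.DicksonId.Classify
import Cfsg.Agent.Lib.Walter.KnownFactsPSL
import Cfsg.Agent.Lib.Linear.Order
import Cfsg.Agent.Lib.DicksonFull.Exist

/-!
# Rank two: abelian odd subgroups centralising an involution of a known group with four-group Sylow

helper34.  In a known group with Sylow 2-subgroups of order four they are cyclic.
-/

set_option autoImplicit false
set_option linter.style.haveILetI false
set_option linter.unusedSectionVars false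

universe u

namespace Cfsg.Agent.Lib.Goldschmidt53.RankTwoMin

open Subgroup Matrix Cfsg.Agent.Lib.BinaryPSL2

section PSL

variable {F : Type} [Field F] [Fintype F] {p : ℕ} [hp : Fact p.Prime] [CharP F p]

local notation "SL2" => Matrix.SpecialLinearGroup (Fin 2) F
local notation "M2" => Matrix (Fin 2) (Fin 2) F
local notation "PSL2" => Matrix.ProjectiveSpecialLinearGroup (Fin 2) F

/-- In odd characteristic no element of order `p` commutes with an involution. -/
theorem psl_not_commute_of_pow (hp2 : p ≠ 2) {u x : PSL2} (hu : orderOf u = 2)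
    (hx : orderOf x = p) (h : u * x = x * u) : False := by
  obtain ⟨U, rfl⟩ := QuotientGroup.mk_surjective u
  obtain ⟨X, rfl⟩ := QuotientGroup.mk_surjective x
  have hxx : (X : PSL2) * (X : PSL2) ≠ 1 := fun e => by
    have := orderOf_dvd_of_pow_eq_one (show (X : PSL2) ^ 2 = 1 by rw [pow_two, e])
    rw [hx] at this
    exact hp2 ((Nat.prime_dvd_prime_iff_eq hp.out Nat.prime_two).1 this)
  have hx1 : (X : PSL2) ≠ 1 := fun e => hxx (by rw [e, mul_one])
  obtain ⟨s, v, hU⟩ := coeff_of_commute (trace_ne_zero hxx) hx1 h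
  have hXp : ((X : SL2) : PSL2) ^ p = 1 := hx ▸ pow_orderOf_eq_one _
  rw [← QuotientGroup.mk_pow] at hXp
  obtain ⟨d, hd, -⟩ := exists_diag_sign hXp
  obtain ⟨d', hd'⟩ : ∃ d' : F, ((X ^ p : SL2) : M2) = d' • 1 := by
    obtain ⟨h01, h10, h00⟩ := exists_diag_sign hXp
    refine ⟨((X ^ p : SL2) : M2) 0 0, ?_⟩
    ext i j
    fin_cases i <;> fin_cases j <;> simp_all
  refine Walter.Known.psl_pow_p_ne hp2 hu ?_
  rw [← QuotientGroup.mk_pow]
  refine DicksonFull.mk_eq_one_of_smul (a := s ^ p + v ^ p * d') ?_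
  rw [Matrix.SpecialLinearGroup.coe_pow, hU,
    add_pow_char_of_commute p (((Commute.one_left (v • (X : M2))).smul_left s)), smul_pow, smul_pow,
    one_pow, ← Matrix.SpecialLinearGroup.coe_pow, hd', smul_smul, ← add_smul]

/-- Abelian subgroups of odd order centralising an involution are cyclic. -/
theorem psl_isCyclic (hp2 : p ≠ 2) {u : PSL2} (hu : orderOf u = 2) (Y : Subgroup PSL2)
    (hY : ∀ y ∈ Y, ∀ y' ∈ Y, y * y' = y' * y) (hodd : Odd (Nat.card Y))
    (hc : ∀ y ∈ Y, u * y = y * u) : IsCyclic Y := by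
  have hpY : ¬ p ∣ Nat.card Y := fun h => by
    obtain ⟨y, hy⟩ := exists_prime_orderOf_dvd_card' p h
    exact psl_not_commute_of_pow hp2 hu (x := (y : PSL2)) (by rw [Subgroup.orderOf_coe, hy])
      (hc y y.2)
  by_cases hY1 : Y = ⊥
  · subst hY1; infer_instance
  obtain ⟨y, hy1⟩ : ∃ y : Y, y ≠ 1 := by
    by_contra h
    push Not at h
    exact hY1 ((eq_bot_iff_forall _).2 fun y hy => congrArg Subtype.val (h ⟨y, hy⟩))
  haveI : (zpowers y).Normal := ⟨fun n hn g => by
    rw [show g * n * g⁻¹ = n from Subtype.ext (by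
      simp [hY g g.2 n n.2])]
    exact hn⟩
  obtain ⟨C, hC, hi⟩ := DicksonId.psl_cyclic_of_normal (p := p) Y hpY (zpowers y) inferInstance
    fun h => hy1 (zpowers_eq_bot.1 h)
  have h2 : C.index ≠ 2 := fun h => by
    have := C.index_dvd_card
    rw [h] at this
    exact (Nat.not_even_iff_odd.2 hodd) (even_iff_two_dvd.2 this)
  have h0 : C.index ≠ 0 := C.index_ne_zero_of_finite
  have hT : C = ⊤ := Subgroup.index_eq_one.1 (by omega)
  subst hT
  exact isCyclic_of_surjective (Subgroup.topEquiv : (⊤ : Subgroup Y) ≃* Y)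
    (MulEquiv.surjective _)

end PSL

/-- The lemma for the known groups. -/
theorem isCyclic_of_known {L : Type u} [Group L] [Finite L] (hL : IsKnown L) (P : Sylow 2 L)
    (h4 : Nat.card ↥(P : Subgroup L) = 4) {u : L} (hu : orderOf u = 2) (Y : Subgroup L)
    (hY : ∀ y ∈ Y, ∀ y' ∈ Y, y * y' = y' * y) (hodd : Odd (Nat.card Y))
    (hc : ∀ y ∈ Y, u * y = y * u) : IsCyclic Y := by
  classical
  haveI : Fact (Nat.Prime 2) := ⟨Nat.prime_two⟩
  rcases hL with (⟨n, F, _, _, hn, hF, ⟨e⟩⟩ | ⟨F, _, _, hF, h5, ⟨e⟩⟩ | hJ) |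
    ⟨F, _, _, m, hm, hF, ⟨e⟩⟩ | ⟨F, _, _, n, hn, hF, ⟨e⟩⟩
  · exfalso
    have hc' : Nat.card L = Fintype.card F * (Fintype.card F ^ 2 - 1) := by
      rw [Nat.card_congr e.toEquiv, Linear.card_PSL_two_of_even (F := F)
        (hF ▸ (Nat.even_pow.2 ⟨even_two, by omega⟩))]
      have h1 : 1 ≤ Fintype.card F := Fintype.card_pos
      rw [mul_assoc]
      congr 1
      rw [mul_comm, ← Nat.sq_sub_sq, one_pow]
    have h8 : 2 ^ 3 ∣ Nat.card L :=
      hc' ▸ dvd_mul_of_dvd_left (hF ▸ pow_dvd_pow 2 hn) _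
    obtain ⟨R, hR⟩ := Sylow.exists_subgroup_card_pow_prime 2 h8
    obtain ⟨T, hT⟩ := (IsPGroup.of_card hR).exists_le_sylow
    have := Subgroup.card_le_of_le hT
    rw [hR, Sylow.card_eq_multiplicity T, ← Sylow.card_eq_multiplicity P, h4] at this
    norm_num at this
  · obtain ⟨p, hp⟩ := CharP.exists F
    haveI := hp
    obtain ⟨k, hpp, hk⟩ := FiniteField.card F p
    haveI := Fact.mk hpp
    have hp2 : p ≠ 2 := by
      rintro rfl
      have hodd : Fintype.card F % 2 = 1 := by omega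
      rw [hk, Nat.pow_mod] at hodd
      simp at hodd
    have hcyc : IsCyclic (Y.map e.toMonoidHom) := by
      refine psl_isCyclic (p := p) hp2 (u := e u) (by rw [MulEquiv.orderOf_eq, hu]) _ ?_ ?_ ?_
      · rintro _ ⟨a, ha, rfl⟩ _ ⟨b, hb, rfl⟩
        rw [← map_mul, ← map_mul, hY a ha b hb]
      · rwa [card_map_of_injective e.injective]
      · rintro _ ⟨a, ha, rfl⟩
        show e u * e a = e a * e u
        rw [← map_mul, ← map_mul, hc a ha]
    exact isCyclic_of_surjective (Y.equivMapOfInjective e.toMonoidHom e.injective).symm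
      (MulEquiv.surjective _)
  · exfalso
    have := hJ.card_sylow P
    omega
  · exfalso
    have h := (FactsCover.card_sz hm hF e P).2
    rw [h4] at h
    have h8 : 2 ^ 3 ≤ Fintype.card F := hF ▸ Nat.pow_le_pow_right two_pos (by omega)
    nlinarith
  · exfalso
    haveI : Finite (Cfsg.PSU 3 F (2 ^ n)) := Quotient.finite _
    let Q : Sylow 2 (Cfsg.PSU 3 F (2 ^ n)) := P.mapSurjective (f := e.toMonoidHom) e.surjective
    obtain ⟨c⟩ := U3Sylow.exists_coords_PSU hF Q
    have h := (Nat.card_congr c.equiv).trans (U3Sylow.card_pairs hF)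
    rw [show Nat.card ↥(Q : Subgroup (Cfsg.PSU 3 F (2 ^ n))) = 4 from
      (card_map_of_injective e.injective).trans h4] at h
    have h2 : 2 ^ 2 ≤ 2 ^ n := Nat.pow_le_pow_right two_pos hn
    nlinarith

end Cfsg.Agent.Lib.Goldschmidt53.RankTwoMin
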